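import Cfsg.Agent.S0222
import Cfsg.Agent.S0224
import Cfsg.Agent.Dickson.MaxPoly
import Cfsg.Agent.Classical.Unitary.Center

/-!
# The order of a simple group in which every involution fixes one point
-/

set_option autoImplicit false
set_option linter.style.haveILetI false

namespace CfsgLib.ItoThreeP

open Cfsg MulAction

universe u v

theorem odd_part_unique {m n L K : ℕ} (hL : Odd L) (hK : Odd K) (h : 2 ^ m * L = 2 ^ n * K) :
    m = n ∧ L = K := by
  rcases lt_trichotomy m n with hlt | heq | hlt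
  · exfalso
    obtain ⟨d, rfl⟩ : ∃ d, n = m + (d + 1) := ⟨n - m - 1, by omega⟩
    rw [pow_add, mul_assoc] at h
    have := Nat.eq_of_mul_eq_mul_left (by positivity) h
    rw [this, pow_succ, mul_comm (2 ^ d) 2, mul_assoc] at hL
    exact Nat.not_odd_iff_even.2 (even_two_mul _) hL
  · subst heq
    exact ⟨rfl, Nat.eq_of_mul_eq_mul_left (by positivity) h⟩
  · exfalso
    obtain ⟨d, rfl⟩ : ∃ d, m = n + (d + 1) := ⟨m - n - 1, by omega⟩
    rw [pow_add, mul_assoc] at h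
    have := Nat.eq_of_mul_eq_mul_left (by positivity) h
    rw [← this, pow_succ, mul_comm (2 ^ d) 2, mul_assoc] at hK
    exact Nat.not_odd_iff_even.2 (even_two_mul _) hK

/-- The arithmetic of the three families. -/
theorem bender_order {G : Type u} [Group G] [Finite G] [IsSimpleGroup G]
    (hG : ¬ IsMulCommutative G) (H : Subgroup G) (hH : Cfsg.IsStronglyEmbedded H) {m L : ℕ}
    (hcard : Nat.card G = 2 ^ m * L) (hL : Odd L) :
    L + 1 = (2 ^ m) ^ 2 ∨ 2 * L ≤ (2 ^ m) ^ 2 := by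
  have hna : ∃ a b : G, a * b ≠ b * a := by
    by_contra h
    push Not at h
    exact hG ⟨⟨h⟩⟩
  rcases Cfsg.Agent.S0222.result hna H hH with ⟨F, _, _, hchar, hq, ⟨e⟩⟩ | hsz | hu
  · haveI := hchar
    obtain ⟨n, -, hn⟩ := FiniteField.card F 2
    have hn0 : (n : ℕ) ≠ 0 := n.pos.ne'
    have heven : Even (Fintype.card F) := hn ▸ (Nat.even_pow.2 ⟨even_two, hn0⟩)
    rw [Nat.card_congr e.toEquiv, Dickson.card_psl_two heven, hn] at hcard
    have h1 : 1 ≤ (2 ^ (n : ℕ)) ^ 2 := Nat.one_le_pow _ _ (Nat.two_pow_pos _)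
    have hodd : Odd ((2 ^ (n : ℕ)) ^ 2 - 1) := by
      refine Nat.Even.sub_odd h1 ?_ odd_one
      exact Nat.even_pow.2 ⟨Nat.even_pow.2 ⟨even_two, hn0⟩, two_ne_zero⟩
    obtain ⟨rfl, rfl⟩ := odd_part_unique hodd hL hcard
    left; omega
  · obtain ⟨-, k, hk, hc⟩ := hsz
    rw [hc] at hcard
    set a := 2 * k + 1 with ha
    set q := 2 ^ a with hq
    have hq8 : 8 ≤ q := by
      rw [hq]
      calc 8 = 2 ^ 3 := by norm_num
        _ ≤ _ := Nat.pow_le_pow_right two_pos (by omega)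
    have hqe : Even q := Nat.even_pow.2 ⟨even_two, by omega⟩
    have hodd : Odd ((q ^ 2 + 1) * (q - 1)) :=
      (Even.add_one (Nat.even_pow.2 ⟨hqe, two_ne_zero⟩)).mul
        (Nat.Even.sub_odd (by omega) hqe odd_one)
    have h2 : 2 ^ (2 * a) * ((q ^ 2 + 1) * (q - 1)) = 2 ^ m * L := by
      rw [← hcard, mul_comm 2 a, pow_mul, ← hq]; ring
    obtain ⟨rfl, rfl⟩ := odd_part_unique hodd hL h2
    right
    rw [mul_comm 2 a, pow_mul, ← hq]
    have h3 : (q ^ 2 + 1) * (q - 1) ≤ (q ^ 2 + 1) * q := Nat.mul_le_mul_left _ (by omega)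
    nlinarith [Nat.mul_le_mul_left (q ^ 3) hq8]
  · obtain ⟨F, _, _, q, hF, hqe, hq4, ⟨e⟩⟩ := hu
    have hc := CfsgLib.Unitary.card_PSU (n := 3) hF (by norm_num)
    obtain ⟨p', n, hp', hn⟩ : ∃ p' n : ℕ, p'.Prime ∧ Fintype.card F = p' ^ n := by
      obtain ⟨p', _⟩ := CharP.exists F
      obtain ⟨n, hp', hn⟩ := FiniteField.card F p'
      exact ⟨p', n, hp', hn⟩
    obtain ⟨a, ha⟩ : ∃ a, q = 2 ^ a := by
      have hq : q ∣ p' ^ n := hn ▸ hF ▸ dvd_pow_self q two_ne_zero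
      obtain ⟨a, -, ha⟩ := (Nat.dvd_prime_pow hp').1 hq
      have h2 : 2 ∣ p' ^ a := ha ▸ even_iff_two_dvd.1 hqe
      exact ⟨a, by rw [ha, (Nat.prime_dvd_prime_iff_eq Nat.prime_two hp').1
        (Nat.prime_two.dvd_of_dvd_pow h2)]⟩
    simp only [Finset.prod_range_succ, Finset.prod_range_zero, one_mul] at hc
    norm_num at hc
    have hce := congrArg (fun x => x) (Nat.card_congr e.toEquiv)
    rw [← hce, hcard] at hc
    set d := Nat.gcd 3 (q + 1)
    have hd : 0 < d := Nat.gcd_pos_of_pos_left _ (by norm_num)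
    have hc' : d * (2 ^ m * L) = q ^ 3 * ((q ^ 2 - 1) * (q ^ 3 + 1)) := by
      refine Nat.eq_of_mul_eq_mul_left (show 0 < q + 1 by omega) ?_
      calc (q + 1) * (d * (2 ^ m * L)) = d * ((q + 1) * (2 ^ m * L)) := by ring
        _ = _ := by rw [hc]; ring
    have h1 : 1 ≤ q ^ 2 := Nat.one_le_pow _ _ (by omega)
    have hodd : Odd ((q ^ 2 - 1) * (q ^ 3 + 1)) :=
      (Nat.Even.sub_odd h1 (Nat.even_pow.2 ⟨hqe, two_ne_zero⟩) odd_one).mul
        (Even.add_one (Nat.even_pow.2 ⟨hqe, three_ne_zero⟩))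
    have hdodd : Odd d := Odd.of_dvd_nat (by decide : Odd 3) (Nat.gcd_dvd_left _ _)
    have h2 : 2 ^ m * (d * L) = 2 ^ (a * 3) * ((q ^ 2 - 1) * (q ^ 3 + 1)) := by
      rw [pow_mul, ← ha, ← hc']; ring
    obtain ⟨rfl, h3⟩ := odd_part_unique (hdodd.mul hL) hodd h2
    right
    rw [pow_mul, ← ha]
    have h4 : L ≤ (q ^ 2 - 1) * (q ^ 3 + 1) := by
      rw [← h3]; exact Nat.le_mul_of_pos_left _ hd
    have h5 : (q ^ 2 - 1) * (q ^ 3 + 1) ≤ q ^ 2 * (q ^ 3 + 1) := Nat.mul_le_mul_right _ (by omega)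
    have h6 : 4 * q ^ 5 ≤ q * q ^ 5 := Nat.mul_le_mul_right _ hq4
    have h7 : q ^ 2 ≤ q ^ 5 := Nat.pow_le_pow_right (by omega) (by norm_num)
    nlinarith

/-- If every involution of a transitive group fixes one point, the order is very small. -/
theorem order_of_fix_one {G : Type u} [Group G] [Finite G] [IsSimpleGroup G]
    (hG : ¬ IsMulCommutative G) {Ω : Type v} [Fintype Ω] [MulAction G Ω] [IsPretransitive G Ω]
    (α : Ω) (htwo : 1 < Fintype.card Ω) (heven : 2 ∣ Nat.card G)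
    (hfix : ∀ t : G, orderOf t = 2 → Nat.card (fixedBy Ω t) = 1) {m L : ℕ}
    (hcard : Nat.card G = 2 ^ m * L) (hL : Odd L) :
    L + 1 = (2 ^ m) ^ 2 ∨ 2 * L ≤ (2 ^ m) ^ 2 := by
  classical
  refine bender_order hG (stabilizer G α) ?_ hcard hL
  have hne : stabilizer G α ≠ ⊤ := by
    intro h
    have h1 := MulAction.index_stabilizer_of_transitive G α
    rw [h, Subgroup.index_top, Nat.card_eq_fintype_card] at h1
    omega
  have hev : Even (Nat.card (stabilizer G α)) := by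
    haveI : Fact (Nat.Prime 2) := ⟨Nat.prime_two⟩
    obtain ⟨t, ht⟩ := exists_prime_orderOf_dvd_card' 2 heven
    have h1 := hfix t ht
    obtain ⟨⟨β, hβ⟩⟩ := (Nat.card_pos_iff.1 (by rw [h1]; exact Nat.one_pos)).1
    obtain ⟨g, rfl⟩ := MulAction.exists_smul_eq G α β
    have hm : g⁻¹ * t * g ∈ stabilizer G α := by
      rw [mem_stabilizer_iff, mul_smul, mul_smul, mem_fixedBy.1 hβ, inv_smul_smul]
    have ho : orderOf (g⁻¹ * t * g) = 2 := by
      rw [show g⁻¹ * t * g = MulAut.conj g⁻¹ t by simp, MulEquiv.orderOf_eq, ht]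
    exact even_iff_two_dvd.2 (ho ▸ Subgroup.orderOf_dvd_natCard _ hm)
  refine (Cfsg.Agent.S0224.result _ hne hev).2 fun t _ ht => ?_
  rw [← hfix t ht]
  let e := (MulAction.orbitEquivQuotientStabilizer G α).symm
  have he : ∀ c : G ⧸ stabilizer G α, ((e (t • c)) : Ω) = t • (e c : Ω) := by
    intro c
    induction c using QuotientGroup.induction_on with
    | _ g => simp [e, MulAction.orbitEquivQuotientStabilizer_symm_apply, mul_smul]
  refine Nat.card_congr (Equiv.ofBijective (fun c => ⟨(e c.1 : Ω), ?_⟩) ⟨?_, ?_⟩)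
  · rw [mem_fixedBy, ← he, c.2]
  · intro x y h
    have h' : (e x.1 : Ω) = (e y.1 : Ω) := by simpa using h
    exact Subtype.ext (e.injective (Subtype.ext h'))
  · rintro ⟨x, hx⟩
    refine ⟨⟨e.symm ⟨x, MulAction.mem_orbit_iff.2 (MulAction.exists_smul_eq G α x)⟩, ?_⟩,
      Subtype.ext (by simp)⟩
    refine e.injective (Subtype.ext ?_)
    rw [he]
    simpa using mem_fixedBy.1 hx

end CfsgLib.ItoThreeP
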