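import Cfsg.Agent.ItoThreeP.CaseTwo

/-!
# The case `f = 3p - 1` does not occur
-/

set_option autoImplicit false
set_option linter.style.haveILetI false
set_option linter.unusedSectionVars false

namespace CfsgLib.ItoThreeP

open Cfsg CfsgLib MulAction CfsgLib.DihedralBlock

universe u v

variable {p : ℕ} [hp : Fact p.Prime] {G : Type u} [Group G] [Fintype G] [IsSimpleGroup G]
  {Ω : Type v} [Fintype Ω] [MulAction G Ω] [FaithfulSMul G Ω] [IsPretransitive G Ω] {a : G}

/-- An element of order thirteen on fifteen points generates its centraliser, when involutions fix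
three points. -/
theorem thirteen_centralizer (T : Three G Ω) (hΩ : Fintype.card Ω = 15) {u : G}
    (hu : orderOf u = 13) (h169 : ¬ 13 ^ 2 ∣ Nat.card G) :
    Nat.card (Subgroup.centralizer ({u} : Set G)) = 13 := by
  classical
  haveI : Fact (Nat.Prime 13) := ⟨by norm_num⟩
  set C := Subgroup.centralizer ({u} : Set G)
  have huC : u ∈ C := Subgroup.mem_centralizer_singleton_iff.2 rfl
  have hg : IsPGroup 13 (Subgroup.zpowers u) :=
    IsPGroup.of_card (n := 1) (by rw [Nat.card_zpowers, hu, pow_one])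
  have hu1 : u ≠ 1 := fun h => by rw [h, orderOf_one] at hu; norm_num at hu
  obtain ⟨x₀, hx₀⟩ : ∃ x : Ω, u • x ≠ x := by
    by_contra h
    push Not at h
    exact hu1 (FaithfulSMul.eq_of_smul_eq_smul (α := Ω) fun x => by rw [h x, one_smul])
  have horb : ∀ x : Ω, u • x ≠ x → Nat.card (orbit (Subgroup.zpowers u) x) = 13 := by
    intro x hx
    obtain ⟨k, hk⟩ := hg.card_orbit x
    have hle : Nat.card (orbit (Subgroup.zpowers u) x) ≤ 15 := by
      rw [← hΩ, ← Nat.card_eq_fintype_card]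
      exact Finite.card_subtype_le _
    rcases Nat.lt_or_ge k 1 with h0 | h0
    · exfalso
      obtain rfl : k = 0 := by omega
      rw [pow_zero, Nat.card_eq_one_iff_unique] at hk
      haveI := hk.1
      exact hx (congrArg Subtype.val (Subsingleton.elim
        (⟨u • x, ⟨⟨u, Subgroup.mem_zpowers u⟩, rfl⟩⟩ : orbit (Subgroup.zpowers u) x)
        ⟨x, mem_orbit_self x⟩))
    · rcases Nat.lt_or_ge k 2 with h2 | h2
      · rw [hk, show k = 1 by omega, pow_one]
      · exfalso
        have := Nat.pow_le_pow_right (show 0 < 13 by norm_num) h2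
        omega
  -- the moved points form one orbit
  have hone : ∀ x : Ω, u • x ≠ x → x ∈ orbit (Subgroup.zpowers u) x₀ := by
    intro x hx
    by_contra hnot
    have hd : Disjoint (orbit (Subgroup.zpowers u) x).toFinset
        (orbit (Subgroup.zpowers u) x₀).toFinset := by
      rw [Finset.disjoint_left]
      intro y h1 h2
      rw [Set.mem_toFinset] at h1 h2
      refine hnot ?_
      rw [← orbit_eq_iff] at h1 h2 ⊢
      rw [← h1, h2]
    have h := Finset.card_le_univ
      ((orbit (Subgroup.zpowers u) x).toFinset ∪ (orbit (Subgroup.zpowers u) x₀).toFinset)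
    rw [Finset.card_union_of_disjoint hd, Set.toFinset_card, Set.toFinset_card,
      ← Nat.card_eq_fintype_card, ← Nat.card_eq_fintype_card, horb x hx, horb x₀ hx₀, hΩ] at h
    omega
  have hprime : ∀ r : ℕ, r.Prime → r ∣ Nat.card C → r = 13 := by
    intro r hr hrd
    haveI : Fact r.Prime := ⟨hr⟩
    by_contra hne
    obtain ⟨⟨g, hgC⟩, hgo⟩ := exists_prime_orderOf_dvd_card' r hrd
    rw [Subgroup.orderOf_mk] at hgo
    have hc : Commute g u := Subgroup.mem_centralizer_singleton_iff.1 hgC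
    have hgx : u • g • x₀ ≠ g • x₀ := fun e => hx₀ (MulAction.injective g (by
      show g • u • x₀ = g • x₀
      rw [← mul_smul, hc.eq, mul_smul]; exact e))
    obtain ⟨⟨z, hz⟩, hzx⟩ := hone _ hgx
    obtain ⟨i, rfl⟩ := Subgroup.mem_zpowers_iff.1 hz
    have hzx' : (u ^ i) • x₀ = g • x₀ := hzx
    have hpw : ∀ n : ℕ, g ^ n • x₀ = (u ^ (i * n)) • x₀ := by
      intro n
      induction n with
      | zero => simp
      | succ n ih =>
        rw [pow_succ', mul_smul, ih, ← mul_smul, (hc.zpow_right (i * n)).eq, mul_smul, ← hzx',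
          ← mul_smul, ← zpow_add]
        congr 2
        push_cast; ring
    have h1 : (u ^ (i * r)) • x₀ = x₀ := by rw [← hpw r, ← hgo, pow_orderOf_eq_one, one_smul]
    have hi : (13 : ℤ) ∣ i := by
      by_contra hi
      have hcop : IsCoprime (i * r) (13 : ℤ) := by
        have h13 : Prime (13 : ℤ) := Int.prime_iff_natAbs_prime.2 (by norm_num)
        refine (h13.coprime_iff_not_dvd.2 fun h => ?_).symm
        rcases h13.dvd_mul.1 h with h | h
        · exact hi h
        · have h' : 13 ∣ r := by exact_mod_cast h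
          exact hne ((Nat.prime_dvd_prime_iff_eq (by norm_num) hr).1 h').symm
      obtain ⟨m, n, hmn⟩ := hcop
      refine hx₀ ?_
      have h13 : u ^ (13 : ℤ) = 1 := by
        rw [show (13 : ℤ) = ((13 : ℕ) : ℤ) from rfl, zpow_natCast, ← hu, pow_orderOf_eq_one]
      have e : u = (u ^ (i * r)) ^ m := by
        rw [← zpow_mul]
        conv_lhs => rw [← zpow_one u, ← hmn]
        rw [zpow_add, mul_comm n 13, zpow_mul u 13 n, h13, one_zpow, mul_one, mul_comm m]
      rw [e]
      exact mem_stabilizer_iff.1 ((stabilizer G x₀).zpow_mem h1 m)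
    have hgx₀ : g • x₀ = x₀ := by
      obtain ⟨j, rfl⟩ := hi
      rw [← hzx', zpow_mul, show (13 : ℤ) = ((13 : ℕ) : ℤ) from rfl, zpow_natCast, ← hu,
        pow_orderOf_eq_one, one_zpow, one_smul]
    -- `g` fixes the orbit
    have hsub : orbit (Subgroup.zpowers u) x₀ ⊆ fixedBy Ω g := by
      rintro _ ⟨⟨z, hz⟩, rfl⟩
      obtain ⟨j, rfl⟩ := Subgroup.mem_zpowers_iff.1 hz
      show g • (u ^ j) • x₀ = (u ^ j) • x₀
      rw [← mul_smul, (hc.zpow_right j).eq, mul_smul, hgx₀]
    have h13 : 13 ≤ Nat.card (fixedBy Ω g) := by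
      rw [← horb x₀ hx₀]
      exact Nat.card_mono (Set.toFinite _) hsub
    rcases eq_or_ne r 2 with rfl | hr2
    · rw [T.fix3 g hgo] at h13; omega
    have hr3 : 3 ≤ r := by have := hr.two_le; omega
    have hgr : IsPGroup r (Subgroup.zpowers g) :=
      IsPGroup.of_card (n := 1) (by rw [Nat.card_zpowers, hgo, pow_one])
    have hfix : fixedPoints (Subgroup.zpowers g) Ω = fixedBy Ω g := by
      ext x
      constructor
      · intro h; exact h ⟨g, Subgroup.mem_zpowers g⟩
      · rintro h ⟨g', hg'⟩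
        obtain ⟨j, rfl⟩ := Subgroup.mem_zpowers_iff.1 hg'
        exact MulAction.mem_stabilizer_iff.1 ((stabilizer G x).zpow_mem h j)
    have hmod := hgr.card_modEq_card_fixedPoints Ω
    rw [hfix] at hmod
    have hle : Nat.card (fixedBy Ω g) ≤ Nat.card Ω := Finite.card_subtype_le _
    have hd := (Nat.modEq_iff_dvd' hle).1 hmod.symm
    rw [Nat.card_eq_fintype_card (α := Ω), hΩ] at hd hle
    have hlt : Nat.card (fixedBy Ω g) ≠ 15 := by
      intro h
      have hall : fixedBy Ω g = Set.univ := Set.eq_of_subset_of_ncard_le (Set.subset_univ _) (by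
        rw [Set.ncard_univ, Nat.card_eq_fintype_card, hΩ, ← Nat.card_coe_set_eq, h]) (Set.toFinite _)
      have hg1 : g = 1 := FaithfulSMul.eq_of_smul_eq_smul (α := Ω) fun x => by
        rw [one_smul]; exact (hall ▸ Set.mem_univ x : x ∈ fixedBy Ω g)
      rw [hg1, orderOf_one] at hgo
      omega
    have := Nat.le_of_dvd (by omega) hd
    omega
  obtain ⟨k, hk⟩ : ∃ k, Nat.card C = 13 ^ k :=
    ⟨_, Nat.eq_prime_pow_of_unique_prime_dvd Nat.card_pos.ne' fun {q} hq hqd => hprime q hq hqd⟩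
  have hk1 : 13 ∣ Nat.card C := hu ▸ Subgroup.orderOf_dvd_natCard C huC
  rcases Nat.lt_or_ge k 2 with h | h
  · interval_cases k
    · rw [hk] at hk1; norm_num at hk1
    · rw [hk, pow_one]
  · exact absurd ((pow_dvd_pow 13 h).trans (hk ▸ Subgroup.card_subgroup_dvd_card C)) h169

namespace Hyp

variable (H : Hyp p G Ω a)
include H

theorem not_three_case (D : Data p G a) (hf : D.f = 3 * p - 1) (hη : D.η = -1) (hε : D.ε = -1)
    (hπ : ∀ g : G, Chars.PermChar.fixChar G Ω g = 1 + (D.ψ : G → ℂ) g) : False := by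
  classical
  have hp3 := H.hp3
  haveI : Fact (Nat.Prime 2) := ⟨Nat.prime_two⟩
  obtain ⟨t₀, ht₀o, ht₀⟩ := H.exists_inverter
  obtain ⟨hfix3, hψ₀, heq₀⟩ := H.three_case D hf hη hπ ht₀o ht₀
  have T := H.three_of_fix D ht₀o ht₀ hfix3
  have h4 := H.four_dvd_pred ht₀o hfix3
  have hz₀ := H.centralizer_two D ht₀o ht₀
  set g2 := (p - 1).factorization 2 with hg2
  have hg22 : 2 ≤ g2 := (Nat.prime_two.pow_dvd_iff_le_factorization (show p - 1 ≠ 0 by omega)).1 h4
  obtain ⟨hv1, hv2⟩ := two_pow_val (show p - 1 ≠ 0 by omega) hg2.symm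
  set K := (Nat.card G).factorization 2 with hK
  have hKg : K + 1 = 2 * g2 := by
    have hA : 9 * (p - 1) ^ 2 ≠ 0 := Nat.mul_ne_zero (by norm_num) (pow_ne_zero 2 (by omega))
    have hB : p * ((3 * p - 1) * (3 * p - 2)) ≠ 0 :=
      Nat.mul_ne_zero hp.out.ne_zero (Nat.mul_ne_zero (by omega) (by omega))
    have h5 := H.factorization_count hA hB Nat.card_pos.ne' hz₀ rfl
      (show Nat.card G * (9 * (p - 1) ^ 2) =
        Nat.card (Subgroup.centralizer ({t₀} : Set G)) ^ 2 * (p * ((3 * p - 1) * (3 * p - 2))) by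
        rw [heq₀]; ring)
    obtain ⟨q, hq⟩ := h4
    have hA2 : (9 * (p - 1) ^ 2).factorization 2 = 2 * g2 := by
      rw [Nat.factorization_mul (by norm_num) (pow_ne_zero 2 (by omega)), Finsupp.add_apply,
        Nat.factorization_eq_zero_of_not_dvd (show ¬ 2 ∣ 9 by norm_num), Nat.factorization_pow,
        Finsupp.smul_apply, smul_eq_mul, zero_add]
    have hB2 : (p * ((3 * p - 1) * (3 * p - 2))).factorization 2 = 1 := by
      refine factorization_two_eq 1 (p * (6 * q + 1) * (3 * p - 2)) ?_ ?_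
      · rw [show 3 * p - 1 = 2 * (6 * q + 1) by omega]; ring
      · refine Nat.odd_iff.1 ((H.odd.mul ?_).mul ?_) <;> rw [Nat.odd_iff] <;> omega
    rw [hA2, hB2] at h5
    omega
  have hodd : Odd (Fintype.card Ω) := by rw [H.hΩ]; exact (by decide : Odd 3).mul H.odd
  have hc3 : ∀ m, Nat.Coprime (2 ^ m) 3 := fun m =>
    ((Nat.coprime_primes Nat.prime_two Nat.prime_three).2 (by norm_num)).pow_left _
  have h33 : Fintype.card Ω - 3 = 3 * (p - 1) := by rw [H.hΩ]; omega
  have hnd : ¬ 2 ^ K ∣ Fintype.card Ω - 3 := by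
    rw [h33]
    intro h
    exact hv2 ((pow_dvd_pow 2 (show g2 + 1 ≤ K by omega)).trans ((hc3 K).dvd_mul_left.1 h))
  obtain ⟨S, α, β, γ, δ, t, w, F⟩ := exists_frame T hodd hK.symm (by omega) hnd
  have hK3 : K = 3 := by
    have h := F.half_dvd hK.symm
    rw [h33, show K = K - 1 + 1 by omega, pow_succ, mul_comm _ 2] at h
    have h' := (hc3 _).dvd_mul_left.1 (Nat.dvd_of_mul_dvd_mul_left two_pos h)
    have := (Nat.prime_two.pow_dvd_iff_le_factorization (show p - 1 ≠ 0 by omega)).1 h'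
    omega
  obtain ⟨σ, hd, hz⟩ := F.exists_dih (hK ▸ hK3)
  obtain ⟨O, hO, hOodd, hOcard⟩ := F.exists_oddCore hd hz
  obtain ⟨M, hM⟩ := Blocks.exists_isPModular 2 Nat.prime_two
  have hty : ∀ y : O, 2 ∣ orderOf (t * (y : G)) ∧ ¬ 4 ∣ orderOf (t * (y : G)) := fun y => by
    rw [F.orderOf_mul_t hO y.2]
    refine ⟨dvd_mul_right _ _, fun h => ((hO y).1 y.2).2 ?_⟩
    exact Nat.dvd_of_mul_dvd_mul_left two_pos (show 2 * 2 ∣ 2 * orderOf (y : G) from h)
  have hθ2 : ∀ θ ∈ D.Y, ∀ g : G, 2 ∣ orderOf g →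
      (θ : G → ℂ) g = (Nat.card (fixedBy Ω g) : ℂ) - 2 := by
    intro θ hθ g hg
    have h := D.rel g (H.regular_of_even hg)
    have h' := hπ g
    rw [hε, hη] at h
    push_cast at h
    rw [Chars.PermChar.fixChar] at h'
    rw [D.regular θ hθ g (H.regular_of_even hg)]
    linear_combination -h - h'
  have hθB : ∀ θ ∈ D.Y, θ ∈ principalBlock M G := by
    intro θ hθ
    refine (F.mem_or_sum_eq_zero T hd hz hM hO θ).resolve_right fun h => ?_
    rw [Finset.sum_congr rfl fun (y : O) _ => hθ2 θ hθ _ (hty y).1] at h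
    exact F.sum_fix_sub_two_ne_zero T hO hOodd h
  have ht2 : 2 ∣ orderOf t := by rw [F.t_ord]
  have hfix : ∀ y : O, Nat.card (fixedBy Ω (t * (y : G))) = 3 := by
    intro y
    obtain ⟨hy1, hy2⟩ := (hO _).1 y.2
    rcases F.fix_mul T hy1 hy2 with ⟨-, h⟩ | h
    · exact h
    exfalso
    have he := F.apply_section T hd hz hM (hθB D.θ D.θ_mem) (hty y).1 (hty y).2
    rw [hθ2 _ D.θ_mem _ (hty y).1, hθ2 _ D.θ_mem t ht2, h, T.fix3 t F.t_ord] at he
    norm_num at he
  have hψt : ∀ g : G, Nat.card (fixedBy Ω g) = 3 → (D.ψ : G → ℂ) g = 2 := by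
    intro g hg
    have h := hπ g
    rw [Chars.PermChar.fixChar, hg] at h
    push_cast at h
    linear_combination -h
  have hψB : D.ψ ∈ principalBlock M G := by
    refine (F.mem_or_sum_eq_zero T hd hz hM hO D.ψ).resolve_right fun h => ?_
    rw [Finset.sum_congr rfl fun (y : O) _ => hψt _ (hfix y), Finset.sum_const, Finset.card_univ,
      nsmul_eq_mul, mul_eq_zero, Nat.cast_eq_zero] at h
    exact h.elim Fintype.card_ne_zero (by norm_num)
  -- the column of `t`
  have hp7 : D.Y.card ≤ 3 := by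
    have h8 := F.sum_sq hd hz hM
    have hsub : insert (Chars.oneChar G) (insert D.ψ D.Y) ⊆ B0 (G := G) M := by
      intro χ hχ
      simp only [Finset.mem_insert] at hχ
      rcases hχ with rfl | rfl | hχ
      · exact oneChar_mem_B0 hM
      · exact mem_B0.2 hψB
      · exact mem_B0.2 (hθB χ hχ)
    rw [← Finset.sum_sdiff hsub, Finset.sum_insert (by simp [D.ψ_ne.symm, D.one_notMem]),
      Finset.sum_insert D.ψ_notMem, hψt t (T.fix3 t F.t_ord), Chars.oneChar_apply,
      Finset.sum_congr rfl (fun χ (hχ : χ ∈ D.Y) => show (χ : G → ℂ) t * (χ : G → ℂ) t = 1 by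
        rw [hθ2 χ hχ t ht2, T.fix3 t F.t_ord]; norm_num),
      Finset.sum_const, nsmul_eq_mul, mul_one] at h8
    have hsq : ∀ χ : IrrCharacter G, ∃ r : ℤ, (χ : G → ℂ) t * (χ : G → ℂ) t = ((r : ℤ) : ℂ) ∧ 0 ≤ r := by
      intro χ
      obtain ⟨s, hs, -⟩ := exists_value_two χ F.t_ord
      exact ⟨s * s, by rw [hs]; push_cast; ring, mul_self_nonneg s⟩
    choose r hr hr0 using hsq
    simp only [hr] at h8
    have h9 : (∑ χ ∈ B0 (G := G) M \ insert (Chars.oneChar G) (insert D.ψ D.Y), r χ) +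
        (1 + (4 + (D.Y.card : ℤ))) = 8 := by
      refine Int.cast_injective (α := ℂ) ?_
      push_cast
      linear_combination h8
    have := Finset.sum_nonneg (s := B0 (G := G) M \ insert (Chars.oneChar G) (insert D.ψ D.Y))
      (fun χ _ => hr0 χ)
    omega
  have hp5 : p = 5 := by
    have := D.cardY
    omega
  subst hp5
  -- the order
  set o := Nat.card O with hodef
  have hc : Nat.card (Subgroup.centralizer ({t₀} : Set G)) = 8 * o := by
    obtain ⟨x, hx⟩ := isConj_iff.1 (T.conj t₀ t ht₀o F.t_ord)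
    rw [← hOcard, ← card_comap_conj x (Subgroup.centralizer ({t} : Set G))]
    suffices e' : (Subgroup.centralizer ({t} : Set G)).comap (MulAut.conj x).toMonoidHom =
        Subgroup.centralizer ({t₀} : Set G) by rw [e']
    ext y
    simp only [Subgroup.mem_comap, MulEquiv.coe_toMonoidHom, MulAut.conj_apply,
      Subgroup.mem_centralizer_singleton_iff]
    rw [← hx]
    exact Commute.conj_iff x
  have h9 : Nat.card G * 9 = 3640 * o ^ 2 := by
    rw [hc] at heq₀
    have e : Nat.card G * 144 = 5 * (8 * o) ^ 2 * 182 := by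
      rw [← show 9 * (5 - 1) ^ 2 = 144 by rfl, ← show (3 * 5 - 1) * (3 * 5 - 2) = 182 by rfl]
      exact heq₀
    linarith
  obtain ⟨h, hh⟩ : 3 ∣ o := by
    refine Nat.prime_three.dvd_of_dvd_pow (n := 2) ?_
    refine (Nat.Coprime.dvd_mul_left (by norm_num : Nat.Coprime 3 3640)).1 ?_
    exact ⟨Nat.card G * 3, by rw [← h9]; ring⟩
  have hG : Nat.card G = 3640 * h ^ 2 := by
    refine Nat.eq_of_mul_eq_mul_right (show 0 < 9 by norm_num) ?_
    rw [h9, hh]; ring
  have hhodd : Odd h := Odd.of_dvd_nat hOodd ⟨3, by rw [hh]; ring⟩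
  obtain ⟨α₀⟩ := H.nonempty_pts
  have hne : stabilizer G α₀ ≠ ⊤ := by
    intro h'
    have h1 := index_stabilizer_of_transitive G α₀
    rw [h', Subgroup.index_top, Nat.card_eq_fintype_card, H.hΩ] at h1
    omega
  have hdiv := SmallSimple.card_dvd_factorial_index H.nc (stabilizer G α₀) hne
  rw [index_stabilizer_of_transitive, Nat.card_eq_fintype_card (α := Ω), H.hΩ, hG,
    show Nat.factorial (3 * 5) = 7280 * 179625600 by rfl,
    show 2 * (3640 * h ^ 2) = 7280 * h ^ 2 by ring] at hdiv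
  have hdiv' : h ^ 2 ∣ 179625600 := Nat.dvd_of_mul_dvd_mul_left (by norm_num) hdiv
  have h5 : ¬ 5 ∣ h := fun h' => H.not_sq_dvd (by
    obtain ⟨j, hj⟩ := h'
    exact ⟨3640 * j ^ 2, by rw [hG, hj]; ring⟩)
  have hh27 : h ∣ 27 := by
    have hle : ∀ q : ℕ, q.Prime → q ∣ h → q = 3 := by
      intro q hq hqo
      have h4' : q ^ 2 ∣ 179625600 := (pow_dvd_pow_of_dvd hqo 2).trans hdiv'
      have hq13 : q ≤ 13 := by
        by_contra hgt
        have : q ∣ 2 ^ 7 * 3 ^ 6 * 5 ^ 2 * 7 * 11 := (dvd_pow_self q two_ne_zero).trans h4'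
        simp only [hq.dvd_mul] at this
        rcases this with (((h | h) | h) | h) | h <;>
          first
          | (have := Nat.le_of_dvd (by norm_num) (hq.dvd_of_dvd_pow h); omega)
          | (have := Nat.le_of_dvd (by norm_num) h; omega)
      have := hq.two_le
      have hq2 : q ≠ 2 := fun e => Nat.not_even_iff_odd.2 hhodd (even_iff_two_dvd.2 (e ▸ hqo))
      have hq5 : q ≠ 5 := fun e => h5 (e ▸ hqo)
      interval_cases q <;> first
        | rfl
        | omega
        | (exfalso; norm_num at hq; done)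
        | (exfalso; norm_num at h4'; done)
    obtain ⟨j, rfl⟩ : ∃ j, h = 3 ^ j := ⟨_, Nat.eq_prime_pow_of_unique_prime_dvd hhodd.pos.ne'
      fun {q} hq hqo => hle q hq hqo⟩
    rcases Nat.lt_or_ge j 4 with hj | hj
    · exact (pow_dvd_pow 3 (show j ≤ 3 by omega)).trans (by norm_num)
    · exfalso
      have : (3 ^ 4) ^ 2 ∣ 179625600 := (pow_dvd_pow_of_dvd (pow_dvd_pow 3 hj) 2).trans hdiv'
      norm_num at this
  have hh' : h = 1 ∨ h = 3 ∨ h = 9 ∨ h = 27 := by
    obtain ⟨i, hi, rfl⟩ := (Nat.dvd_prime_pow Nat.prime_three).1 (show h ∣ 3 ^ 3 from hh27)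
    interval_cases i <;> simp
  -- the element of order thirteen
  haveI : Fact (Nat.Prime 13) := ⟨by norm_num⟩
  have h169 : ¬ 13 ^ 2 ∣ Nat.card G := by
    rw [hG]
    rcases hh' with rfl | rfl | rfl | rfl <;> norm_num
  obtain ⟨Q⟩ := (inferInstance : Nonempty (Sylow 13 G))
  have h13 : 13 ∣ Nat.card G := hG ▸ ⟨280 * h ^ 2, by ring⟩
  have hQc : Nat.card (Q : Subgroup G) = 13 := by
    rw [Q.card_eq_multiplicity]
    have h1 := (Nat.Prime.pow_dvd_iff_le_factorization (by norm_num : Nat.Prime 13)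
      (k := 2) Nat.card_pos.ne').not.1 h169
    have h2 := (by norm_num : Nat.Prime 13).factorization_pos_of_dvd Nat.card_pos.ne' h13
    rw [show (Nat.card G).factorization 13 = 1 by omega, pow_one]
  haveI := isCyclic_of_prime_card hQc
  obtain ⟨⟨u, huQ⟩, hgen⟩ := IsCyclic.exists_generator (α := (Q : Subgroup G))
  have huQ' : Subgroup.zpowers u = (Q : Subgroup G) := by
    refine le_antisymm (Subgroup.zpowers_le.2 huQ) fun x hx => ?_
    obtain ⟨j, hj⟩ := Subgroup.mem_zpowers_iff.1 (hgen ⟨x, hx⟩)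
    exact Subgroup.mem_zpowers_iff.2 ⟨j, by simpa using congrArg Subtype.val hj⟩
  have huo : orderOf u = 13 := by rw [← Nat.card_zpowers, huQ', hQc]
  set N := Subgroup.normalizer ((Q : Subgroup G) : Set G) with hN
  set C := Subgroup.centralizer ((Q : Subgroup G) : Set G) with hC
  have hCc : Nat.card C = 13 := by
    rw [hC, ← huQ', Blocks.HeightZero.centralizer_zpowers_eq]
    exact thirteen_centralizer T (by rw [H.hΩ]) huo h169
  have hrel : C.relIndex N ∣ 12 := by
    have h1 : C.subgroupOf N = (Q : Subgroup G).normalizerMonoidHom.ker :=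
      ((Q : Subgroup G).normalizerMonoidHom_ker).symm
    have h2 : (C.subgroupOf N).index ∣ Nat.card (MulAut (Q : Subgroup G)) := by
      rw [h1, Subgroup.index_ker]
      exact Subgroup.card_subgroup_dvd_card _
    rw [IsCyclic.card_mulAut, hQc, Nat.totient_prime (by norm_num)] at h2
    exact h2
  have hNc : Nat.card N = 13 * C.relIndex N := by
    rw [← hCc, ← Subgroup.relIndex_bot_left, ← Subgroup.relIndex_bot_left,
      Subgroup.relIndex_mul_relIndex _ _ _ bot_le (Subgroup.centralizer_le_normalizer _)]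
  have hn : Nat.card (Sylow 13 G) * Nat.card N = Nat.card G := by
    rw [Sylow.card_eq_index_normalizer Q, mul_comm]
    exact N.card_mul_index
  have hmod := card_sylow_modEq_one 13 G
  rw [hNc, hG] at hn
  generalize Nat.card (Sylow 13 G) = n at hn hmod
  generalize C.relIndex N = e at hn hrel
  have he : e ∈ Nat.divisors 12 := Nat.mem_divisors.2 ⟨hrel, by norm_num⟩
  rw [show Nat.divisors 12 = {1, 2, 3, 4, 6, 12} by decide] at he
  simp only [Finset.mem_insert, Finset.mem_singleton] at he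
  unfold Nat.ModEq at hmod
  rcases hh' with rfl | rfl | rfl | rfl <;> rcases he with rfl | rfl | rfl | rfl | rfl | rfl <;>
    omega

end Hyp

end CfsgLib.ItoThreeP
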