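import Cfsg.Agent.ItoThreeP.Local
import Cfsg.Agent.S0497

/-!
# The case `f = 2p - 1`: the alternating group of degree six
-/

set_option autoImplicit false
set_option linter.style.haveILetI false
set_option linter.unusedSectionVars false

namespace CfsgLib.ItoThreeP

open Cfsg CfsgLib MulAction CfsgLib.DihedralBlock

universe u v

variable {p : ℕ} [hp : Fact p.Prime] {G : Type u} [Group G] [Fintype G] [IsSimpleGroup G]
  {Ω : Type v} [Fintype Ω] [MulAction G Ω] [FaithfulSMul G Ω] [IsPretransitive G Ω] {a : G}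

theorem two_pow_val {n : ℕ} (hn : n ≠ 0) {k : ℕ} (h : n.factorization 2 = k) :
    2 ^ k ∣ n ∧ ¬ 2 ^ (k + 1) ∣ n := by
  refine ⟨h ▸ Nat.ordProj_dvd n 2, fun h2 => ?_⟩
  have := (Nat.prime_two.pow_dvd_iff_le_factorization hn).1 h2
  omega

theorem int_arith {b l : ℤ} (hb : 2 * b + 1 ≠ 0) {k : ℤ} (h : 2 * k = b * (2 * b + 1) * l ^ 2)
    (hk : 2 * k = (2 * b + 1) * (3 * b + 1) ∨ k = 2 * b * (3 * b + 1)) :
    b = 1 ∨ b = -1 ∨ b = 0 := by
  rcases hk with hk | hk
  · have h' : 3 * b + 1 = b * l ^ 2 := by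
      refine mul_left_cancel₀ hb ?_
      linear_combination h - hk
    have hd : b ∣ 1 := ⟨l ^ 2 - 3, by linear_combination h'⟩
    rcases Int.isUnit_iff.1 (isUnit_of_dvd_one hd) with e | e <;> omega
  · rcases eq_or_ne b 0 with rfl | hb0
    · exact Or.inr (Or.inr rfl)
    have h' : 4 * (3 * b + 1) = (2 * b + 1) * l ^ 2 := by
      refine mul_left_cancel₀ hb0 ?_
      linear_combination h - 2 * hk
    have hd : (2 * b + 1) ∣ 2 := ⟨6 - l ^ 2, by linear_combination -h'⟩
    have hle := Int.le_of_dvd two_pos hd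
    have hd' := Int.le_of_dvd two_pos (Int.neg_dvd.2 hd)
    omega

/-- The permutation representation of the stabiliser on two pieces. -/
theorem stab_dvd_orbit (α β : Ω) (hβ : β ≠ α) :
    ∃ n : ℕ, n + Nat.card (orbit (stabilizer G α) β) = Fintype.card Ω - 1 ∧
      Nat.card (stabilizer G α) ∣
        (Nat.card (orbit (stabilizer G α) β)).factorial * n.factorial := by
  classical
  set Hs := stabilizer G α
  let O := orbit Hs β
  have hO : ∀ (h : Hs) (x : Ω), (h : G) • x ∈ O ↔ x ∈ O := fun h x => by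
    show h • x ∈ orbit Hs β ↔ x ∈ orbit Hs β
    rw [← orbit_eq_iff, ← orbit_eq_iff, orbit_smul]
  let X : Set Ω := {x | x ∉ O ∧ x ≠ α}
  have hX : ∀ (h : Hs) (x : Ω), (h : G) • x ∈ X ↔ x ∈ X := fun h x => by
    refine and_congr (not_congr (hO h x)) (not_congr ?_)
    conv_lhs => rw [← mem_stabilizer_iff.1 h.2]
    exact (MulAction.injective (h : G)).eq_iff
  let f1 : Hs →* Equiv.Perm O :=
    { toFun := fun h => (MulAction.toPerm (h : G) : Equiv.Perm Ω).subtypePerm (hO h)
      map_one' := by ext x; simp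
      map_mul' := fun g h => Equiv.ext fun x => Subtype.ext (mul_smul (g : G) (h : G) (x : Ω)) }
  let f2 : Hs →* Equiv.Perm X :=
    { toFun := fun h => (MulAction.toPerm (h : G) : Equiv.Perm Ω).subtypePerm (hX h)
      map_one' := by ext x; simp
      map_mul' := fun g h => Equiv.ext fun x => Subtype.ext (mul_smul (g : G) (h : G) (x : Ω)) }
  have hinj : Function.Injective (f1.prod f2) := by
    intro g h e
    refine Subtype.ext (FaithfulSMul.eq_of_smul_eq_smul (α := Ω) fun x => ?_)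
    by_cases hxO : x ∈ O
    · exact congrArg Subtype.val (Equiv.ext_iff.1 (congrArg Prod.fst e) ⟨x, hxO⟩)
    by_cases hxα : x = α
    · rw [hxα, mem_stabilizer_iff.1 g.2, mem_stabilizer_iff.1 h.2]
    · exact congrArg Subtype.val (Equiv.ext_iff.1 (congrArg Prod.snd e) ⟨x, hxO, hxα⟩)
  refine ⟨Nat.card X, ?_, ?_⟩
  · have hαO : α ∉ O := fun ⟨g, hg⟩ =>
      hβ (MulAction.injective (g : G) (hg.trans (mem_stabilizer_iff.1 g.2).symm))
    have hun : X.toFinset ∪ O.toFinset = Finset.univ.erase α := by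
      ext x
      by_cases hxO : x ∈ O
      · have : x ≠ α := fun e => hαO (e ▸ hxO)
        simp [X, hxO, this]
      · simp [X, hxO]
    have hd1 : Disjoint X.toFinset O.toFinset := by
      rw [Finset.disjoint_left]
      intro x h1 h2
      rw [Set.mem_toFinset] at h1 h2
      exact h1.1 h2
    have h := congrArg Finset.card hun
    rw [Finset.card_union_of_disjoint hd1, Finset.card_erase_of_mem (Finset.mem_univ α),
      Finset.card_univ, Set.toFinset_card, Set.toFinset_card] at h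
    rw [Nat.card_eq_fintype_card, Nat.card_eq_fintype_card, h]
  · have h := Subgroup.card_dvd_of_injective _ hinj
    rwa [Nat.card_prod, Nat.card_perm, Nat.card_perm] at h

namespace Hyp

variable (H : Hyp p G Ω a)
include H

theorem three_of_fix (D : Data p G a) {t : G} (hto : orderOf t = 2) (ht : t * a * t = a⁻¹)
    (h3 : Nat.card (fixedBy Ω t) = 3) : Three G Ω := by
  have ht2 : t * t = 1 := sq_one_of_ord hto
  exact ⟨H.fix_all D hto ht h3, fun s s' hs hs' =>
    (H.isConj_inverter D ht ht2 hs).symm.trans (H.isConj_inverter D ht ht2 hs')⟩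

/-- An element of even order has order prime to `p`. -/
theorem regular_of_even {g : G} (hg : 2 ∣ orderOf g) : ¬ p ∣ orderOf g := fun h => by
  rw [H.orderOf_of_dvd h] at hg
  obtain ⟨q, hq⟩ := H.odd
  omega

/-- In the case `f = 2p - 1` the group is the alternating group of degree six. -/
theorem two_case_result (D : Data p G a) (hf : D.f = 2 * p - 1) (hη : D.η = -1) (hε : D.ε = -1)
    (hx : D.x + 1 = D.f)
    (φ : IrrCharacter G) (h1 : φ ≠ Chars.oneChar G) (h2 : φ ≠ D.ψ) (h3 : φ ∉ D.Y)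
    (hφ : charDegree (φ : G → ℂ) = p)
    (hπ : ∀ g : G, Chars.PermChar.fixChar G Ω g = 1 + (D.ψ : G → ℂ) g + (φ : G → ℂ) g) :
    p = 5 ∧ Nonempty (G ≃* ↥(alternatingGroup (Fin 6))) := by
  classical
  have hp3 := H.hp3
  haveI : Fact (Nat.Prime 2) := ⟨Nat.prime_two⟩
  obtain ⟨t₀, ht₀o, ht₀⟩ := H.exists_inverter
  have hfix3 := H.two_case_three D hf hη φ h1 h2 h3 hφ hπ ht₀o ht₀
  have T := H.three_of_fix D ht₀o ht₀ hfix3
  obtain ⟨hψ₀, heq₀, hK⟩ := H.two_case_values D hf hη φ h1 h2 h3 hφ hπ ht₀o ht₀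
  have h4 := H.four_dvd_pred ht₀o hfix3
  set e₂ := (p - 1).factorization 2 with he₂
  have he2 : 2 ≤ e₂ := (Nat.prime_two.pow_dvd_iff_le_factorization (show p - 1 ≠ 0 by omega)).1 h4
  obtain ⟨hv1, hv2⟩ := two_pow_val (show p - 1 ≠ 0 by omega) he₂.symm
  -- `θ` vanishes, so `ψ` is `1`, on elements of even order
  have hψ2 : ∀ g : G, 2 ∣ orderOf g → (D.ψ : G → ℂ) g = 1 := by
    intro g hg
    have hθd : 2 ^ (Nat.card G).factorization 2 ∣ charDegree (D.θ : G → ℂ) := by
      rw [hK, D.hx, show D.x = (p - 1) * 2 by omega, pow_succ]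
      exact Nat.mul_dvd_mul_right hv1 2
    have h0 := Chars.Brauer.eq_zero_of_defect_zero Nat.prime_two D.θ
      (Nat.ordProj_mul_ordCompl_eq_self (Nat.card G) 2).symm
      (Nat.not_dvd_ordCompl Nat.prime_two Nat.card_pos.ne') hθd hg
    have h := D.rel g (H.regular_of_even hg)
    rw [h0, hη, mul_zero] at h
    push_cast at h
    linear_combination h
  have hφ2 : ∀ g : G, 2 ∣ orderOf g →
      (φ : G → ℂ) g = (Nat.card (fixedBy Ω g) : ℂ) - 2 := by
    intro g hg
    have h := hπ g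
    rw [hψ2 g hg, Chars.PermChar.fixChar] at h
    linear_combination -h
  -- the Sylow subgroup
  have hodd : Odd (Fintype.card Ω) := by rw [H.hΩ]; exact (by decide : Odd 3).mul H.odd
  have hnd : ¬ 2 ^ (e₂ + 1) ∣ Fintype.card Ω - 3 := by
    rw [H.hΩ, show 3 * p - 3 = 3 * (p - 1) by omega]
    intro h
    refine hv2 ((Nat.Coprime.dvd_mul_left ?_).1 h)
    exact ((Nat.coprime_primes Nat.prime_two Nat.prime_three).2 (by norm_num)).pow_left _
  obtain ⟨S, α, β, γ, δ, t, w, F⟩ := exists_frame T hodd hK (by omega) hnd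
  have hsub : ∀ ε : Ω, ε ≠ α → _ := fun ε hε' =>
    H.suborbit_length D hf hη hε φ h1 h2 h3 hπ α ε hε'
  have hK3 : e₂ + 1 ≤ 3 := by
    by_cases hint : ∀ c : G, Commute c t → c • α = α
    · exact F.le_eight_of_int T hint hK
    · push Not at hint
      obtain ⟨c, hc, hcα⟩ := hint
      obtain ⟨ε, hεα, hεO⟩ : ∃ ε : Ω, ε ≠ α ∧ ε ∉ orbit (stabilizer G α) β := by
        by_contra hno
        push Not at hno
        obtain ⟨b, hb, hb'⟩ := hsub β F.αβ.symm
        have hcard : Fintype.card Ω - 1 = Nat.card (orbit (stabilizer G α) β) := by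
          obtain ⟨n, hn, -⟩ := stab_dvd_orbit (G := G) α β F.αβ.symm
          have hle : Fintype.card Ω - 1 ≤ Nat.card (orbit (stabilizer G α) β) := by
            rw [Nat.card_eq_fintype_card, ← Set.toFinset_card, ← Finset.card_univ,
              ← Finset.card_erase_of_mem (Finset.mem_univ α)]
            refine Finset.card_le_card fun x hx => ?_
            rw [Set.mem_toFinset]
            exact hno x (Finset.ne_of_mem_erase hx)
          omega
        rw [← hcard, Nat.cast_sub (by rw [H.hΩ]; omega), H.hΩ] at hb'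
        push_cast at hb'
        rcases hb' with h | h
        · rcases le_or_gt 1 b with hb1 | hb1
          · nlinarith
          · rcases le_or_gt b (-1) with hb2 | hb2
            · nlinarith
            · obtain rfl : b = 0 := by omega
              omega
        · rcases le_or_gt 1 b with hb1 | hb1
          · nlinarith
          · rcases le_or_gt b (-1) with hb2 | hb2
            · nlinarith
            · obtain rfl : b = 0 := by omega
              omega
      have hd := F.suborbit_dvd T hc hcα hεα hεO hK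
      obtain ⟨b, hb, hb'⟩ := hsub ε hεα
      set k := Nat.card (orbit (stabilizer G α) ε)
      have hP : (2 : ℤ) ^ e₂ ∣ (p : ℤ) - 1 := by
        have := Int.natCast_dvd_natCast.2 hv1
        push_cast [Nat.cast_sub hp.out.one_le] at this
        exact this
      have hk : (2 : ℤ) ^ (e₂ + 1) ∣ (k : ℤ) := by exact_mod_cast hd
      have hb2 : b % 2 = 1 := by
        rcases Int.emod_two_eq_zero_or_one b with h | h
        · obtain ⟨j, rfl⟩ : (2 : ℤ) ∣ b := Int.dvd_of_emod_eq_zero h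
          have : (2 : ℤ) * (12 * j ^ 2 + 3 * j) + 1 = 2 * p := by linarith
          omega
        · exact h
      have h31 : (2 : ℤ) ^ e₂ ∣ 3 * b + 1 := by
        have hcop : IsCoprime ((2 : ℤ) ^ (e₂ + 2)) (2 * b + 1) :=
          (IsCoprime.pow_left (R := ℤ) ⟨-b, 1, by ring⟩)
        have hcopb : IsCoprime ((2 : ℤ) ^ e₂) b := by
          obtain ⟨j, rfl⟩ : ∃ j, b = 2 * j + 1 := ⟨b / 2, by omega⟩
          exact IsCoprime.pow_left ⟨-j, 1, by ring⟩
        rcases hb' with h | h
        · have h5 : (2 : ℤ) ^ (e₂ + 2) ∣ (2 * b + 1) * (3 * b + 1) := by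
            rw [← h, show e₂ + 2 = e₂ + 1 + 1 by omega, pow_succ, mul_comm _ (2 : ℤ)]
            exact mul_dvd_mul_left 2 hk
          exact (pow_dvd_pow 2 (by omega)).trans (hcop.dvd_of_dvd_mul_left h5)
        · rw [h, pow_succ, mul_comm _ (2 : ℤ), mul_assoc] at hk
          exact hcopb.dvd_of_dvd_mul_left ((mul_dvd_mul_iff_left two_ne_zero).1 hk)
      have hb1 : (2 : ℤ) ^ e₂ ∣ b - 1 := by
        have e : b - 1 = 2 * ((p : ℤ) - 1) - 2 * b * (3 * b + 1) := by linarith
        rw [e]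
        exact dvd_sub (hP.mul_left 2) (h31.mul_left _)
      have h44 : (2 : ℤ) ^ e₂ ∣ ((2 ^ 2 : ℕ) : ℤ) := by
        have e : ((2 ^ 2 : ℕ) : ℤ) = (3 * b + 1) - 3 * (b - 1) := by push_cast; ring
        rw [e]
        exact dvd_sub h31 (hb1.mul_left 3)
      have h45 : 2 ^ e₂ ∣ 2 ^ 2 := by exact_mod_cast h44
      have := (Nat.pow_dvd_pow_iff_le_right one_lt_two).1 h45
      omega
  have hK' : (Nat.card G).factorization 2 = 3 := by omega
  obtain ⟨σ, hd, hz⟩ := F.exists_dih hK'
  obtain ⟨O, hO, hOodd, hOcard⟩ := F.exists_oddCore hd hz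
  obtain ⟨M, hM⟩ := Blocks.exists_isPModular 2 Nat.prime_two
  have hty : ∀ y : O, 2 ∣ orderOf (t * (y : G)) ∧ ¬ 4 ∣ orderOf (t * (y : G)) := fun y => by
    rw [F.orderOf_mul_t hO y.2]
    refine ⟨dvd_mul_right _ _, fun h => ((hO y).1 y.2).2 ?_⟩
    exact Nat.dvd_of_mul_dvd_mul_left two_pos (show 2 * 2 ∣ 2 * orderOf (y : G) from h)
  have hφB : φ ∈ principalBlock M G := by
    refine (F.mem_or_sum_eq_zero T hd hz hM hO φ).resolve_right fun h => ?_
    rw [Finset.sum_congr rfl fun (y : O) _ => hφ2 _ (hty y).1] at h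
    exact F.sum_fix_sub_two_ne_zero T hO hOodd h
  have hψB : D.ψ ∈ principalBlock M G := by
    refine (F.mem_or_sum_eq_zero T hd hz hM hO D.ψ).resolve_right fun h => ?_
    rw [Finset.sum_congr rfl fun (y : O) _ => hψ2 _ (hty y).1, Finset.sum_const, Finset.card_univ,
      nsmul_eq_mul, mul_one, Nat.cast_eq_zero] at h
    exact Fintype.card_ne_zero h
  have hfix : ∀ y ∈ O, ∀ x : Ω, t • x = x → y • x = x := by
    intro y hy
    obtain ⟨hy1, hy2⟩ := (hO y).1 hy
    rcases F.fix_mul T hy1 hy2 with ⟨h, -⟩ | h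
    · exact h
    exfalso
    have he := F.apply_section T hd hz hM hφB (hty ⟨y, hy⟩).1 (hty ⟨y, hy⟩).2
    rw [hφ2 _ (hty ⟨y, hy⟩).1, hφ2 t (by rw [F.t_ord]), h, T.fix3 t F.t_ord] at he
    norm_num at he
  obtain ⟨o1, o2, e, ho1, ho2, hoe, hc1, hc2, hLc⟩ := F.local_data T hd hz hK' hO hOodd hOcard hfix
  have hone : ∀ s : G, orderOf s = 2 → IsConj (σ ^ ((2 : ℤ) ^ (2 - 1))) s := fun s hs =>
    hz.symm ▸ T.conj t s F.t_ord hs
  have hval : ∀ μ : ZMod (2 ^ 2), μ ≠ 0 → rotVal σ D.ψ μ = ((1 : ℤ) : ℂ) := fun μ hμ => by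
    rw [rotVal, hψ2 _ (two_dvd_orderOf_rot hd hμ), Int.cast_one]
  obtain ⟨-, hform⟩ := order_formula hd le_rfl hM hone hψB D.ψ_ne hval
  rw [hz, hc1, hc2, hOcard, D.hf, hf] at hform
  set o := Nat.card O with hodef
  have ho0 : 0 < o := Nat.card_pos
  have hG : Nat.card G * (2 * (p - 1)) = p * (8 * o) ^ 2 * (2 * p - 1) := by
    rw [heq₀]
    congr 3
    obtain ⟨x, hx⟩ := isConj_iff.1 (T.conj t₀ t ht₀o F.t_ord)
    rw [← hOcard, ← card_comap_conj x (Subgroup.centralizer ({t} : Set G))]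
    suffices e' : (Subgroup.centralizer ({t} : Set G)).comap (MulAut.conj x).toMonoidHom =
        Subgroup.centralizer ({t₀} : Set G) by rw [e']
    ext y
    simp only [Subgroup.mem_comap, MulEquiv.coe_toMonoidHom, MulAut.conj_apply,
      Subgroup.mem_centralizer_singleton_iff]
    rw [← hx]
    exact Commute.conj_iff x
  have hrel1 : (p - 1) * (o1 ^ 2 * o2 ^ 2) = o * (o1 + o2) ^ 2 := by
    have hp1 : ((p - 1 : ℕ) : ℚ) = (p : ℚ) - 1 := by rw [Nat.cast_sub hp.out.one_le]; simp
    have hf1 : ((2 * p - 1 : ℕ) : ℚ) = 2 * (p : ℚ) - 1 := by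
      rw [Nat.cast_sub (show 1 ≤ 2 * p by omega)]; simp
    have hGQ : (Nat.card G : ℚ) * (2 * ((p : ℚ) - 1)) = p * (8 * o) ^ 2 * (2 * p - 1) := by
      have h := congrArg (Nat.cast : ℕ → ℚ) hG
      push_cast at h
      rwa [hp1, hf1] at h
    rw [hf1] at hform
    have o10 : (o1 : ℚ) ≠ 0 := Nat.cast_ne_zero.2 ho1.pos.ne'
    have o20 : (o2 : ℚ) ≠ 0 := Nat.cast_ne_zero.2 ho2.pos.ne'
    push_cast at hform
    have hkey : ((p : ℚ) - 1) * ((o1 : ℚ) ^ 2 * (o2 : ℚ) ^ 2) = o * ((o1 : ℚ) + o2) ^ 2 := by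
      field_simp at hform
      have hpo : (p : ℚ) * o ^ 2 * (2 * p - 1) ≠ 0 := by
        have h1 : (1 : ℚ) < 2 * p := by exact_mod_cast (show 1 < 2 * p by omega)
        have h2 : (0 : ℚ) < p := by exact_mod_cast hp.out.pos
        have h3 : (0 : ℚ) < o := by exact_mod_cast ho0
        have h4 : (0 : ℚ) < 2 * p - 1 := by linarith
        positivity
      refine mul_left_cancel₀ (mul_ne_zero (show (2048 : ℚ) ≠ 0 by norm_num) hpo) ?_
      linear_combination hform - (32 * ((p : ℚ) - 1) * (o1 : ℚ) ^ 2 * (o2 : ℚ) ^ 2) * hGQ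
    have : (((p - 1) * (o1 ^ 2 * o2 ^ 2) : ℕ) : ℚ) = ((o * (o1 + o2) ^ 2 : ℕ) : ℚ) := by
      push_cast
      rw [hp1]
      exact hkey
    exact_mod_cast this
  -- the orbit of `β`
  set k := Nat.card (orbit (stabilizer G α) β) with hkdef
  have hHk : k * Nat.card (stabilizer (stabilizer G α) β) = Nat.card (stabilizer G α) := by
    rw [← Nat.card_prod]
    exact Nat.card_congr (orbitProdStabilizerEquivGroup (stabilizer G α) β)
  have hrel2 : 3 * k * (p - 1) * o = 8 * o1 ^ 2 * (2 * p - 1) := by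
    refine Nat.eq_of_mul_eq_mul_left (show 0 < 8 * p * o ^ 2 by positivity) ?_
    calc 8 * p * o ^ 2 * (3 * k * (p - 1) * o) = 3 * p * (k * (4 * o ^ 3)) * (2 * (p - 1)) := by ring
      _ = 3 * p * (k * (Nat.card (stabilizer (stabilizer G α) β) * o1 ^ 2)) * (2 * (p - 1)) := by
          rw [hLc]
      _ = Nat.card G * (2 * (p - 1)) * o1 ^ 2 := by
          rw [← mul_assoc k, hHk, ← H.card_stab α]; ring
      _ = _ := by rw [hG]; ring
  clear_value k
  obtain ⟨m, hm⟩ := h4
  have hm0 : 0 < m := by omega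
  have hk6 : 6 * k * m ^ 2 = (8 * m + 1) * (e + 1) ^ 2 := by
    have h := congrArg (· * (o1 + o2) ^ 2) hrel2
    rw [mul_assoc (3 * k * (p - 1)) o, ← hrel1, hm, hoe, show 2 * p - 1 = 8 * m + 1 by omega] at h
    refine Nat.eq_of_mul_eq_mul_left (show 0 < 8 * (e * o2) ^ 2 * o2 ^ 2 from ?_) ?_
    · have := ho2.pos
      have : 0 < e * o2 := hoe ▸ ho1.pos
      positivity
    linear_combination h
  obtain ⟨l, hl⟩ : m ∣ e + 1 := by
    refine (Nat.pow_dvd_pow_iff two_ne_zero).1 ?_
    refine (Nat.Coprime.dvd_mul_left ?_).1 ⟨6 * k, by rw [← hk6]; ring⟩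
    refine Nat.Coprime.pow_left 2 ?_
    rw [mul_comm 8 m, add_comm, Nat.coprime_add_mul_left_right]
    exact Nat.coprime_one_right m
  have hk6' : 6 * k = (8 * m + 1) * l ^ 2 := by
    refine Nat.eq_of_mul_eq_mul_right (pow_pos hm0 2) ?_
    rw [hk6, hl]; ring
  obtain ⟨b, hb, hb'⟩ := hsub β F.αβ.symm
  rw [← hkdef] at hb'
  have hpm : (p : ℤ) = 4 * m + 1 := by omega
  have h81 : (8 * (m : ℤ) + 1) = 3 * b * (2 * b + 1) := by linear_combination hb - 2 * hpm
  have h2k : 2 * (k : ℤ) = b * (2 * b + 1) * (l : ℤ) ^ 2 := by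
    have h := congrArg (Nat.cast : ℕ → ℤ) hk6'
    push_cast at h
    rw [h81] at h
    refine mul_left_cancel₀ (show (3 : ℤ) ≠ 0 by norm_num) ?_
    linear_combination h
  have hb1 : b = 1 := by
    rcases int_arith (by omega) h2k hb' with h | h | h <;> subst h
    · rfl
    · omega
    · omega
  subst hb1
  have hp5 : p = 5 := by omega
  subst hp5
  refine ⟨rfl, ?_⟩
  obtain rfl : m = 1 := by omega
  have hk_ : k = 6 ∨ k = 8 := by
    rcases hb' with h | h <;> norm_num at h <;> omega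
  have he1 : k = 6 ∧ e = 1 := by
    rcases hk_ with hk | hk <;> rw [hk] at hk6'
    · refine ⟨hk, ?_⟩
      have h4' : l ^ 2 = 2 ^ 2 := by linarith
      have := Nat.pow_left_injective two_ne_zero h4'
      omega
    · omega
  obtain ⟨hk6v, rfl⟩ := he1
  rw [one_mul] at hoe
  subst hoe
  have hod : o = o1 ^ 2 := by
    refine Nat.eq_of_mul_eq_mul_right (show 0 < 4 * o1 ^ 2 by have := ho1.pos; positivity) ?_
    linear_combination -hrel1
  have hG360 : Nat.card G = 360 * o1 ^ 4 := by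
    refine Nat.eq_of_mul_eq_mul_right (show 0 < 2 * (5 - 1) by norm_num) ?_
    rw [hG, hod]; ring
  have hd3 : o1 ∣ 3 := by
    have hne : stabilizer G α ≠ ⊤ := by
      intro h
      have h1 := index_stabilizer_of_transitive G α
      rw [h, Subgroup.index_top, Nat.card_eq_fintype_card, H.hΩ] at h1
      omega
    have h := SmallSimple.card_dvd_factorial_index H.nc (stabilizer G α) hne
    rw [index_stabilizer_of_transitive, Nat.card_eq_fintype_card (α := Ω), H.hΩ, hG360,
      show Nat.factorial (3 * 5) = 720 * 1816214400 by rfl,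
      show 2 * (360 * o1 ^ 4) = 720 * o1 ^ 4 by ring] at h
    have h' := Nat.dvd_of_mul_dvd_mul_left (show 0 < 720 by norm_num) h
    -- small prime divisors
    have hle : ∀ q : ℕ, q.Prime → q ∣ o1 → q = 3 := by
      intro q hq hqo
      have h4' : q ^ 4 ∣ 1816214400 := (pow_dvd_pow_of_dvd hqo 4).trans h'
      have hq13 : q ≤ 13 := by
        by_contra hgt
        have : q ∣ 2 ^ 7 * 3 ^ 4 * 5 ^ 2 * 7 ^ 2 * 11 * 13 :=
          (dvd_pow_self q (by norm_num)).trans h4'
        simp only [hq.dvd_mul] at this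
        rcases this with ((((h | h) | h) | h) | h) | h <;>
          first
          | (have := Nat.le_of_dvd (by norm_num) (hq.dvd_of_dvd_pow h); omega)
          | (have := Nat.le_of_dvd (by norm_num) h; omega)
      have := hq.two_le
      have hq2 : q ≠ 2 := fun e => Nat.not_even_iff_odd.2 ho1 (even_iff_two_dvd.2 (e ▸ hqo))
      interval_cases q <;> first
        | rfl
        | omega
        | (exfalso; norm_num at hq; done)
        | (exfalso; norm_num at h4'; done)
    have hpow : ∃ j, o1 = 3 ^ j := ⟨_, Nat.eq_prime_pow_of_unique_prime_dvd ho1.pos.ne'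
      fun {q} hq hqo => hle q hq hqo⟩
    obtain ⟨j, rfl⟩ := hpow
    rcases Nat.lt_or_ge j 2 with hj | hj
    · exact (pow_dvd_pow 3 (show j ≤ 1 by omega)).trans (by norm_num)
    · exfalso
      have : (3 ^ 2) ^ 4 ∣ 1816214400 := (pow_dvd_pow_of_dvd (pow_dvd_pow 3 hj) 4).trans h'
      norm_num at this
  rcases (Nat.dvd_prime Nat.prime_three).1 hd3 with rfl | rfl
  · exact Cfsg.Agent.S0497.result (by rw [hG360]; norm_num)
  · exfalso
    obtain ⟨n, hn, hdvd⟩ := stab_dvd_orbit (G := G) α β F.αβ.symm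
    rw [H.hΩ, ← hkdef, hk6v] at hn
    obtain rfl : n = 8 := by omega
    have hHc : Nat.card (stabilizer G α) = 1944 := by
      have := H.card_stab α
      rw [hG360] at this
      omega
    rw [← hkdef, hk6v, hHc] at hdvd
    norm_num [Nat.factorial] at hdvd

end Hyp

end CfsgLib.ItoThreeP
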