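import Cfsg.Agent.ItoThreeP.Fixed
import Cfsg.Agent.ItoThreeP.Bender

/-!
# Values at involutions, and the case of one fixed point
-/

set_option autoImplicit false
set_option linter.style.haveILetI false
set_option linter.unusedSectionVars false

namespace CfsgLib.ItoThreeP

open Cfsg CfsgLib MulAction
open scoped ComplexConjugate

universe u v

variable {p : ℕ} [hp : Fact p.Prime] {G : Type u} [Group G] [Fintype G] [IsSimpleGroup G]
  {Ω : Type v} [Fintype Ω] [MulAction G Ω] [FaithfulSMul G Ω] [IsPretransitive G Ω] {a : G}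

theorem odd_sq_dvd {n : ℕ} : ∃ m L, n = 2 ^ m * L ∧ (n ≠ 0 → Odd L ∧ m = n.factorization 2) := by
  refine ⟨n.factorization 2, n / 2 ^ n.factorization 2, (Nat.ordProj_mul_ordCompl_eq_self n 2).symm,
    fun hn => ⟨?_, rfl⟩⟩
  exact Nat.odd_iff.2 (Nat.two_dvd_ne_zero.1 (Nat.not_dvd_ordCompl Nat.prime_two hn))

namespace Hyp

variable (H : Hyp p G Ω a)
include H

/-- A bound for values at the inverting involution. -/
theorem abs_value_le (χ : IrrCharacter G) (v : ℤ) (k : ℕ)
    (hv : ∀ b ∈ Subgroup.zpowers a, b ≠ 1 → (χ : G → ℂ) b = (v : ℂ))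
    (hk : (charDegree (χ : G → ℂ) : ℤ) + ((p : ℤ) - 1) * v = p * k) {t : G}
    (ht : t * a * t = a⁻¹) (ht2 : t * t = 1) {s : ℤ} (hs : (χ : G → ℂ) t = (s : ℂ)) :
    -(k : ℤ) ≤ s ∧ s ≤ k := by
  classical
  set N := Subgroup.normalizer (Subgroup.zpowers a : Set G) with hN
  letI := Fintype.ofFinite (Subgroup.zpowers a)
  obtain ⟨htN, htP⟩ := H.notMem_of_inverts ht ht2
  have hnorm : ∀ x ∈ N, ∀ y ∈ Subgroup.zpowers a, x * y * x⁻¹ ∈ Subgroup.zpowers a :=
    fun x hx y hy => (Subgroup.mem_normalizer_iff.1 hx y).1 hy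
  have hc := Blocks.OrderP.isCharacter_average (Chars.isCharacter_coe χ) (Subgroup.zpowers a) N hnorm
  have h1 : ∑ y : Subgroup.zpowers a, (χ : G → ℂ) (1 * (y : G)) = ((p : ℤ) * k : ℤ) := by
    rw [← hk, ← Finset.add_sum_erase _ _ (Finset.mem_univ (1 : Subgroup.zpowers a))]
    rw [OneMemClass.coe_one, mul_one, ← Chars.coe_charDegree,
      Finset.sum_congr rfl fun y hy => by
        rw [one_mul, hv y y.2 fun h => (Finset.ne_of_mem_erase hy) (Subtype.ext h)],
      Finset.sum_const, Finset.card_erase_of_mem (Finset.mem_univ _), Finset.card_univ,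
      ← Nat.card_eq_fintype_card, H.card_zpowers, nsmul_eq_mul, Nat.cast_sub hp.out.one_le]
    push_cast
    ring
  have h2 : ∑ y : Subgroup.zpowers a, (χ : G → ℂ) (t * (y : G)) = ((p : ℤ) * s : ℤ) := by
    rw [Finset.sum_congr rfl fun y _ => by
      rw [← Chars.eq_of_isConj (Chars.isClassFunction_coe χ) (H.conj_of_inverts ht ht2
        (mul_mem htN (Subgroup.le_normalizer y.2))
        fun h => htP (by simpa using mul_mem h (inv_mem y.2))), hs],
      Finset.sum_const, Finset.card_univ, ← Nat.card_eq_fintype_card, H.card_zpowers, nsmul_eq_mul]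
    push_cast
    ring
  have hb := Chars.norm_apply_le hc (⟨t, htN⟩ : N)
  simp only [OneMemClass.coe_one, h1, h2, H.card_zpowers, Int.cast_mul, Int.cast_natCast] at hb
  rw [← mul_assoc, ← mul_assoc, inv_mul_cancel₀ (Nat.cast_ne_zero.2 hp.out.ne_zero), one_mul,
    one_mul, Complex.norm_natCast, Complex.norm_intCast] at hb
  obtain ⟨h3, h4⟩ := abs_le.1 hb
  exact ⟨by exact_mod_cast h3, by exact_mod_cast h4⟩

theorem four_dvd_pred {t : G} (hto : orderOf t = 2) (h3 : Nat.card (fixedBy Ω t) = 3) :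
    4 ∣ p - 1 := by
  classical
  set σ := MulAction.toPermHom G Ω t with hσ
  have hinj : Function.Injective (MulAction.toPermHom G Ω) := MulAction.toPerm_injective
  have hσo : orderOf σ = 2 := by rw [hσ, orderOf_injective _ hinj, hto]
  have hsgn : Equiv.Perm.sign σ = 1 := by
    let f : G →* ℤˣ := Equiv.Perm.sign.comp (MulAction.toPermHom G Ω)
    have h : f.ker = ⊤ :=
      top_le_iff.1 (commutator_top H.nc ▸ Abelianization.commutator_subset_ker f)
    exact MonoidHom.mem_ker.1 (h ▸ Subgroup.mem_top t : t ∈ f.ker)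
  haveI : Fact (Nat.Prime 2) := ⟨Nat.prime_two⟩
  obtain ⟨n, hn⟩ := Equiv.Perm.cycleType_prime_order (by rw [hσo]; exact Nat.prime_two)
  rw [hσo] at hn
  rw [Equiv.Perm.sign_of_cycleType, hn, Multiset.sum_replicate, Multiset.card_replicate,
    smul_eq_mul, neg_one_pow_eq_one_iff_even (by decide)] at hsgn
  have hsupp : σ.support.card = 2 * (n + 1) := by
    rw [← Equiv.Perm.sum_cycleType, hn, Multiset.sum_replicate, smul_eq_mul, mul_comm]
  have hcompl : σ.supportᶜ.card = 3 := by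
    rw [← h3, Nat.card_eq_fintype_card, ← Set.toFinset_card]
    congr 1
    ext x
    simp [hσ, Finset.mem_compl]
  rw [Finset.card_compl, hsupp, H.hΩ] at hcompl
  obtain ⟨c, hc⟩ := hsgn
  obtain ⟨q, hq⟩ := H.odd
  omega

theorem factorization_count {A B c K : ℕ} (hA : A ≠ 0) (hB : B ≠ 0) (hc : c ≠ 0)
    (h2 : c.factorization 2 = K) (hK : (Nat.card G).factorization 2 = K)
    (h : Nat.card G * A = c ^ 2 * B) : A.factorization 2 = K + B.factorization 2 := by
  have h4 := congrArg (fun n : ℕ => n.factorization 2) h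
  simp only [Nat.factorization_mul Nat.card_pos.ne' hA,
    Nat.factorization_mul (pow_ne_zero 2 hc) hB, Nat.factorization_pow, Finsupp.add_apply,
    Finsupp.smul_apply, smul_eq_mul, hK, h2] at h4
  omega

/-- Case `f = 2p - 1`: the values and the order equation. -/
theorem two_case_values (D : Data p G a) (hf : D.f = 2 * p - 1) (hη : D.η = -1)
    (φ : IrrCharacter G) (h1 : φ ≠ Chars.oneChar G) (h2 : φ ≠ D.ψ) (h3 : φ ∉ D.Y)
    (hφ : charDegree (φ : G → ℂ) = p)
    (hπ : ∀ g : G, Chars.PermChar.fixChar G Ω g = 1 + (D.ψ : G → ℂ) g + (φ : G → ℂ) g)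
    {t : G} (hto : orderOf t = 2) (ht : t * a * t = a⁻¹) :
    (D.ψ : G → ℂ) t = 1 ∧
      (Nat.card G * (2 * (p - 1)) =
        p * Nat.card (Subgroup.centralizer ({t} : Set G)) ^ 2 * (2 * p - 1)) ∧
      (Nat.card G).factorization 2 = (p - 1).factorization 2 + 1 := by
  have ht2 : t * t = 1 := by rw [← pow_two, ← hto, pow_orderOf_eq_one]
  have hp3 := H.hp3
  obtain ⟨s, hs, hs2, -⟩ := exists_value_two D.ψ hto
  rw [D.hf, hf] at hs2
  obtain ⟨hlo, hhi⟩ := H.abs_value_le D.ψ (-1) 1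
    (fun b hb hb1 => by rw [D.valψ b hb hb1, hη]) (by rw [D.hf, hf]; push_cast; omega) ht ht2 hs
  have hcnt := H.count_eq D hto ht hs
  rw [hη, hf] at hcnt
  set c := Nat.card (Subgroup.centralizer ({t} : Set G)) with hcdef
  have hc0 : c ≠ 0 := Nat.card_pos.ne'
  have hz := H.centralizer_two D hto ht
  have hcase : s = 1 ∨ s = -1 := by omega
  rcases hcase with rfl | rfl
  · have heq : Nat.card G * (2 * (p - 1)) = p * c ^ 2 * (2 * p - 1) := by
      have h : (((Nat.card G * (2 * (p - 1))) * (2 * (p - 1)) : ℕ) : ℤ) =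
          (((p * c ^ 2 * (2 * p - 1)) * (2 * (p - 1)) : ℕ) : ℤ) := by
        push_cast [Nat.cast_sub hp.out.one_le, Nat.cast_sub (show 1 ≤ 2 * p by omega)] at hcnt ⊢
        linear_combination (-1 : ℤ) * hcnt
      exact Nat.eq_of_mul_eq_mul_right (by omega) (Int.ofNat.inj h)
    refine ⟨by rw [hs]; norm_num, heq, ?_⟩
    have hB : (p * (2 * p - 1)).factorization 2 = 0 := by
      refine Nat.factorization_eq_zero_of_not_dvd fun h => ?_
      rcases Nat.prime_two.dvd_mul.1 h with h | h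
      · obtain ⟨q, hq⟩ := H.odd; omega
      · omega
    have h5 := H.factorization_count (by omega) (Nat.mul_ne_zero hp.out.ne_zero (by omega)) hc0 hz
      rfl (show Nat.card G * (2 * (p - 1)) = c ^ 2 * (p * (2 * p - 1)) by rw [heq]; ring)
    rw [hB, Nat.factorization_mul two_ne_zero (by omega), Finsupp.add_apply,
      Nat.prime_two.factorization_self] at h5
    omega
  · exfalso
    have heq : Nat.card G * (2 * p) = c ^ 2 * ((2 * p - 1) * (p - 1)) := by
      have h : (((Nat.card G * (2 * p)) * (2 * p) : ℕ) : ℤ) =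
          (((c ^ 2 * ((2 * p - 1) * (p - 1))) * (2 * p) : ℕ) : ℤ) := by
        push_cast [Nat.cast_sub hp.out.one_le, Nat.cast_sub (show 1 ≤ 2 * p by omega)] at hcnt ⊢
        linear_combination (-1 : ℤ) * hcnt
      exact Nat.eq_of_mul_eq_mul_right (by omega) (Int.ofNat.inj h)
    have h5 := H.factorization_count (by omega) (Nat.mul_ne_zero (by omega) (by omega)) hc0 hz
      rfl heq
    rw [Nat.factorization_mul two_ne_zero hp.out.ne_zero,
      Nat.factorization_mul (show 2 * p - 1 ≠ 0 by omega) (show p - 1 ≠ 0 by omega),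
      Finsupp.add_apply, Finsupp.add_apply, Nat.prime_two.factorization_self,
      Nat.factorization_eq_zero_of_not_dvd (show ¬ 2 ∣ p by obtain ⟨q, hq⟩ := H.odd; omega),
      Nat.factorization_eq_zero_of_not_dvd (show ¬ 2 ∣ 2 * p - 1 by omega)] at h5
    have h6 := Nat.prime_two.factorization_pos_of_dvd (show p - 1 ≠ 0 by omega)
      (show 2 ∣ p - 1 by obtain ⟨q, hq⟩ := H.odd; omega)
    have := H.two_le_factorization
    omega

theorem fix_all (D : Data p G a) {t : G} (hto : orderOf t = 2) (ht : t * a * t = a⁻¹) {n : ℕ}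
    (hn : Nat.card (fixedBy Ω t) = n) : ∀ s : G, orderOf s = 2 → Nat.card (fixedBy Ω s) = n := by
  intro s hs
  have ht2 : t * t = 1 := by rw [← pow_two, ← hto, pow_orderOf_eq_one]
  obtain ⟨x, hx⟩ := isConj_iff.1 (H.isConj_inverter D ht ht2 hs)
  rw [← hn]
  refine Nat.card_congr ((MulAction.toPerm x⁻¹).subtypeEquiv fun y => ?_)
  rw [MulAction.toPerm_apply, mem_fixedBy, mem_fixedBy, ← hx, mul_smul, mul_smul,
    eq_inv_smul_iff]

/-- Case `f = 2p - 1`: three fixed points. -/
theorem two_case_three (D : Data p G a) (hf : D.f = 2 * p - 1) (hη : D.η = -1)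
    (φ : IrrCharacter G) (h1 : φ ≠ Chars.oneChar G) (h2 : φ ≠ D.ψ) (h3 : φ ∉ D.Y)
    (hφ : charDegree (φ : G → ℂ) = p)
    (hπ : ∀ g : G, Chars.PermChar.fixChar G Ω g = 1 + (D.ψ : G → ℂ) g + (φ : G → ℂ) g)
    {t : G} (hto : orderOf t = 2) (ht : t * a * t = a⁻¹) :
    Nat.card (fixedBy Ω t) = 3 := by
  have ht2 : t * t = 1 := by rw [← pow_two, ← hto, pow_orderOf_eq_one]
  refine (H.card_fix_inverter ht ht2).resolve_left fun hfix => ?_
  obtain ⟨-, heq, hK⟩ := H.two_case_values D hf hη φ h1 h2 h3 hφ hπ hto ht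
  set c := Nat.card (Subgroup.centralizer ({t} : Set G))
  have hp3 := H.hp3
  obtain ⟨α⟩ := H.nonempty_pts
  obtain ⟨m, L, hmL, hodd⟩ := odd_sq_dvd (n := Nat.card G)
  obtain ⟨hL, hm⟩ := hodd Nat.card_pos.ne'
  obtain ⟨g', v, hv0, hv⟩ := odd_sq_dvd (n := p - 1)
  obtain ⟨hvodd, hg'⟩ := hv (by omega)
  have hbd := order_of_fix_one H.nc α (by rw [H.hΩ]; omega)
    (hto ▸ orderOf_dvd_natCard t) (H.fix_all D hto ht hfix) hmL hL
  have hm' : m = g' + 1 := by rw [hm, hK, hg']
  -- `2 (p - 1)` divides `c`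
  obtain ⟨k, hk⟩ : 2 * (p - 1) ∣ c := by
    obtain ⟨q, hq⟩ := Subgroup.card_subgroup_dvd_card (Subgroup.centralizer ({t} : Set G))
    have h : c * (q * (2 * (p - 1))) = c * (p * c * (2 * p - 1)) := by
      rw [← mul_assoc, ← hq, heq]; ring
    have h' := Nat.eq_of_mul_eq_mul_left Nat.card_pos h
    have hcop : Nat.Coprime (2 * (p - 1)) (p * (2 * p - 1)) := by
      refine Nat.Coprime.mul_right ?_ ?_
      · refine (hp.out.coprime_iff_not_dvd.2 fun h => ?_).symm
        rcases hp.out.dvd_mul.1 h with h | h <;> have := Nat.le_of_dvd (by omega) h <;> omega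
      · rw [Nat.coprime_comm, show 2 * p - 1 = 2 * (p - 1) + 1 by omega,
          Nat.coprime_self_add_left]
        exact Nat.coprime_one_left _
    refine hcop.dvd_of_dvd_mul_right ⟨q, ?_⟩
    rw [mul_comm _ q, h']; ring
  have hG : Nat.card G = k ^ 2 * p * (2 * p - 1) * (2 * (p - 1)) := by
    refine Nat.eq_of_mul_eq_mul_right (show 0 < 2 * (p - 1) by omega) ?_
    rw [heq, hk]; ring
  have hL' : L = k ^ 2 * p * (2 * p - 1) * v := by
    refine Nat.eq_of_mul_eq_mul_left (Nat.two_pow_pos m) ?_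
    rw [← hmL, hG, hm', hv0, pow_succ]; ring
  have hkodd : Odd k := by
    rcases Nat.even_or_odd k with he | ho
    · exfalso
      refine Nat.not_odd_iff_even.2 ?_ hL
      rw [hL']
      exact ((((Nat.even_pow.2 ⟨he, two_ne_zero⟩).mul_right p).mul_right _).mul_right v)
    · exact ho
  have hN : 2 ^ m * v = 2 * (p - 1) := by rw [hm', pow_succ, hv0]; ring
  obtain ⟨q, rfl⟩ : ∃ q, p = q + 1 := ⟨p - 1, by omega⟩
  rw [Nat.add_sub_cancel] at hN
  rw [show 2 * (q + 1) - 1 = 2 * q + 1 by omega] at hL'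
  have hsq : (2 ^ m) ^ 2 * v ^ 2 = 4 * q ^ 2 := by rw [← mul_pow, hN]; ring
  have hk0 : 1 ≤ k := hkodd.pos
  have hv1 : 1 ≤ v := hvodd.pos
  have hLge : (q + 1) * (2 * q + 1) ≤ L := by
    rw [hL']
    calc (q + 1) * (2 * q + 1) = 1 * ((q + 1) * (2 * q + 1)) * 1 := by ring
      _ ≤ k ^ 2 * ((q + 1) * (2 * q + 1)) * v :=
          Nat.mul_le_mul (Nat.mul_le_mul_right _ (Nat.one_le_pow _ _ hk0)) hv1
      _ = _ := by ring
  have hq3 : 3 ≤ q := by omega
  have e1 : (q + 1) * (2 * q + 1) = 2 * (q * q) + 3 * q + 1 := by ring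
  have e2 : 4 * q ^ 2 = 4 * (q * q) := by ring
  rw [e1] at hLge
  rw [e2] at hsq
  have hqq : 3 * q ≤ q * q := Nat.mul_le_mul_right _ hq3
  rcases hbd with hbd | hbd
  · by_cases hv3 : v = 1
    · subst hv3
      rw [one_pow, mul_one] at hsq
      rw [hsq] at hbd
      by_cases hk1 : k = 1
      · subst hk1
        have hL1 : L = 2 * (q * q) + 3 * q + 1 := by rw [hL']; ring
        have h9 : 2 * (q * q) = 3 * q + 2 := by omega
        omega
      · have hk3 : 3 ≤ k := by obtain ⟨j, hj⟩ := hkodd; omega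
        have hk9 : 9 * (2 * (q * q) + 3 * q + 1) ≤ L := by
          rw [hL', mul_one, mul_assoc, e1]
          exact Nat.mul_le_mul_right _ (show 9 ≤ k ^ 2 from (by norm_num : 9 = 3 ^ 2).le.trans
            (Nat.pow_le_pow_left hk3 2))
        omega
    · have hv9 : 9 ≤ v ^ 2 := by
        obtain ⟨j, hj⟩ := hvodd
        exact (by norm_num : 9 = 3 ^ 2).le.trans (Nat.pow_le_pow_left (show 3 ≤ v by omega) 2)
      have := Nat.mul_le_mul_left ((2 ^ m) ^ 2) hv9
      omega
  · have h1 : (2 ^ m) ^ 2 ≤ (2 ^ m) ^ 2 * v ^ 2 := Nat.le_mul_of_pos_right _ (pow_pos hv1 2)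
    omega

/-- Case `f = 3p - 1`: three fixed points and the order equation. -/
theorem three_case (D : Data p G a) (hf : D.f = 3 * p - 1) (hη : D.η = -1)
    (hπ : ∀ g : G, Chars.PermChar.fixChar G Ω g = 1 + (D.ψ : G → ℂ) g)
    {t : G} (hto : orderOf t = 2) (ht : t * a * t = a⁻¹) :
    Nat.card (fixedBy Ω t) = 3 ∧ (D.ψ : G → ℂ) t = 2 ∧
      Nat.card G * (9 * (p - 1) ^ 2) =
        p * Nat.card (Subgroup.centralizer ({t} : Set G)) ^ 2 * ((3 * p - 1) * (3 * p - 2)) := by
  have ht2 : t * t = 1 := by rw [← pow_two, ← hto, pow_orderOf_eq_one]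
  have hp3 := H.hp3
  set c := Nat.card (Subgroup.centralizer ({t} : Set G)) with hcdef
  have hz := H.centralizer_two D hto ht
  have hval : ∀ r : ℕ, Nat.card (fixedBy Ω t) = r → (D.ψ : G → ℂ) t = (((r : ℤ) - 1 : ℤ) : ℂ) := by
    intro r hr
    have h := hπ t
    simp only [Chars.PermChar.fixChar, hr] at h
    push_cast
    linear_combination h.symm
  rcases H.card_fix_inverter ht ht2 with hfix | hfix
  · exfalso
    have hcnt := H.count_eq D hto ht (hval 1 hfix)
    rw [hη, hf] at hcnt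
    have heq : Nat.card G * (3 * p - 1) = p * c ^ 2 * (3 * p - 2) := by
      have h : (((Nat.card G * (3 * p - 1)) * (3 * p - 1) : ℕ) : ℤ) =
          (((p * c ^ 2 * (3 * p - 2)) * (3 * p - 1) : ℕ) : ℤ) := by
        push_cast [Nat.cast_sub (show 1 ≤ 3 * p by omega), Nat.cast_sub (show 2 ≤ 3 * p by omega)]
          at hcnt ⊢
        linear_combination (-1 : ℤ) * hcnt
      exact Nat.eq_of_mul_eq_mul_right (by omega) (Int.ofNat.inj h)
    obtain ⟨α⟩ := H.nonempty_pts
    obtain ⟨m, L, hmL, hodd⟩ := odd_sq_dvd (n := Nat.card G)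
    obtain ⟨hL, hm⟩ := hodd Nat.card_pos.ne'
    have hbd := order_of_fix_one H.nc α (by rw [H.hΩ]; omega)
      (hto ▸ orderOf_dvd_natCard t) (H.fix_all D hto ht hfix) hmL hL
    obtain ⟨k, hk⟩ : 3 * p - 1 ∣ c := by
      obtain ⟨q, hq⟩ := Subgroup.card_subgroup_dvd_card (Subgroup.centralizer ({t} : Set G))
      have h : c * (q * (3 * p - 1)) = c * (p * c * (3 * p - 2)) := by
        rw [← mul_assoc, ← hq, heq]; ring
      have h' := Nat.eq_of_mul_eq_mul_left Nat.card_pos h
      have hcop : Nat.Coprime (3 * p - 1) (p * (3 * p - 2)) := by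
        refine Nat.Coprime.mul_right ?_ ?_
        · refine (hp.out.coprime_iff_not_dvd.2 fun h => ?_).symm
          have h5 : p ∣ 1 := by
            have h6 := Nat.dvd_sub (dvd_mul_left p 3) h
            rwa [show 3 * p - (3 * p - 1) = 1 by omega] at h6
          exact hp.out.not_dvd_one h5
        · rw [show 3 * p - 1 = (3 * p - 2) + 1 by omega, Nat.coprime_self_add_left]
          exact Nat.coprime_one_left _
      refine hcop.dvd_of_dvd_mul_right ⟨q, ?_⟩
      rw [mul_comm _ q, h']; ring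
    have hG : Nat.card G = k ^ 2 * p * (3 * p - 2) * (3 * p - 1) := by
      refine Nat.eq_of_mul_eq_mul_right (show 0 < 3 * p - 1 by omega) ?_
      rw [heq, hk]; ring
    have h3k : 3 ∣ k := by
      have h3 : 3 ∣ Nat.card G := ⟨p * Nat.card (stabilizer G α), by rw [← H.card_stab α]; ring⟩
      rw [hG] at h3
      rcases Nat.prime_three.dvd_mul.1 h3 with h | h
      · rcases Nat.prime_three.dvd_mul.1 h with h | h
        · rcases Nat.prime_three.dvd_mul.1 h with h | h
          · exact Nat.prime_three.dvd_of_dvd_pow h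
          · have := (Nat.prime_dvd_prime_iff_eq Nat.prime_three hp.out).1 h; omega
        · omega
      · omega
    have hk9 : 9 ≤ k ^ 2 := by
      have : 0 < k := Nat.pos_of_ne_zero fun h => by rw [h, mul_zero] at hk; exact Nat.card_pos.ne' hk
      have := Nat.le_of_dvd this h3k
      nlinarith
    have hmle : 2 ^ m ≤ 3 * p - 1 := by
      have h5 := H.factorization_count (show 3 * p - 1 ≠ 0 by omega)
        (Nat.mul_ne_zero hp.out.ne_zero (show 3 * p - 2 ≠ 0 by omega)) Nat.card_pos.ne' hz rfl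
        (show Nat.card G * (3 * p - 1) = c ^ 2 * (p * (3 * p - 2)) by rw [heq]; ring)
      rw [Nat.factorization_eq_zero_of_not_dvd (n := p * (3 * p - 2)) (fun h => by
        rcases Nat.prime_two.dvd_mul.1 h with h | h <;> obtain ⟨q, hq⟩ := H.odd <;> omega),
        add_zero, ← hm] at h5
      exact Nat.le_of_dvd (by omega) (h5 ▸ Nat.ordProj_dvd _ _)
    have hL9 : 9 * (p * (3 * p - 2)) ≤ L := by
      refine Nat.le_of_mul_le_mul_left ?_ (Nat.two_pow_pos m)
      rw [← hmL, hG]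
      calc 2 ^ m * (9 * (p * (3 * p - 2))) ≤ (3 * p - 1) * (k ^ 2 * (p * (3 * p - 2))) :=
            Nat.mul_le_mul hmle (Nat.mul_le_mul_right _ hk9)
        _ = _ := by ring
    have hsq : (2 ^ m) ^ 2 ≤ (3 * p - 1) ^ 2 := Nat.pow_le_pow_left hmle 2
    obtain ⟨q, rfl⟩ : ∃ q, p = q + 1 := ⟨p - 1, by omega⟩
    rw [show 3 * (q + 1) - 2 = 3 * q + 1 by omega] at hL9
    rw [show 3 * (q + 1) - 1 = 3 * q + 2 by omega] at hsq
    rcases hbd with hbd | hbd <;> nlinarith
  · have hv := hval 3 hfix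
    refine ⟨hfix, by rw [hv]; norm_num, ?_⟩
    have hcnt := H.count_eq D hto ht hv
    rw [hη, hf] at hcnt
    have h : ((Nat.card G * (9 * (p - 1) ^ 2) : ℕ) : ℤ) =
        ((p * c ^ 2 * ((3 * p - 1) * (3 * p - 2)) : ℕ) : ℤ) := by
      push_cast [Nat.cast_sub hp.out.one_le, Nat.cast_sub (show 1 ≤ 3 * p by omega),
        Nat.cast_sub (show 2 ≤ 3 * p by omega)] at hcnt ⊢
      linear_combination (-1 : ℤ) * hcnt
    exact Int.ofNat.inj h

end Hyp

end CfsgLib.ItoThreeP
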