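import Cfsg.Agent.ItoThreeP.SylowTwo

/-!
# The Sylow 2-subgroup has order eight
-/

set_option autoImplicit false
set_option linter.style.haveILetI false
set_option linter.unusedSectionVars false

namespace CfsgLib.ItoThreeP

open Cfsg CfsgLib MulAction

universe u v

variable {G : Type u} [Group G] [Fintype G] [IsSimpleGroup G]
  {Ω : Type v} [Fintype Ω] [MulAction G Ω] [FaithfulSMul G Ω] [IsPretransitive G Ω]

/-- A fixed point of `u` fixed by the whole centraliser. -/
def IsSp (u : G) (x : Ω) : Prop := u • x = x ∧ ∀ c : G, Commute c u → c • x = x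

theorem IsSp.conj {u : G} {x : Ω} (h : IsSp u x) (g : G) : IsSp (g * u * g⁻¹) (g • x) := by
  refine ⟨by rw [mul_smul, inv_smul_smul, mul_smul, h.1], fun c hc => ?_⟩
  have h2 : Commute (g⁻¹ * c * g) u := by
    show g⁻¹ * c * g * u = u * (g⁻¹ * c * g)
    calc g⁻¹ * c * g * u = g⁻¹ * (c * (g * u * g⁻¹)) * g := by group
      _ = g⁻¹ * (g * u * g⁻¹ * c) * g := by rw [hc.eq]
      _ = u * (g⁻¹ * c * g) := by group
  have h3 := h.2 _ h2
  rwa [mul_smul, mul_smul, inv_smul_eq_iff] at h3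

/-- A 2-element centralising `u` is carried into a Sylow subgroup inside the centraliser. -/
theorem conj_into_sylow {S : Sylow 2 G} {u : G} (hu : ∀ g ∈ (S : Subgroup G), Commute g u)
    {Q : Subgroup G} (hQ : IsPGroup 2 Q) (hQu : ∀ g ∈ Q, Commute g u) :
    ∃ g : G, Commute g u ∧ ∀ x ∈ Q, g * x * g⁻¹ ∈ (S : Subgroup G) := by
  haveI : Fact (Nat.Prime 2) := ⟨Nat.prime_two⟩
  set C := Subgroup.centralizer ({u} : Set G) with hC
  have hSC : (S : Subgroup G) ≤ C := fun g hg => Subgroup.mem_centralizer_singleton_iff.2 (hu g hg).eq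
  have hQC : Q ≤ C := fun g hg => Subgroup.mem_centralizer_singleton_iff.2 (hQu g hg).eq
  obtain ⟨P, hP⟩ := (hQ.comap_subtype (K := C)).exists_le_sylow
  obtain ⟨g, hg⟩ := MulAction.exists_smul_eq C P (S.subtype hSC)
  refine ⟨g, Subgroup.mem_centralizer_singleton_iff.1 g.2, fun x hx => ?_⟩
  have h1 : g * ⟨x, hQC hx⟩ * g⁻¹ ∈ ((S.subtype hSC : Sylow 2 C) : Subgroup C) := by
    rw [← hg, Sylow.coe_subgroup_smul]
    exact Subgroup.smul_mem_pointwise_smul (⟨x, hQC hx⟩ : C) (MulAut.conj g) _ (hP hx)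
  rw [Sylow.coe_subtype, Subgroup.mem_subgroupOf] at h1
  simpa using h1

namespace Frame

variable {S : Sylow 2 G} {α β γ δ : Ω} {t w : G} (F : Frame S α β γ δ t w)
include F

/-- In the intransitive case the special point of `t` is `α`. -/
theorem sp_t (hint : ∀ c : G, Commute c t → c • α = α) : IsSp t α := ⟨F.fixed_t.1, hint⟩

theorem sp_unique_t {x : Ω} (h : IsSp t x) : x = α := by
  rcases (F.fixt x).1 h.1 with e | e | e
  · exact e
  · subst e
    exact absurd ((h.2 w F.t_mul_w_comm.symm).symm.trans F.w_swap) F.βγ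
  · subst e
    have h2 := h.2 w F.t_mul_w_comm.symm
    have h3 : w • w • β = β := by rw [← mul_smul, sq_one_of_ord F.w_ord, one_smul]
    rw [F.w_swap, h2] at h3
    exact absurd h3.symm F.βγ

theorem sp_exists (T : Three G Ω) (hint : ∀ c : G, Commute c t → c • α = α) {u : G}
    (hu : orderOf u = 2) : ∃ x : Ω, IsSp u x := by
  obtain ⟨g, rfl⟩ := isConj_iff.1 (T.conj t u F.t_ord hu)
  exact ⟨g • α, (F.sp_t hint).conj g⟩

theorem sp_unique (T : Three G Ω) {u : G} (hu : orderOf u = 2) {x y : Ω} (hx : IsSp u x)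
    (hy : IsSp u y) : x = y := by
  obtain ⟨g, rfl⟩ := isConj_iff.1 (T.conj t u F.t_ord hu)
  have key : ∀ z : Ω, IsSp (g * t * g⁻¹) z → z = g • α := by
    intro z hz
    have h := hz.conj g⁻¹
    rw [show g⁻¹ * (g * t * g⁻¹) * g⁻¹⁻¹ = t by group] at h
    rw [← F.sp_unique_t h, smul_inv_smul]
  rw [key x hx, key y hy]

/-- An involution of the Sylow subgroup with special point `β` or `γ`. -/
theorem exists_tau (T : Three G Ω) (hint : ∀ c : G, Commute c t → c • α = α) :
    ∃ (τ : G) (x : Ω), τ ∈ (S : Subgroup G) ∧ orderOf τ = 2 ∧ τ ≠ t ∧ τ • β = β ∧ τ • γ = γ ∧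
      IsSp τ x ∧ (x = β ∨ x = γ) := by
  haveI : Fact (Nat.Prime 2) := ⟨Nat.prime_two⟩
  obtain ⟨g, hg⟩ := MulAction.exists_smul_eq G β α
  set u := g * t * g⁻¹ with hu
  have huo : orderOf u = 2 := by
    rw [hu, show g * t * g⁻¹ = MulAut.conj g t by simp, MulEquiv.orderOf_eq, F.t_ord]
  have hsp : IsSp u (g • α) := (F.sp_t hint).conj g
  have hne : g • α ≠ α := fun e => F.αβ (MulAction.injective g (e.trans hg.symm))
  have huα : u • α = α := by
    rw [← hg, hu, mul_smul, mul_smul, inv_smul_smul, F.fixed_t.2.1]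
  -- into the Sylow subgroup inside the stabiliser
  have hSH : (S : Subgroup G) ≤ stabilizer G α := fun x hx => F.fixS x hx
  have hQ : IsPGroup 2 (Subgroup.zpowers u) :=
    IsPGroup.of_card (n := 1) (by rw [Nat.card_zpowers, huo, pow_one])
  obtain ⟨P, hP⟩ := (hQ.comap_subtype (K := stabilizer G α)).exists_le_sylow
  obtain ⟨h, hh⟩ := MulAction.exists_smul_eq (stabilizer G α) P (S.subtype hSH)
  have h1 : h * ⟨u, huα⟩ * h⁻¹ ∈
      ((S.subtype hSH : Sylow 2 (stabilizer G α)) : Subgroup (stabilizer G α)) := by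
    rw [← hh, Sylow.coe_subgroup_smul]
    exact Subgroup.smul_mem_pointwise_smul (⟨u, huα⟩ : stabilizer G α) (MulAut.conj h) _
      (hP (Subgroup.mem_zpowers u))
  rw [Sylow.coe_subtype, Subgroup.mem_subgroupOf] at h1
  simp only [Subgroup.coe_mul, InvMemClass.coe_inv] at h1
  set τ := (h : G) * u * (h : G)⁻¹ with hτ
  have hτo : orderOf τ = 2 := by
    rw [hτ, show (h : G) * u * (h : G)⁻¹ = MulAut.conj (h : G) u by simp, MulEquiv.orderOf_eq, huo]
  set x := (h : G) • g • α with hx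
  have hspτ : IsSp τ x := hsp.conj h
  have hxα : x ≠ α := fun e => hne (MulAction.injective (h : G) (e.trans h.2.symm))
  have hτt : τ ≠ t := fun e => hxα (F.sp_unique_t (e ▸ hspτ))
  have hτβ : τ • β = β ∧ τ • γ = γ := by
    refine (F.perm τ h1).resolve_right fun hsw => hxα ?_
    -- `t` exchanges the two other fixed points
    have ht := hspτ.2 t (F.t_comm τ h1).symm
    rcases (F.fixt x).1 ht with e | e | e
    · exact e
    · exact absurd (by rw [← hsw.1, ← e, hspτ.1]) F.βγ
    · exact absurd (by rw [← hsw.2, ← e, hspτ.1]) F.βγ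
  refine ⟨τ, x, h1, hτo, hτt, hτβ.1, hτβ.2, hspτ, ?_⟩
  rcases eq_of_three (s := fixedBy Ω τ) (T.fix3 τ hτo) (F.fixS τ h1) hτβ.1 hτβ.2 F.αβ F.αγ F.βγ
    hspτ.1 with e | e | e
  · exact absurd e hxα
  · exact Or.inl e
  · exact Or.inr e

/-- In the intransitive case the Sylow subgroup has order at most eight. -/
theorem le_eight_of_int (T : Three G Ω) (hint : ∀ c : G, Commute c t → c • α = α) {K : ℕ}
    (hK : (Nat.card G).factorization 2 = K) : K ≤ 3 := by
  classical
  haveI : Fact (Nat.Prime 2) := ⟨Nat.prime_two⟩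
  by_contra hK3
  obtain ⟨τ, x₀, hτ, hτo, hτt, hτβ, hτγ, hsp, hx₀⟩ := F.exists_tau T hint
  have hcent := F.cent_noncentral hK (by omega) hτ hτo hτt hτβ
  have hcardS : Nat.card (S : Subgroup G) = 2 ^ K := by rw [S.card_eq_multiplicity, hK]
  set P := (S : Subgroup G) with hP
  -- the part fixing `β`
  set B : Subgroup G := P ⊓ stabilizer G β with hB
  have hBK : 2 ^ (K - 1) ≤ Nat.card B := by
    have h2 : (B.subgroupOf P).index ≤ 2 := by
      have e : B.subgroupOf P = stabilizer P β := by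
        ext g; exact ⟨fun h => (Subgroup.mem_inf.1 (Subgroup.mem_subgroupOf.1 h)).2,
          fun h => Subgroup.mem_subgroupOf.2 (Subgroup.mem_inf.2 ⟨g.2, h⟩)⟩
      rw [e, MulAction.index_stabilizer]
      calc (orbit P β).ncard ≤ ({β, γ} : Set Ω).ncard := by
            refine Set.ncard_le_ncard ?_ (Set.toFinite _)
            rintro _ ⟨⟨g, hg⟩, rfl⟩
            rcases F.perm g hg with h | h
            · exact Or.inl h.1
            · exact Or.inr h.1
        _ = 2 := Set.ncard_pair F.βγ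
    have h3 := (B.subgroupOf P).card_mul_index
    rw [Nat.card_congr (Subgroup.subgroupOfEquivOfLe (inf_le_left : B ≤ P)).toEquiv, hcardS] at h3
    have h4 : 2 ^ K ≤ Nat.card B * 2 := h3 ▸ Nat.mul_le_mul_left _ h2
    rw [show K = K - 1 + 1 by omega, pow_succ] at h4
    omega
  set V : Subgroup G := Subgroup.closure ({t, τ} : Set G) with hV
  have htτ : Commute t τ := (F.t_comm τ hτ).symm
  have hVmem : ∀ v ∈ V, v = 1 ∨ v = t ∨ v = τ ∨ v = t * τ := by
    intro v hv
    refine Subgroup.closure_induction (p := fun v _ => v = 1 ∨ v = t ∨ v = τ ∨ v = t * τ)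
      ?_ (Or.inl rfl) ?_ ?_ hv
    · rintro v (rfl | rfl) <;> simp
    · have e1 := sq_one_of_ord F.t_ord
      have e2 := sq_one_of_ord hτo
      have f0 : τ * t = t * τ := htτ.eq.symm
      have f1 : t * (t * τ) = τ := by rw [← mul_assoc, e1, one_mul]
      have f2 : τ * (t * τ) = t := by rw [← mul_assoc, f0, mul_assoc, e2, mul_one]
      have f3 : t * τ * t = τ := by rw [mul_assoc, f0, f1]
      have f4 : t * τ * τ = t := by rw [mul_assoc, e2, mul_one]
      have f5 : t * τ * (t * τ) = 1 := by rw [← mul_assoc, f3, e2]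
      intro p q _ _ hp hq
      rcases hp with e | e | e | e <;> rcases hq with e' | e' | e' | e' <;> rw [e, e'] <;>
        simp [e1, e2, f0, f1, f2, f3, f4, f5]
    · intro p _ hp
      rcases hp with rfl | rfl | rfl | rfl
      · simp
      · simp [inv_of_ord F.t_ord]
      · simp [inv_of_ord hτo]
      · simp [inv_of_ord hτo, inv_of_ord F.t_ord, ← htτ.eq]
  have htV : t ∈ V := Subgroup.subset_closure (Or.inl rfl)
  have hτV : τ ∈ V := Subgroup.subset_closure (Or.inr rfl)
  have hVB : V ≤ B := by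
    rw [hV, Subgroup.closure_le]
    rintro _ (rfl | rfl)
    · exact Subgroup.mem_inf.2 ⟨F.t_mem, F.fixed_t.2.1⟩
    · exact Subgroup.mem_inf.2 ⟨hτ, hτβ⟩
  have hVcard : Nat.card V ≤ 4 := by
    rw [Nat.card_eq_fintype_card, Fintype.card_subtype]
    refine le_trans (Finset.card_le_card (t := {1, t, τ, t * τ}) fun v hv => ?_) ?_
    · simpa using hVmem v (Finset.mem_filter.1 hv).2
    · exact le_trans (Finset.card_insert_le _ _) (Nat.succ_le_succ (le_trans (Finset.card_insert_le _ _)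
        (Nat.succ_le_succ Finset.card_le_two)))
  have grow : ∀ R : Subgroup G, IsPGroup 2 R → V ≤ R → 4 < Nat.card R →
      ∃ h ∈ R, h ∉ V ∧ ∀ v ∈ V, h * v * h⁻¹ ∈ V := by
    intro R hR hVR hlt
    haveI := hR.isNilpotent
    have hnc : NormalizerCondition R := Group.normalizerCondition_of_isNilpotent
    have hVlt : V.subgroupOf R < ⊤ := by
      refine lt_top_iff_ne_top.2 fun e => ?_
      rw [Subgroup.subgroupOf_eq_top] at e
      have := Subgroup.card_le_of_le e
      omega
    obtain ⟨h, hh, hhV⟩ := SetLike.exists_of_lt (hnc _ hVlt)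
    refine ⟨h, h.2, fun e => hhV (Subgroup.mem_subgroupOf.2 e), fun v hv => ?_⟩
    have := (Subgroup.mem_normalizer_iff.1 hh ⟨v, hVR hv⟩).1 (Subgroup.mem_subgroupOf.2 hv)
    simpa [Subgroup.mem_subgroupOf] using this
  have conj_eq : ∀ h : G, (∀ v ∈ V, h * v * h⁻¹ ∈ V) → h * t * h⁻¹ = t → h * τ * h⁻¹ = τ ∨
      h * τ * h⁻¹ = t * τ := by
    intro h hh ht
    rcases hVmem _ (hh τ hτV) with e | e | e | e
    · exact absurd (conj_eq_one_iff.1 e) (ne_one_of_ord hτo)
    · exact absurd (mul_left_cancel (mul_right_cancel (e.trans ht.symm))) hτt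
    · exact Or.inl e
    · exact Or.inr e
  -- an element of `B` exchanging `τ` and `tτ`
  obtain ⟨e, heB, heV, hen⟩ := grow B (S.2.to_le inf_le_left) hVB (by
    have : 2 ^ 3 ≤ 2 ^ (K - 1) := Nat.pow_le_pow_right two_pos (by omega)
    omega)
  obtain ⟨heP, heβ⟩ := Subgroup.mem_inf.1 heB
  have het : e * t * e⁻¹ = t := by rw [(F.t_comm e heP).eq, mul_inv_cancel_right]
  have heτ : e * τ * e⁻¹ = t * τ := by
    refine (conj_eq e hen het).resolve_left fun h => heV ?_
    rcases hcent e heP (mul_inv_eq_iff_eq_mul.1 h) with rfl | rfl | rfl | rfl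
    exacts [one_mem _, htV, hτV, mul_mem htV hτV]
  have heγ : e • γ = γ :=
    (F.perm e heP).elim (fun h => h.2) fun h => absurd (heβ.symm.trans h.1) F.βγ
  have hsp2 : IsSp (t * τ) x₀ := by
    have h := hsp.conj e
    rwa [heτ, show e • x₀ = x₀ by rcases hx₀ with rfl | rfl <;> assumption] at h
  -- a Sylow subgroup of the centraliser of `τ`
  obtain ⟨g₀, hg₀⟩ := isConj_iff.1 (T.conj t τ F.t_ord hτo)
  set S' : Sylow 2 G := g₀ • S with hS'
  have hS'τ : ∀ g ∈ (S' : Subgroup G), Commute g τ := by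
    intro g hg
    rw [hS', Sylow.coe_subgroup_smul, Subgroup.mem_pointwise_smul_iff_inv_smul_mem] at hg
    have hg2 : g₀⁻¹ * g * g₀ ∈ P := by simpa [MulAut.smul_def] using hg
    have h := (F.t_comm _ hg2).map (MulAut.conj g₀)
    simp only [MulAut.conj_apply] at h
    rwa [hg₀, show g₀ * (g₀⁻¹ * g * g₀) * g₀⁻¹ = g by group] at h
  obtain ⟨g₁, hg₁c, hg₁⟩ := conj_into_sylow hS'τ (S.2.to_le (hVB.trans inf_le_left) : IsPGroup 2 V)
    (fun v hv => by
      rcases hVmem v hv with rfl | rfl | rfl | rfl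
      exacts [Commute.one_left _, htτ, Commute.refl _, htτ.mul_left (Commute.refl _)])
  set R : Subgroup G := (S' : Subgroup G).map (MulAut.conj g₁⁻¹).toMonoidHom with hR
  have hRmem : ∀ x, x ∈ R ↔ g₁ * x * g₁⁻¹ ∈ (S' : Subgroup G) := by
    intro x
    rw [hR, Subgroup.mem_map]
    constructor
    · rintro ⟨y, hy, rfl⟩
      simpa [mul_assoc] using hy
    · intro hx
      exact ⟨_, hx, by simp [mul_assoc]⟩
  have hRcard : Nat.card R = 2 ^ K := by
    rw [hR, Subgroup.card_map_of_injective (MulAut.conj g₁⁻¹).injective, S'.card_eq_multiplicity, hK]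
  obtain ⟨h, hhR, hhV, hhn⟩ := grow R (IsPGroup.of_card hRcard) (fun v hv => (hRmem v).2 (hg₁ v hv))
    (by rw [hRcard]; have : 2 ^ 3 ≤ 2 ^ K := Nat.pow_le_pow_right two_pos (by omega); omega)
  have hhc : Commute h τ := by
    have h1 := (hS'τ _ ((hRmem h).1 hhR)).map (MulAut.conj g₁⁻¹)
    simp only [MulAut.conj_apply, inv_inv] at h1
    rw [show g₁⁻¹ * τ * g₁ = τ by rw [mul_assoc, ← hg₁c.eq, inv_mul_cancel_left]] at h1
    rwa [show g₁⁻¹ * (g₁ * h * g₁⁻¹) * g₁ = h by group] at h1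
  rcases hVmem _ (hhn t htV) with e1 | e1 | e1 | e1
  · exact ne_one_of_ord F.t_ord (conj_eq_one_iff.1 e1)
  · -- `h` centralises `V`: too big a centraliser in the Sylow subgroup
    have hht : Commute h t := mul_inv_eq_iff_eq_mul.1 e1
    set Q : Subgroup G := V ⊔ Subgroup.zpowers h with hQ
    have hQR : Q ≤ R := sup_le (fun v hv => (hRmem v).2 (hg₁ v hv)) (Subgroup.zpowers_le.2 hhR)
    have hQt : ∀ g ∈ Q, Commute g t := by
      intro g hg
      have hle : Q ≤ Subgroup.centralizer ({t} : Set G) := by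
        refine sup_le (fun v hv => ?_) (Subgroup.zpowers_le.2 (Subgroup.mem_centralizer_singleton_iff.2 hht.eq))
        rw [Subgroup.mem_centralizer_singleton_iff]
        exact (F.t_comm v ((hVB hv).1)).eq
      exact Subgroup.mem_centralizer_singleton_iff.1 (hle hg)
    obtain ⟨g, hgt, hgQ⟩ := conj_into_sylow F.t_comm ((IsPGroup.of_card hRcard).to_le hQR) hQt
    set τ2 := g * τ * g⁻¹ with hτ2
    have hτ2S : τ2 ∈ P := hgQ τ (Subgroup.mem_sup_left hτV)
    have hgtt : g * t * g⁻¹ = t := by rw [hgt.eq, mul_inv_cancel_right]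
    have hτ2o : orderOf τ2 = 2 := by
      rw [hτ2, show g * τ * g⁻¹ = MulAut.conj g τ by simp, MulEquiv.orderOf_eq, hτo]
    have hτ2t : τ2 ≠ t := fun e => hτt (mul_left_cancel (mul_right_cancel (e.trans hgtt.symm)))
    have hτ2β : τ2 • β = β := by
      refine ((F.perm τ2 hτ2S).resolve_right fun hsw => ?_).1
      have h3 : IsSp τ2 (g • x₀) := hsp.conj g
      have h4 := h3.2 t (F.t_comm τ2 hτ2S).symm
      rcases (F.fixt _).1 h4 with e | e | e
      · have h5 : x₀ = α := MulAction.injective g (e.trans (hint g hgt).symm)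
        rcases hx₀ with rfl | rfl
        · exact F.αβ h5.symm
        · exact F.αγ h5.symm
      · exact F.βγ (by rw [← hsw.1, ← e, h3.1])
      · exact F.βγ (by rw [← hsw.2, ← e, h3.1])
    have hcomm2 : Commute (g * h * g⁻¹) τ2 := hhc.map (MulAut.conj g)
    have hin := hgQ h (Subgroup.mem_sup_right (Subgroup.mem_zpowers h))
    refine hhV ?_
    rcases F.cent_noncentral hK (by omega) hτ2S hτ2o hτ2t hτ2β _ hin hcomm2 with e2 | e2 | e2 | e2
    · rw [conj_eq_one_iff.1 e2]; exact one_mem _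
    · rw [mul_left_cancel (mul_right_cancel (e2.trans hgtt.symm))]; exact htV
    · rw [mul_left_cancel (mul_right_cancel e2)]; exact hτV
    · have e3 : t * τ2 = g * (t * τ) * g⁻¹ := by
        rw [hτ2]
        calc t * (g * τ * g⁻¹) = (g * t * g⁻¹) * (g * τ * g⁻¹) := by rw [hgtt]
          _ = _ := by group
      rw [mul_left_cancel (mul_right_cancel (e2.trans e3))]; exact mul_mem htV hτV
  · exact F.t_ne_w (absurd (mul_left_cancel (mul_right_cancel (e1.trans
      (show τ = h * τ * h⁻¹ by rw [hhc.eq, mul_inv_cancel_right])))) (Ne.symm hτt))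
  · -- `h` moves the special point of `tτ`
    have h3 : IsSp (t * τ) (h • α) := e1 ▸ (F.sp_t hint).conj h
    have htτo : orderOf (t * τ) = 2 := by
      rw [← e1, show h * t * h⁻¹ = MulAut.conj h t by simp, MulEquiv.orderOf_eq, F.t_ord]
    have h4 := F.sp_unique T htτo h3 hsp2
    have h5 : h • x₀ = x₀ := hsp.2 h hhc
    have h6 : α = x₀ := MulAction.injective h (h4.trans h5.symm)
    rcases hx₀ with rfl | rfl
    · exact F.αβ h6
    · exact F.αγ h6

/-- In the transitive case the other suborbit is a multiple of the Sylow order. -/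
theorem suborbit_dvd (T : Three G Ω) {c : G} (hc : Commute c t) (hcα : c • α ≠ α) {ε : Ω}
    (hεα : ε ≠ α) (hε : ε ∉ orbit (stabilizer G α) β) {K : ℕ}
    (hK : (Nat.card G).factorization 2 = K) :
    2 ^ K ∣ Nat.card (orbit (stabilizer G α) ε) := by
  classical
  haveI : Fact (Nat.Prime 2) := ⟨Nat.prime_two⟩
  set Hs := stabilizer G α
  -- no involution fixes `α` and a point of the orbit of `ε`
  have hno : ∀ (s : G), orderOf s = 2 → s • α = α → ∀ y ∈ orbit Hs ε, s • y ≠ y := by
    intro s hs hsα y hy hsy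
    obtain ⟨g, hg⟩ := isConj_iff.1 (T.conj s t hs F.t_ord)
    have hpres : ∀ d : G, Commute d t → ∀ x : Ω, t • x = x → t • d • x = d • x := fun d hd x hx => by
      rw [← mul_smul, ← hd.eq, mul_smul, hx]
    have hga : t • g • α = g • α := by rw [← hg, mul_smul, inv_smul_smul, mul_smul, hsα]
    have hgy : t • g • y = g • y := by rw [← hg, mul_smul, inv_smul_smul, mul_smul, hsy]
    have hyα : y ≠ α := by
      rintro rfl
      obtain ⟨⟨d, hd⟩, hde⟩ := hy
      exact hεα (MulAction.injective d (hde.trans (mem_stabilizer_iff.1 hd).symm))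
    -- move `g • α` to `α`
    obtain ⟨d, hd, hdα⟩ : ∃ d : G, Commute d t ∧ d • g • α = α := by
      have hbc : ∃ e : G, Commute e t ∧ e • β = γ := ⟨w, F.t_mul_w_comm.symm, F.w_swap⟩
      obtain ⟨e, he, heβ⟩ := hbc
      rcases (F.fixt _).1 hga with e1 | e1 | e1
      · exact ⟨1, Commute.one_left _, by rw [one_smul, e1]⟩
      · rcases (F.fixt _).1 (hpres c hc α F.fixed_t.1) with e2 | e2 | e2
        · exact absurd e2 hcα
        · exact ⟨c⁻¹, hc.inv_left, by rw [e1, ← e2, inv_smul_smul]⟩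
        · exact ⟨c⁻¹ * e, hc.inv_left.mul_left he, by
            rw [e1, mul_smul, heβ, ← e2, inv_smul_smul]⟩
      · rcases (F.fixt _).1 (hpres c hc α F.fixed_t.1) with e2 | e2 | e2
        · exact absurd e2 hcα
        · exact ⟨c⁻¹ * e⁻¹, hc.inv_left.mul_left he.inv_left, by
            rw [e1, mul_smul, ← heβ, inv_smul_smul, ← e2, inv_smul_smul]⟩
        · exact ⟨c⁻¹, hc.inv_left, by rw [e1, ← e2, inv_smul_smul]⟩
    have hdy : t • d • g • y = d • g • y := hpres d hd _ hgy
    have hdyβ : d • g • y ∈ orbit Hs β := by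
      rcases (F.fixt _).1 hdy with e1 | e1 | e1
      · exact absurd (MulAction.injective g (MulAction.injective d (e1.trans hdα.symm))) hyα
      · exact e1 ▸ mem_orbit_self _
      · exact e1 ▸ ⟨⟨w, F.fixS w F.w_mem⟩, F.w_swap⟩
    have hmem : d * g ∈ Hs := mem_stabilizer_iff.2 (by rw [mul_smul, hdα])
    have h2 : y ∈ orbit Hs β := by
      rw [← MulAction.orbit_eq_iff] at hdyβ ⊢
      rw [← hdyβ, ← mul_smul]
      exact (MulAction.orbit_eq_iff.2 (⟨⟨d * g, hmem⟩, rfl⟩ : (d * g) • y ∈ orbit Hs y)).symm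
    refine hε ?_
    rw [← MulAction.orbit_eq_iff] at hy h2 ⊢
    rw [← hy, h2]
  have hSH : (S : Subgroup G) ≤ Hs := fun x hx => F.fixS x hx
  have hinv : ∀ (g : (S : Subgroup G)) (y : orbit Hs ε), (g : G) • (y : Ω) ∈ orbit Hs ε := by
    intro g y
    obtain ⟨d, hd⟩ := y.2
    exact ⟨⟨g, hSH g.2⟩ * d, by
      show ((g : G) * (d : G)) • ε = _
      rw [mul_smul]; exact congrArg _ hd⟩
  letI : MulAction (S : Subgroup G) (orbit Hs ε) :=
    { smul := fun g y => ⟨(g : G) • (y : Ω), hinv g y⟩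
      one_smul := fun x => Subtype.ext (one_smul G (x : Ω))
      mul_smul := fun b c x => Subtype.ext (mul_smul (b : G) (c : G) (x : Ω)) }
  have hd := free_dvd (S := (S : Subgroup G)) (X := orbit Hs ε) fun g y e => by
    by_contra hg
    obtain ⟨n, hn⟩ := exists_involution_pow g.2 (fun e' => hg (Subtype.ext e'))
    exact hno _ hn (smul_pow_eq (F.fixS g g.2) n) y y.2 (smul_pow_eq (congrArg Subtype.val e) n)
  rwa [S.card_eq_multiplicity, hK] at hd

end Frame

end CfsgLib.ItoThreeP
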