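import Cfsg.Agent.Criterion.Reflection
import Cfsg.Agent.StrongEmb.Inverted

/-!
# Two commuting involutions acting on a subgroup of odd order
-/

set_option autoImplicit false

namespace CfsgLib.ItoThreeP

open CfsgLib.StronglyEmbedded CfsgLib.StrongEmb

universe u

variable {G : Type u} [Group G] [Finite G]

/-- The order formula of Brauer and Wielandt. -/
theorem four_group_formula {R : Subgroup G} (hodd : Odd (Nat.card R)) {u v : G}
    (hu : orderOf u = 2) (hv : orderOf v = 2) (huv : Commute u v)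
    (hRu : ∀ x ∈ R, u * x * u⁻¹ ∈ R) (hRv : ∀ x ∈ R, v * x * v⁻¹ ∈ R) :
    Nat.card R * Nat.card ↥(R ⊓ Subgroup.centralizer ({u} : Set G) ⊓
        Subgroup.centralizer ({v} : Set G)) ^ 2 =
      Nat.card ↥(R ⊓ Subgroup.centralizer ({u} : Set G)) *
        Nat.card ↥(R ⊓ Subgroup.centralizer ({v} : Set G)) *
        Nat.card ↥(R ⊓ Subgroup.centralizer ({v * u} : Set G)) := by
  have hui : u⁻¹ = u := inv_eq_of_mul_eq_one_left (mul_self_eq_one hu)
  have hu2 := mul_self_eq_one hu
  set T : Set G := {s | orderOf s = 2 ∧ u * s ∈ R} with hT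
  have huT : u ∈ T := ⟨hu, by rw [hu2]; exact one_mem R⟩
  have hnotR : u ∉ R := fun h => by
    have h2 := Subgroup.orderOf_dvd_natCard R h
    rw [hu] at h2
    exact Nat.not_even_iff_odd.2 hodd (even_iff_two_dvd.2 h2)
  have hsR : ∀ s ∈ T, ∀ x ∈ R, s * x * s⁻¹ ∈ R := by
    intro s hs x hx
    have e : s * x * s⁻¹ = u * ((u * s) * x * (u * s)⁻¹) * u⁻¹ := by
      rw [mul_inv_rev, hui]
      calc s * x * s⁻¹ = (u * u) * s * x * s⁻¹ * (u * u) := by rw [hu2, one_mul, mul_one]
        _ = _ := by group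
    rw [e]
    exact hRu _ (mul_mem (mul_mem hs.2 hx) (inv_mem hs.2))
  have hrefl : Criterion.Reflective T := by
    refine ⟨fun x hx => hx.1, fun x hx y hy => ?_, fun x hx y hy => ?_⟩
    · have hxi : x⁻¹ = x := inv_eq_of_mul_eq_one_left (mul_self_eq_one hx.1)
      have hyi : y⁻¹ = y := inv_eq_of_mul_eq_one_left (mul_self_eq_one hy.1)
      refine ⟨?_, ?_⟩
      · rw [show x * y * x = x * y * x⁻¹ by rw [hxi],
          show x * y * x⁻¹ = MulAut.conj x y by simp, MulEquiv.orderOf_eq, hy.1]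
      · have e : u * (x * y * x) = (u * x) * ((u * y)⁻¹ * (u * x)) := by
          rw [mul_inv_rev, hyi]
          group
        rw [e]
        exact mul_mem hx.2 (mul_mem (inv_mem hy.2) hx.2)
    · have hxi : x⁻¹ = x := inv_eq_of_mul_eq_one_left (mul_self_eq_one hx.1)
      have e : x * y = (u * x)⁻¹ * (u * y) := by rw [mul_inv_rev, hxi]; group
      exact hodd.of_dvd_nat (Subgroup.orderOf_dvd_natCard R (e ▸ mul_mem (inv_mem hx.2) hy.2))
  -- members of `T` are `u` times inverted elements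
  have part : ∀ g : G, Commute g u →
      Nat.card (Criterion.fixedPart T g) *
        Nat.card ↥(R ⊓ Subgroup.centralizer ({g} : Set G) ⊓ Subgroup.centralizer ({u} : Set G)) =
      Nat.card ↥(R ⊓ Subgroup.centralizer ({g} : Set G)) := by
    intro g hg
    set P := R ⊓ Subgroup.centralizer ({g} : Set G) with hP
    have hPu : InvariantUnder u P := by
      intro x hx
      obtain ⟨h1, h2⟩ := Subgroup.mem_inf.1 hx
      refine Subgroup.mem_inf.2 ⟨hRu x h1, Subgroup.mem_centralizer_singleton_iff.2 ?_⟩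
      have h3 : Commute x g := Subgroup.mem_centralizer_singleton_iff.1 h2
      exact ((hg.symm.mul_left h3).mul_left hg.symm.inv_left).eq
    have hPodd : Odd (Nat.card P) := hodd.of_dvd_nat (Subgroup.card_dvd_of_le inf_le_left)
    rw [← card_invertedSet_mul hu hPodd hPu]
    congr 1
    refine Nat.card_congr (Equiv.subtypeEquiv (Equiv.mulLeft u) fun s => ?_)
    constructor
    · rintro ⟨⟨h1, h2⟩, h3⟩
      refine ⟨Subgroup.mem_inf.2 ⟨h2, Subgroup.mem_centralizer_singleton_iff.2
        (hg.symm.mul_left h3.symm).eq⟩, ?_⟩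
      have hsi : s⁻¹ = s := inv_eq_of_mul_eq_one_left (mul_self_eq_one h1)
      show u * (u * s) * u⁻¹ = (u * s)⁻¹
      rw [mul_inv_rev, hsi, ← mul_assoc, hu2, one_mul]
    · rintro ⟨h1, h2⟩
      replace h1 : u * s ∈ P := h1
      replace h2 : u * (u * s) * u⁻¹ = (u * s)⁻¹ := h2
      obtain ⟨h3, h4⟩ := Subgroup.mem_inf.1 h1
      rw [← mul_assoc, hu2, one_mul, hui, mul_inv_rev, hui] at h2
      have hs : s = s⁻¹ := mul_right_cancel h2
      have hne : s ≠ 1 := fun h => hnotR (by rw [h, mul_one] at h3; exact h3)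
      refine ⟨⟨orderOf_eq_prime (by rw [pow_two]; nth_rewrite 2 [hs]; exact mul_inv_cancel s) hne,
        h3⟩, ?_⟩
      have h5 : Commute g (u * s) := (Subgroup.mem_centralizer_singleton_iff.1 h4).symm
      have h6 := hg.mul_right h5
      rwa [← mul_assoc, hu2, one_mul] at h6
  have hvT : ∀ x ∈ T, v * x * v⁻¹ ∈ T := fun x hx =>
    ⟨by rw [show v * x * v⁻¹ = MulAut.conj v x by simp, MulEquiv.orderOf_eq, hx.1], by
      have h := hRv _ hx.2
      rwa [show v * (u * x) * v⁻¹ = (v * u) * x * v⁻¹ by group, ← huv.eq,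
        show u * v * x * v⁻¹ = u * (v * x * v⁻¹) by group] at h⟩
  have hTcard := hrefl.card_eq_mul huT huv.symm hvT fun x _ => conj_conj_involution hv x
  have hT1 : Nat.card T = Nat.card (Criterion.fixedPart T 1) :=
    Nat.card_congr (Equiv.subtypeEquivRight fun s => ⟨fun h => ⟨h, Commute.one_left s⟩, fun h => h.1⟩)
  have e1 := part 1 (Commute.one_left u)
  have hc1 : R ⊓ Subgroup.centralizer ({(1 : G)} : Set G) = R :=
    inf_eq_left.2 fun x _ => Subgroup.mem_centralizer_singleton_iff.2 (by simp)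
  rw [hc1] at e1
  have e2 := part v huv.symm
  have e3 := part (v * u) (huv.symm.mul_left (Commute.refl u))
  have hint : R ⊓ Subgroup.centralizer ({v * u} : Set G) ⊓ Subgroup.centralizer ({u} : Set G) =
      R ⊓ Subgroup.centralizer ({u} : Set G) ⊓ Subgroup.centralizer ({v} : Set G) := by
    ext x
    simp only [Subgroup.mem_inf, Subgroup.mem_centralizer_singleton_iff]
    constructor
    · rintro ⟨⟨h1, h2⟩, h3⟩
      refine ⟨⟨h1, h3⟩, ?_⟩
      have h4 : Commute x (v * u * u⁻¹) := Commute.mul_right h2 (Commute.inv_right h3)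
      rwa [mul_inv_cancel_right] at h4
    · rintro ⟨⟨h1, h2⟩, h3⟩
      exact ⟨⟨h1, (Commute.mul_right h3 h2 : Commute x (v * u))⟩, h2⟩
  have hint2 : R ⊓ Subgroup.centralizer ({v} : Set G) ⊓ Subgroup.centralizer ({u} : Set G) =
      R ⊓ Subgroup.centralizer ({u} : Set G) ⊓ Subgroup.centralizer ({v} : Set G) := inf_right_comm _ _ _
  rw [hint2] at e2
  rw [hint] at e3
  set c := Nat.card ↥(R ⊓ Subgroup.centralizer ({u} : Set G) ⊓ Subgroup.centralizer ({v} : Set G))
  rw [← e1, ← e2, ← e3, ← hT1, hTcard]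
  ring

end CfsgLib.ItoThreeP
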