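import Cfsg.Agent.ItoThreeP.Section
import Cfsg.Agent.ItoThreeP.FourGroup

/-!
# Centralisers of four-groups when the odd part of `C(t)` fixes the three points
-/

set_option autoImplicit false
set_option linter.style.haveILetI false
set_option linter.unusedSectionVars false

namespace CfsgLib.ItoThreeP

open Cfsg CfsgLib MulAction CfsgLib.FusionTwo

universe u v

theorem card_comap_conj {G : Type u} [Group G] (g : G) (X : Subgroup G) :
    Nat.card ↥(X.comap (MulAut.conj g).toMonoidHom) = Nat.card X :=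
  Nat.card_congr (Equiv.subtypeEquiv (MulAut.conj g).toEquiv fun y => Iff.rfl)

theorem not_two_dvd_orderOf {G : Type u} [Group G] {X : Subgroup G} [Finite X]
    (h : Odd (Nat.card X)) {y : G} (hy : y ∈ X) : ¬ 2 ∣ orderOf y := fun h2 =>
  Nat.not_even_iff_odd.2 h (even_iff_two_dvd.2 (h2.trans (Subgroup.orderOf_dvd_natCard X hy)))

theorem orderOf_conj_eq {G : Type u} [Group G] (g x : G) : orderOf (g * x * g⁻¹) = orderOf x := by
  rw [show g * x * g⁻¹ = MulAut.conj g x by simp, MulEquiv.orderOf_eq]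

variable {G : Type u} [Group G] [Fintype G] [IsSimpleGroup G]
  {Ω : Type v} [Fintype Ω] [MulAction G Ω] [FaithfulSMul G Ω] [IsPretransitive G Ω]

/-- The pointwise stabiliser of three points. -/
def triStab (G : Type u) [Group G] {Ω : Type v} [MulAction G Ω] (α β γ : Ω) : Subgroup G :=
  stabilizer G α ⊓ stabilizer G β ⊓ stabilizer G γ

theorem mem_triStab {α β γ : Ω} {g : G} :
    g ∈ triStab G α β γ ↔ g • α = α ∧ g • β = β ∧ g • γ = γ := by
  simp only [triStab, Subgroup.mem_inf, mem_stabilizer_iff, and_assoc]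

namespace Frame

variable {S : Sylow 2 G} {α β γ δ : Ω} {t w : G} (F : Frame S α β γ δ t w)
include F

/-- The intransitive case holds when the odd part of `C(t)` fixes the three points. -/
theorem intransitive (hK : (Nat.card G).factorization 2 = 3) {O : Subgroup G}
    (hO : ∀ y, y ∈ O ↔ Commute y t ∧ ¬ 2 ∣ orderOf y) (hodd : Odd (Nat.card O))
    (hcard : Nat.card (Subgroup.centralizer ({t} : Set G)) = 8 * Nat.card O)
    (hfix : ∀ y ∈ O, ∀ x : Ω, t • x = x → y • x = x) :
    ∀ c : G, Commute c t → c • α = α := by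
  haveI : Fact (Nat.Prime 2) := ⟨Nat.prime_two⟩
  set X := Subgroup.centralizer ({t} : Set G) ⊓ stabilizer G α with hX
  have h1 : (S : Subgroup G) ≤ X := fun g hg => Subgroup.mem_inf.2
    ⟨Subgroup.mem_centralizer_singleton_iff.2 (F.t_comm g hg).eq, F.fixS g hg⟩
  have h2 : O ≤ X := fun g hg => Subgroup.mem_inf.2
    ⟨Subgroup.mem_centralizer_singleton_iff.2 ((hO g).1 hg).1.eq, hfix g hg α F.fixed_t.1⟩
  have h3 : 8 * Nat.card O ∣ Nat.card X := by
    refine Nat.Coprime.mul_dvd_of_dvd_of_dvd ?_ ?_ (Subgroup.card_dvd_of_le h2)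
    · rw [show (8 : ℕ) = 2 ^ 3 from rfl]
      exact (Nat.prime_two.coprime_iff_not_dvd.2 fun h =>
        Nat.not_even_iff_odd.2 hodd (even_iff_two_dvd.2 h)).pow_left 3
    · have h := Subgroup.card_dvd_of_le h1
      rwa [S.card_eq_multiplicity, hK] at h
  have hXC := Subgroup.eq_of_le_of_card_ge (inf_le_left : X ≤ Subgroup.centralizer ({t} : Set G))
    (hcard ▸ Nat.le_of_dvd Nat.card_pos h3)
  intro c hc
  have : c ∈ Subgroup.centralizer ({t} : Set G) ⊓ stabilizer G α := by
    rw [hXC]; exact Subgroup.mem_centralizer_singleton_iff.2 hc.eq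
  exact (Subgroup.mem_inf.1 this).2

/-- An odd element centralising an involution fixes its fixed points. -/
theorem odd_fix (T : Three G Ω) {O : Subgroup G}
    (hO : ∀ y, y ∈ O ↔ Commute y t ∧ ¬ 2 ∣ orderOf y)
    (hfix : ∀ y ∈ O, ∀ x : Ω, t • x = x → y • x = x) {u y : G} (hu : orderOf u = 2)
    (hy : Commute y u) (hy2 : ¬ 2 ∣ orderOf y) {x : Ω} (hx : u • x = x) : y • x = x := by
  obtain ⟨g, rfl⟩ := isConj_iff.1 (T.conj t u F.t_ord hu)
  have hyO : g⁻¹ * y * g ∈ O := by
    refine (hO _).2 ⟨?_, ?_⟩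
    · have h := hy.map (MulAut.conj g⁻¹)
      simpa [mul_assoc] using h
    · rwa [show g⁻¹ * y * g = g⁻¹ * y * g⁻¹⁻¹ by rw [inv_inv], orderOf_conj_eq]
  rw [mul_smul, mul_smul] at hx
  have h2 := hfix _ hyO (g⁻¹ • x) (by rw [eq_inv_smul_iff]; exact hx)
  rw [mul_smul, mul_smul, smul_inv_smul] at h2
  exact MulAction.injective g⁻¹ h2

/-- The non-central involutions of a dihedral Sylow subgroup. -/
theorem refl_forms {σ : G} (hd : IsDihGen (S : Subgroup G) 2 σ w)
    (hz : σ ^ ((2 : ℤ) ^ (2 - 1)) = t) {r : G} (hr : r ∈ (S : Subgroup G)) (hro : orderOf r = 2)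
    (hrt : r ≠ t) :
    (r = w ∨ r = t * w ∨ r = σ * w ∨ r = t * (σ * w)) ∧ σ * r * σ⁻¹ = t * r := by
  have h2 : σ * σ = t := by
    rw [← hz, show ((2 : ℤ) ^ (2 - 1)) = ((2 : ℕ) : ℤ) by norm_num, zpow_natCast, pow_two]
  have hw : w * σ⁻¹ = σ * w := by
    have h := hd.rel
    rw [inv_of_ord F.w_ord] at h
    rw [← h, ← mul_assoc, ← mul_assoc, sq_one_of_ord F.w_ord, one_mul]
  have h4 : ∀ i : ℤ, σ ^ i = σ ^ (i % 4) := by
    intro i
    rw [hd.zpow_eq_iff]
    exact ⟨i / 4, by norm_num; omega⟩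
  obtain ⟨i, hi | hi⟩ := hd.mem_cases hr
  · exfalso
    rw [h4] at hi
    have hm : i % 4 = 0 ∨ i % 4 = 1 ∨ i % 4 = 2 ∨ i % 4 = 3 := by omega
    have hne : σ ^ (1 : ℤ) ≠ σ ^ (-1 : ℤ) := fun e => by
      rw [hd.zpow_eq_iff] at e
      norm_num at e
    have hrr := sq_one_of_ord hro
    rcases hm with e | e | e | e <;> rw [e] at hi <;> subst hi
    · exact ne_one_of_ord hro (zpow_zero σ)
    · rw [zpow_one] at hrr
      exact hne (by rw [zpow_one, zpow_neg_one]; exact eq_inv_of_mul_eq_one_left hrr)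
    · exact hrt (by rw [show (2 : ℤ) = ((2 : ℕ) : ℤ) from rfl, zpow_natCast, pow_two, h2])
    · rw [show (3 : ℤ) = 1 + 1 + 1 from rfl, zpow_add, zpow_add, zpow_one, h2] at hrr
      have h' : t * σ * (t * σ) = t * t * (σ * σ) := by
        have hc : Commute σ t := F.t_comm σ hd.x_mem
        calc t * σ * (t * σ) = t * (σ * t) * σ := by simp only [mul_assoc]
          _ = t * (t * σ) * σ := by rw [hc.eq]
          _ = _ := by simp only [mul_assoc]
      rw [h', sq_one_of_ord F.t_ord, one_mul, h2] at hrr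
      exact ne_one_of_ord F.t_ord hrr
  · refine ⟨?_, ?_⟩
    · rw [h4] at hi
      have hm : i % 4 = 0 ∨ i % 4 = 1 ∨ i % 4 = 2 ∨ i % 4 = 3 := by omega
      rcases hm with e | e | e | e <;> rw [e] at hi <;> subst hi
      · exact Or.inl (by rw [zpow_zero, one_mul])
      · exact Or.inr (Or.inr (Or.inl (by rw [zpow_one])))
      · exact Or.inr (Or.inl (by
          rw [show (2 : ℤ) = ((2 : ℕ) : ℤ) from rfl, zpow_natCast, pow_two, h2]))
      · exact Or.inr (Or.inr (Or.inr (by
          rw [show (3 : ℤ) = 1 + 1 + 1 from rfl, zpow_add, zpow_add, zpow_one, h2, mul_assoc])))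
    · subst hi
      calc σ * (σ ^ i * w) * σ⁻¹ = σ * σ ^ i * (w * σ⁻¹) := by simp only [mul_assoc]
        _ = σ ^ i * σ * (σ * w) := by rw [hw, (Commute.self_zpow σ i).eq]
        _ = σ ^ i * (σ * σ) * w := by simp only [mul_assoc]
        _ = t * (σ ^ i * w) := by
          rw [h2, ← mul_assoc, (F.t_comm _ (zpow_mem hd.x_mem i)).eq]

/-- The centraliser of a four-group containing `t`. -/
theorem card_cent_two {σ : G} (hd : IsDihGen (S : Subgroup G) 2 σ w)
    (hz : σ ^ ((2 : ℤ) ^ (2 - 1)) = t) (hK : (Nat.card G).factorization 2 = 3) {O : Subgroup G}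
    (hO : ∀ y, y ∈ O ↔ Commute y t ∧ ¬ 2 ∣ orderOf y) (hodd : Odd (Nat.card O))
    (hcard : Nat.card (Subgroup.centralizer ({t} : Set G)) = 8 * Nat.card O) {r : G}
    (hr : r ∈ (S : Subgroup G)) (hro : orderOf r = 2) (hrt : r ≠ t) :
    Nat.card (Subgroup.centralizer ({t, r} : Set G)) =
      4 * Nat.card ↥(O ⊓ Subgroup.centralizer ({r} : Set G)) := by
  classical
  haveI : Fact (Nat.Prime 2) := ⟨Nat.prime_two⟩
  set C := Subgroup.centralizer ({t} : Set G) with hC
  set X := Subgroup.centralizer ({t, r} : Set G) with hX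
  have hXmem : ∀ g, g ∈ X ↔ Commute g t ∧ Commute g r := by
    intro g
    rw [hX, Subgroup.mem_centralizer_iff]
    constructor
    · intro h; exact ⟨(h t (Or.inl rfl)).symm, (h r (Or.inr rfl)).symm⟩
    · rintro ⟨h1, h2⟩ m (rfl | rfl)
      · exact h1.eq.symm
      · exact h2.eq.symm
  have hXC : X ≤ C := fun g hg => Subgroup.mem_centralizer_singleton_iff.2 ((hXmem g).1 hg).1.eq
  have hOC : O ≤ C := fun g hg => Subgroup.mem_centralizer_singleton_iff.2 ((hO g).1 hg).1.eq
  haveI : (O.subgroupOf C).Normal := ⟨fun y hy g => by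
    rw [Subgroup.mem_subgroupOf] at hy ⊢
    obtain ⟨h1, h2⟩ := (hO _).1 hy
    refine (hO _).2 ⟨?_, ?_⟩
    · exact Subgroup.mem_centralizer_singleton_iff.1 (g * y * g⁻¹).2
    · rw [Subgroup.coe_mul, Subgroup.coe_mul, InvMemClass.coe_inv, orderOf_conj_eq]
      exact h2⟩
  have hidx : (O.subgroupOf C).index = 8 := by
    have h := (O.subgroupOf C).card_mul_index
    rw [Nat.card_congr (Subgroup.subgroupOfEquivOfLe hOC).toEquiv, hcard, mul_comm 8] at h
    exact Nat.eq_of_mul_eq_mul_left Nat.card_pos h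
  have hdvd : O.relIndex X ∣ 8 := by
    rw [← Subgroup.relIndex_subgroupOf hXC, ← hidx]
    exact Subgroup.relIndex_dvd_index_of_normal _ _
  have hOr : O ⊓ X = O ⊓ Subgroup.centralizer ({r} : Set G) := by
    ext g
    simp only [Subgroup.mem_inf, hXmem, Subgroup.mem_centralizer_singleton_iff]
    exact ⟨fun h => ⟨h.1, h.2.2.eq⟩, fun h => ⟨h.1, ((hO g).1 h.1).1, h.2⟩⟩
  have hmul : Nat.card X = Nat.card ↥(O ⊓ Subgroup.centralizer ({r} : Set G)) * O.relIndex X := by
    rw [← hOr, ← Subgroup.inf_relIndex_right O X,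
      ← Nat.card_congr (Subgroup.subgroupOfEquivOfLe (inf_le_right : O ⊓ X ≤ X)).toEquiv]
    exact (((O ⊓ X).subgroupOf X).card_mul_index).symm
  set o' := Nat.card ↥(O ⊓ Subgroup.centralizer ({r} : Set G))
  have ho' : Odd o' := hodd.of_dvd_nat (Subgroup.card_dvd_of_le inf_le_left)
  have hPpow : Nat.card ↥((S : Subgroup G) ⊓ X) ∣ 8 := by
    have h := Subgroup.card_dvd_of_le (inf_le_left : (S : Subgroup G) ⊓ X ≤ (S : Subgroup G))
    rwa [S.card_eq_multiplicity, hK] at h
  have h4 : 4 ∣ Nat.card X := by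
    refine dvd_trans ?_ (Subgroup.card_dvd_of_le (inf_le_right : (S : Subgroup G) ⊓ X ≤ X))
    have hge : 4 ≤ Nat.card ↥((S : Subgroup G) ⊓ X) := by
      rw [Nat.card_eq_fintype_card, Fintype.card_subtype]
      refine le_trans ?_ (Finset.card_le_card (s := {1, t, r, t * r}) ?_)
      · rw [Finset.card_insert_of_notMem, Finset.card_insert_of_notMem, Finset.card_pair]
        · exact fun e => ne_one_of_ord F.t_ord (mul_eq_right.1 e.symm)
        · simp only [Finset.mem_insert, Finset.mem_singleton, not_or]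
          exact ⟨hrt.symm, fun e => ne_one_of_ord hro (mul_eq_left.1 e.symm)⟩
        · simp only [Finset.mem_insert, Finset.mem_singleton, not_or]
          exact ⟨(ne_one_of_ord F.t_ord).symm, (ne_one_of_ord hro).symm,
            fun e => hrt (by rw [← inv_of_ord F.t_ord]; exact eq_inv_of_mul_eq_one_right e.symm)⟩
      · intro g hg
        simp only [Finset.mem_insert, Finset.mem_singleton] at hg
        refine Finset.mem_filter.2 ⟨Finset.mem_univ _, Subgroup.mem_inf.2 ?_⟩
        have htr : Commute t r := (F.t_comm r hr).symm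
        rcases hg with rfl | rfl | rfl | rfl
        · exact ⟨one_mem _, one_mem _⟩
        · exact ⟨F.t_mem, (hXmem _).2 ⟨Commute.refl _, htr⟩⟩
        · exact ⟨hr, (hXmem _).2 ⟨htr.symm, Commute.refl _⟩⟩
        · exact ⟨mul_mem F.t_mem hr, (hXmem _).2 ⟨(Commute.refl t).mul_left htr.symm,
            htr.mul_left (Commute.refl r)⟩⟩
    have h8 : Nat.card ↥((S : Subgroup G) ⊓ X) ≤ 8 := Nat.le_of_dvd (by norm_num) hPpow
    obtain ⟨k, hk⟩ := hPpow
    have hk2 : k ≤ 2 := by
      by_contra h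
      have := Nat.mul_le_mul hge (show 3 ≤ k by omega)
      omega
    rcases (by omega : k = 0 ∨ k = 1 ∨ k = 2) with rfl | rfl | rfl
    · omega
    · exact ⟨2, by omega⟩
    · exact ⟨1, by omega⟩
  have hj : O.relIndex X = 4 ∨ O.relIndex X = 8 := by
    have h4' : 4 ∣ O.relIndex X := by
      rw [hmul] at h4
      refine (Nat.Coprime.dvd_mul_left ?_).1 h4
      rw [show (4 : ℕ) = 2 ^ 2 from rfl]
      exact (Nat.prime_two.coprime_iff_not_dvd.2 fun h =>
        Nat.not_even_iff_odd.2 ho' (even_iff_two_dvd.2 h)).pow_left 2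
    obtain ⟨k, hk⟩ := h4'
    have hk2 : k ∣ 2 := Nat.dvd_of_mul_dvd_mul_left (show 0 < 4 by norm_num) (hk ▸ hdvd)
    rcases (Nat.dvd_prime Nat.prime_two).1 hk2 with rfl | rfl <;> omega
  rcases hj with hj | hj
  · rw [hmul, hj, mul_comm]
  exfalso
  -- a Sylow subgroup of order eight centralising `r`
  have h8 : 2 ^ 3 ∣ Nat.card X := ⟨o', by rw [hmul, hj]; ring⟩
  obtain ⟨Q, hQ⟩ := Sylow.exists_subgroup_card_pow_prime 2 h8
  set rX : X := ⟨r, (hXmem r).2 ⟨(F.t_comm r hr), Commute.refl r⟩⟩ with hrX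
  have hrc : ∀ g : X, Commute g rX := fun g => Subtype.ext ((hXmem g).1 g.2).2.eq
  set Q' := Q ⊔ Subgroup.zpowers rX with hQ'
  haveI : (Subgroup.zpowers rX).Normal := ⟨fun n hn g => by
    obtain ⟨i, rfl⟩ := Subgroup.mem_zpowers_iff.1 hn
    rw [((hrc g).zpow_right i).eq, mul_inv_cancel_right]
    exact zpow_mem (Subgroup.mem_zpowers rX) i⟩
  have hro' : orderOf rX = 2 := by rw [hrX, Subgroup.orderOf_mk, hro]
  have hQ'p : IsPGroup 2 Q' := (IsPGroup.of_card (n := 3) hQ).to_sup_of_normal_right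
    (IsPGroup.of_card (n := 1) (by rw [Nat.card_zpowers, hro', pow_one]))
  set Q'' := Q'.map X.subtype with hQ''
  have hp2 : IsPGroup 2 Q'' := hQ'p.map _
  have hQt : ∀ g ∈ Q'', Commute g t := by
    rintro _ ⟨g, -, rfl⟩
    exact ((hXmem g).1 g.2).1
  obtain ⟨c, hct, hcQ⟩ := conj_into_sylow F.t_comm hp2 hQt
  set r' := c * r * c⁻¹ with hr'
  have hr'S : r' ∈ (S : Subgroup G) :=
    hcQ r ⟨rX, Subgroup.mem_sup_right (Subgroup.mem_zpowers rX), rfl⟩
  have hr'o : orderOf r' = 2 := by rw [hr', orderOf_conj_eq, hro]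
  have hct' : c * t * c⁻¹ = t := by rw [hct.eq, mul_inv_cancel_right]
  have hr't : r' ≠ t := fun e => hrt (mul_left_cancel (mul_right_cancel (e.trans hct'.symm)))
  have hQle : Q''.map (MulAut.conj c).toMonoidHom ≤ (S : Subgroup G) := by
    rintro _ ⟨g, hg, rfl⟩
    simpa using hcQ g hg
  have heq : Q''.map (MulAut.conj c).toMonoidHom = (S : Subgroup G) := by
    refine Subgroup.eq_of_le_of_card_ge hQle ?_
    rw [Subgroup.card_map_of_injective (MulAut.conj c).injective, hQ'',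
      Subgroup.card_map_of_injective X.subtype_injective, S.card_eq_multiplicity, hK, ← hQ]
    exact Subgroup.card_le_of_le le_sup_left
  obtain ⟨g, hg, hgσ⟩ : σ ∈ Q''.map (MulAut.conj c).toMonoidHom := heq ▸ hd.x_mem
  obtain ⟨g', -, rfl⟩ := hg
  have hcomm : Commute σ r' := by
    have h := ((hXmem g').1 g'.2).2.map (MulAut.conj c)
    rw [← hgσ, hr']
    simpa using h
  have h := (F.refl_forms hd hz hr'S hr'o hr't).2
  rw [hcomm.eq, mul_inv_cancel_right] at h
  exact ne_one_of_ord F.t_ord (mul_eq_right.1 h.symm)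

/-- An involution fixing `α` and `β` fixes `γ`. -/
theorem involution_fix_third (T : Three G Ω) (hint : ∀ c : G, Commute c t → c • α = α) {τ u : G}
    (hτo : orderOf τ = 2) (hτ3 : τ • α = α ∧ τ • β = β ∧ τ • γ = γ) (hspτ : IsSp τ β)
    (hu : orderOf u = 2) (huα : u • α = α) (huβ : u • β = β) : u • γ = γ := by
  haveI : Fact (Nat.Prime 2) := ⟨Nat.prime_two⟩
  by_contra hne
  have key : ∀ (v : G) (x₀ : Ω), orderOf v = 2 → v • α = α → v • β = β → v • γ = γ → IsSp v x₀ →
      (x₀ = α ∨ x₀ = β) → IsSp u x₀ := by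
    intro v x₀ hv h1 h2 h3 hsp hx₀
    set z := v * u with hz
    have hzα : z • α = α := by rw [hz, mul_smul, huα, h1]
    have hzβ : z • β = β := by rw [hz, mul_smul, huβ, h2]
    have hvz : v * z * v⁻¹ = z⁻¹ := by
      rw [hz, mul_inv_rev, inv_of_ord hu, ← mul_assoc, sq_one_of_ord hv, one_mul, inv_of_ord hv]
    have huz : u * z * u⁻¹ = z⁻¹ := by
      rw [hz, mul_inv_rev, inv_of_ord hu, inv_of_ord hv]
      simp only [mul_assoc, sq_one_of_ord hu, mul_one]
    by_cases he : 2 ∣ orderOf z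
    · exfalso
      set e := z ^ (orderOf z / 2) with he'
      have hz0 : orderOf z / 2 ≠ 0 := by
        have := orderOf_pos z; omega
      have heo : orderOf e = 2 := by
        rw [he', orderOf_pow' _ hz0, Nat.gcd_eq_right (Nat.div_dvd_of_dvd he),
          Nat.div_div_self he (orderOf_pos z).ne']
      have hcomm : ∀ a : G, a * z * a⁻¹ = z⁻¹ → Commute e a := by
        intro a ha
        have h : a * e * a⁻¹ = e⁻¹ := by rw [he', ← conj_pow, ha, inv_pow]
        rw [inv_of_ord heo] at h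
        exact (mul_inv_eq_iff_eq_mul.1 h).symm
      have heα : e • α = α := smul_pow_eq hzα _
      have heβ : e • β = β := smul_pow_eq hzβ _
      have heγ : e • γ = γ := by
        have h : v • e • γ = e • γ := by rw [← mul_smul, ← (hcomm v hvz).eq, mul_smul, h3]
        rcases eq_of_three (s := fixedBy Ω v) (T.fix3 v hv) h1 h2 h3 F.αβ F.αγ F.βγ h with e1 | e1 | e1
        · exact absurd (MulAction.injective e (e1.trans heα.symm)) F.αγ.symm
        · exact absurd (MulAction.injective e (e1.trans heβ.symm)) F.βγ.symm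
        · exact e1
      refine hne ?_
      have h : e • u • γ = u • γ := by rw [← mul_smul, (hcomm u huz).eq, mul_smul, heγ]
      rcases eq_of_three (s := fixedBy Ω e) (T.fix3 e heo) heα heβ heγ F.αβ F.αγ F.βγ h with
        e1 | e1 | e1
      · exact absurd (MulAction.injective u (e1.trans huα.symm)) F.αγ.symm
      · exact absurd (MulAction.injective u (e1.trans huβ.symm)) F.βγ.symm
      · exact e1
    · obtain ⟨k, hk⟩ : Odd (orderOf z) := Nat.odd_iff.2 (Nat.two_dvd_ne_zero.1 he)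
      have hconj : z ^ k * v * (z ^ k)⁻¹ = u := by
        have h1' : v * z ^ k * v⁻¹ = (z ^ k)⁻¹ := by rw [← conj_pow, hvz, inv_pow]
        have h2' : v * (z ^ k)⁻¹ = z ^ k * v := by
          rw [← h1', inv_of_ord hv, mul_assoc, ← mul_assoc, sq_one_of_ord hv, one_mul]
        calc z ^ k * v * (z ^ k)⁻¹ = z ^ k * (v * (z ^ k)⁻¹) := by rw [mul_assoc]
          _ = z ^ (k + k) * v := by rw [h2', ← mul_assoc, ← pow_add]
          _ = z⁻¹ * v := by
            congr 1
            refine eq_inv_of_mul_eq_one_left ?_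
            rw [← pow_succ, show k + k + 1 = orderOf z by omega, pow_orderOf_eq_one]
          _ = u := by
            rw [hz, mul_inv_rev, inv_of_ord hu, inv_of_ord hv, mul_assoc, sq_one_of_ord hv, mul_one]
      have h' := hsp.conj (z ^ k)
      rw [hconj] at h'
      rcases hx₀ with rfl | rfl
      · rwa [smul_pow_eq hzα] at h'
      · rwa [smul_pow_eq hzβ] at h'
  have h1 := key t α F.t_ord F.fixed_t.1 F.fixed_t.2.1 F.fixed_t.2.2 (F.sp_t hint) (Or.inl rfl)
  have h2 := key τ β hτo hτ3.1 hτ3.2.1 hτ3.2.2 hspτ (Or.inr rfl)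
  exact F.αβ (F.sp_unique T hu h1 h2)

/-- The local data of the four-groups in `C(t)`. -/
theorem local_data (T : Three G Ω) {σ : G} (hd : IsDihGen (S : Subgroup G) 2 σ w)
    (hz : σ ^ ((2 : ℤ) ^ (2 - 1)) = t) (hK : (Nat.card G).factorization 2 = 3) {O : Subgroup G}
    (hO : ∀ y, y ∈ O ↔ Commute y t ∧ ¬ 2 ∣ orderOf y) (hodd : Odd (Nat.card O))
    (hcard : Nat.card (Subgroup.centralizer ({t} : Set G)) = 8 * Nat.card O)
    (hfix : ∀ y ∈ O, ∀ x : Ω, t • x = x → y • x = x) :
    ∃ o1 o2 e : ℕ, Odd o1 ∧ Odd o2 ∧ o1 = e * o2 ∧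
      Nat.card (Subgroup.centralizer ({t, σ * w} : Set G)) = 4 * o1 ∧
      Nat.card (Subgroup.centralizer ({t, w} : Set G)) = 4 * o2 ∧
      Nat.card (stabilizer (stabilizer G α) β) * o1 ^ 2 = 4 * Nat.card O ^ 3 := by
  classical
  haveI : Fact (Nat.Prime 2) := ⟨Nat.prime_two⟩
  have hint := F.intransitive hK hO hodd hcard hfix
  obtain ⟨τ₀, x₀, hτ₀, hτ₀o, hτ₀t, hτ₀β, hτ₀γ, hsp₀, hx₀⟩ := F.exists_tau T hint
  set P := (S : Subgroup G) with hP
  have hwσ : σ * w ∈ P := mul_mem hd.x_mem F.w_mem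
  have hτform : τ₀ = σ * w ∨ τ₀ = t * (σ * w) := by
    rcases (F.refl_forms hd hz hτ₀ hτ₀o hτ₀t).1 with e | e | e | e
    · exact absurd ((e ▸ hτ₀β : w • β = β).symm.trans F.w_swap) F.βγ
    · exact absurd ((e ▸ hτ₀β : (t * w) • β = β).symm.trans F.tw_swap) F.βγ
    · exact Or.inl e
    · exact Or.inr e
  have htσw : Commute t (σ * w) := (F.t_comm _ hwσ).symm
  have hflip : w * τ₀ * w⁻¹ = t * τ₀ := by
    have hcw : σ * τ₀ * σ⁻¹ = t * τ₀ := (F.refl_forms hd hz hτ₀ hτ₀o hτ₀t).2
    -- `w` agrees with `σ` up to the commuting element `σ * w`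
    have hc : Commute (σ * w) τ₀ := by
      rcases hτform with rfl | rfl
      · exact Commute.refl _
      · exact htσw.symm.mul_right (Commute.refl _)
    have e : σ * τ₀ * σ⁻¹ = (σ * w) * (w * τ₀ * w⁻¹) * (σ * w)⁻¹ := by
      calc σ * τ₀ * σ⁻¹ = σ * (w * w) * τ₀ * (w * w)⁻¹ * σ⁻¹ := by
            rw [sq_one_of_ord F.w_ord]; group
        _ = _ := by group
    rw [hcw] at e
    have hc2 : Commute (σ * w) (t * τ₀) := htσw.symm.mul_right hc
    calc w * τ₀ * w⁻¹ = (σ * w)⁻¹ * ((σ * w) * (w * τ₀ * w⁻¹) * (σ * w)⁻¹) * (σ * w) := by group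
      _ = (σ * w)⁻¹ * (t * τ₀) * (σ * w) := by rw [← e]
      _ = t * τ₀ := by rw [mul_assoc, ← hc2.eq, inv_mul_cancel_left]
  -- the involution with special point `β`
  obtain ⟨τ, hτ, hτo, hτ3, hspτ, hτcase⟩ : ∃ τ, τ ∈ P ∧ orderOf τ = 2 ∧
      (τ • α = α ∧ τ • β = β ∧ τ • γ = γ) ∧ IsSp τ β ∧ (τ = σ * w ∨ τ = t * (σ * w)) := by
    have hwγ : w • γ = β :=
      (F.perm w F.w_mem).elim (fun h => absurd (h.1.symm.trans F.w_swap) F.βγ) fun h => h.2
    rcases hx₀ with rfl | rfl
    · exact ⟨τ₀, hτ₀, hτ₀o, ⟨F.fixS _ hτ₀, hτ₀β, hτ₀γ⟩, hsp₀, hτform⟩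
    · refine ⟨t * τ₀, mul_mem F.t_mem hτ₀, ?_, ⟨?_, ?_, ?_⟩, ?_, ?_⟩
      · rw [← hflip, orderOf_conj_eq, hτ₀o]
      · rw [mul_smul, F.fixS _ hτ₀, F.fixed_t.1]
      · rw [mul_smul, hτ₀β, F.fixed_t.2.1]
      · rw [mul_smul, hτ₀γ, F.fixed_t.2.2]
      · have := hsp₀.conj w
        rwa [hflip, hwγ] at this
      · rcases hτform with e | e
        · exact Or.inr (by rw [e])
        · exact Or.inl (by rw [e, ← mul_assoc, sq_one_of_ord F.t_ord, one_mul])
  have hτt : τ ≠ t := fun e => F.αβ (F.sp_unique_t (e ▸ hspτ)).symm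
  -- the third special point
  have hflip2 : w * τ * w⁻¹ = t * τ := by
    have hτeq : τ = τ₀ ∨ τ = t * τ₀ := by
      rcases hτcase with e | e <;> rcases hτform with e' | e'
      · exact Or.inl (e.trans e'.symm)
      · exact Or.inr (by rw [e, e', ← mul_assoc, sq_one_of_ord F.t_ord, one_mul])
      · exact Or.inr (by rw [e, e'])
      · exact Or.inl (e.trans e'.symm)
    rcases hτeq with rfl | rfl
    · exact hflip
    · have hwt : w * t * w⁻¹ = t := by rw [(F.t_comm w F.w_mem).eq, mul_inv_cancel_right]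
      calc w * (t * τ₀) * w⁻¹ = (w * t * w⁻¹) * (w * τ₀ * w⁻¹) := by group
        _ = t * (t * τ₀) := by rw [hwt, hflip]
  have hspγ : IsSp (t * τ) γ := by
    have h := hspτ.conj w
    rwa [hflip2, F.w_swap] at h
  have htτo : orderOf (t * τ) = 2 := by rw [← hflip2, orderOf_conj_eq, hτo]
  -- pair stabilisers
  have hpair : ∀ g : G, g • α = α → g • β = β → g • γ = γ := by
    intro g hgα hgβ
    have ho : orderOf (g * t * g⁻¹) = 2 := by rw [orderOf_conj_eq, F.t_ord]
    have h1 : (g * t * g⁻¹) • α = α := by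
      rw [mul_smul, mul_smul, inv_smul_eq_iff.2 hgα.symm, F.fixed_t.1, hgα]
    have h2 : (g * t * g⁻¹) • β = β := by
      rw [mul_smul, mul_smul, inv_smul_eq_iff.2 hgβ.symm, F.fixed_t.2.1, hgβ]
    have h3 := F.involution_fix_third T hint hτo hτ3 hspτ ho h1 h2
    have h4 : (g * t * g⁻¹) • (g • γ) = g • γ := by
      rw [mul_smul, inv_smul_smul, mul_smul, F.fixed_t.2.2]
    rcases eq_of_three (s := fixedBy Ω (g * t * g⁻¹)) (T.fix3 _ ho) h1 h2 h3 F.αβ F.αγ F.βγ h4 with
      e | e | e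
    · exact absurd (MulAction.injective g (e.trans hgα.symm)) F.αγ.symm
    · exact absurd (MulAction.injective g (e.trans hgβ.symm)) F.βγ.symm
    · exact e
  have hpairγ : ∀ g : G, g • α = α → g • γ = γ → g • β = β := by
    intro g hgα hgγ
    have hwα := F.fixS w F.w_mem
    have h := hpair (w⁻¹ * g * w) (by rw [mul_smul, mul_smul, hwα, hgα, inv_smul_eq_iff, hwα])
      (by rw [mul_smul, mul_smul, F.w_swap, hgγ, inv_smul_eq_iff, F.w_swap])
    rw [mul_smul, mul_smul, inv_smul_eq_iff] at h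
    have hwγ : w • γ = β :=
      (F.perm w F.w_mem).elim (fun h => absurd (h.1.symm.trans F.w_swap) F.βγ) fun h => h.2
    rwa [hwγ] at h
  set L := triStab G α β γ with hLdef
  have htL : t ∈ L := mem_triStab.2 F.fixed_t
  have hτL : τ ∈ L := mem_triStab.2 hτ3
  -- the Sylow 2-subgroup of `L`
  set V : Subgroup G := P ⊓ L with hV
  have hcardP : Nat.card P = 8 := by rw [hP, S.card_eq_multiplicity, hK]; norm_num
  have hwL : w ∉ L := fun h => F.βγ ((mem_triStab.1 h).2.1.symm.trans F.w_swap)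
  have hVidx : (V.subgroupOf P).index = 2 := by
    have e : V.subgroupOf P = stabilizer P β := by
      ext g
      rw [Subgroup.mem_subgroupOf, hV, Subgroup.mem_inf, mem_triStab, mem_stabilizer_iff]
      exact ⟨fun h => h.2.2.1, fun h => ⟨g.2, F.fixS g g.2, h, hpair g (F.fixS g g.2) h⟩⟩
    rw [e, MulAction.index_stabilizer]
    have h : orbit P β = {β, γ} := by
      ext x
      constructor
      · rintro ⟨⟨g, hg⟩, rfl⟩
        rcases F.perm g hg with h | h
        · exact Or.inl h.1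
        · exact Or.inr h.1
      · rintro (rfl | rfl)
        · exact mem_orbit_self _
        · exact ⟨⟨w, F.w_mem⟩, F.w_swap⟩
    rw [h, Set.ncard_pair F.βγ]
  have hVcard : Nat.card V = 4 := by
    have h := (V.subgroupOf P).card_mul_index
    rw [Nat.card_congr (Subgroup.subgroupOfEquivOfLe (inf_le_left : V ≤ P)).toEquiv, hVidx,
      hcardP] at h
    change Nat.card V * 2 = 8 at h
    omega
  have hVmem : ∀ v ∈ V, v = 1 ∨ v = t ∨ v = τ ∨ v = t * τ := by
    intro v hv
    have hsub : ({1, t, τ, t * τ} : Finset G) ⊆ Finset.univ.filter (fun g => g ∈ V) := by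
      intro x hx
      simp only [Finset.mem_insert, Finset.mem_singleton] at hx
      refine Finset.mem_filter.2 ⟨Finset.mem_univ _, ?_⟩
      rcases hx with rfl | rfl | rfl | rfl
      exacts [one_mem _, Subgroup.mem_inf.2 ⟨F.t_mem, htL⟩, Subgroup.mem_inf.2 ⟨hτ, hτL⟩,
        mul_mem (Subgroup.mem_inf.2 ⟨F.t_mem, htL⟩) (Subgroup.mem_inf.2 ⟨hτ, hτL⟩)]
    have heq := Finset.eq_of_subset_of_card_le hsub (by
      rw [← Fintype.card_subtype, ← Nat.card_eq_fintype_card, hVcard,
        Finset.card_insert_of_notMem, Finset.card_insert_of_notMem, Finset.card_pair]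
      · exact fun e => ne_one_of_ord F.t_ord (mul_eq_right.1 e.symm)
      · simp only [Finset.mem_insert, Finset.mem_singleton, not_or]
        exact ⟨hτt.symm, fun e => ne_one_of_ord hτo (mul_eq_left.1 e.symm)⟩
      · simp only [Finset.mem_insert, Finset.mem_singleton, not_or]
        exact ⟨(ne_one_of_ord F.t_ord).symm, (ne_one_of_ord hτo).symm,
          (ne_one_of_ord htτo).symm⟩)
    have : v ∈ ({1, t, τ, t * τ} : Finset G) := heq ▸ Finset.mem_filter.2 ⟨Finset.mem_univ _, hv⟩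
    simpa using this
  have hVL : V ≤ L := inf_le_right
  obtain ⟨Q, hQ⟩ := ((S.2.to_le (inf_le_left : V ≤ P) : IsPGroup 2 V).comap_subtype
    (K := L)).exists_le_sylow
  have hQeq : (Q : Subgroup L) = V.subgroupOf L := by
    refine (Subgroup.eq_of_le_of_card_ge hQ ?_).symm
    show Nat.card (Q : Subgroup L) ≤ Nat.card (V.subgroupOf L)
    rw [Nat.card_congr (Subgroup.subgroupOfEquivOfLe hVL).toEquiv, hVcard]
    by_contra hlt
    push Not at hlt
    obtain ⟨g₀, hg₀⟩ := (Q.isPGroup'.map L.subtype).exists_le_sylow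
    obtain ⟨g, hg⟩ := MulAction.exists_smul_eq G g₀ S
    have hcard8 : Nat.card (Q : Subgroup L) ∣ 8 := by
      have h := Subgroup.card_dvd_of_le hg₀
      rw [Subgroup.card_map_of_injective L.subtype_injective, g₀.card_eq_multiplicity, hK] at h
      exact h
    have h8 : Nat.card (Q : Subgroup L) = 8 := by
      obtain ⟨k, hk⟩ := hcard8
      have : k < 2 := by
        by_contra h
        have := Nat.mul_le_mul hlt.le (show 2 ≤ k by omega)
        nlinarith
      rcases (by omega : k = 0 ∨ k = 1) with rfl | rfl <;> omega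
    have hg₀L : (g₀ : Subgroup G) ≤ L := by
      rw [← Subgroup.eq_of_le_of_card_ge hg₀ (by
        rw [Subgroup.card_map_of_injective L.subtype_injective, h8, g₀.card_eq_multiplicity, hK]
        norm_num)]
      exact Subgroup.map_subtype_le _
    have hfix' : ∀ x : Ω, (∀ y ∈ L, y • x = x) → ∀ s ∈ P, s • g • x = g • x := by
      intro x hx s hs
      have h : g⁻¹ * s * g ∈ (g₀ : Subgroup G) := by
        rw [hP, ← hg, Sylow.coe_subgroup_smul, Subgroup.mem_pointwise_smul_iff_inv_smul_mem] at hs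
        simpa [MulAut.smul_def] using hs
      have h2 := hx _ (hg₀L h)
      rwa [mul_smul, mul_smul, inv_smul_eq_iff] at h2
    have honly : ∀ x : Ω, (∀ s ∈ P, s • x = x) → x = α := by
      intro x hx
      rcases (F.fixt x).1 (hx t F.t_mem) with e | e | e
      · exact e
      · subst e; exact absurd ((hx w F.w_mem).symm.trans F.w_swap) F.βγ
      · subst e
        have h1 : w • β = x := F.w_swap
        exact absurd (MulAction.injective w (h1.trans (hx w F.w_mem).symm)) F.βγ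
    have hA := honly _ (hfix' α fun y hy => (mem_triStab.1 hy).1)
    have hB := honly _ (hfix' β fun y hy => (mem_triStab.1 hy).2.1)
    exact F.αβ (MulAction.injective g (hA.trans hB.symm))
  have hburn : Subgroup.normalizer ((Q : Subgroup L) : Set L) ≤
      Subgroup.centralizer ((Q : Subgroup L) : Set L) := by
    intro l hl
    rw [Subgroup.mem_centralizer_iff]
    intro v hv
    have hvV : (v : G) ∈ V := by
      have hv' : v ∈ (Q : Subgroup L) := hv
      rwa [hQeq, Subgroup.mem_subgroupOf] at hv'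
    have hfixl := mem_triStab.1 l.2
    have hlv : ∀ u : G, u ∈ V → orderOf u = 2 → ∀ x : Ω, IsSp u x → (x = α ∨ x = β ∨ x = γ) →
        (l : G) * u * (l : G)⁻¹ = u := by
      intro u hu huo x hsp hx
      have hmem : (l : G) * u * (l : G)⁻¹ ∈ V := by
        have h := (Subgroup.mem_normalizer_iff.1 hl ⟨u, hVL hu⟩).1 (by
          rw [hQeq, Subgroup.mem_subgroupOf]; exact hu)
        rw [hQeq, Subgroup.mem_subgroupOf] at h
        exact h
      have hsp2 := hsp.conj (l : G)
      rw [show (l : G) • x = x by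
        rcases hx with rfl | rfl | rfl
        exacts [hfixl.1, hfixl.2.1, hfixl.2.2]] at hsp2
      have ho : orderOf ((l : G) * u * (l : G)⁻¹) = 2 := by rw [orderOf_conj_eq, huo]
      have key : ∀ r ∈ V, orderOf r = 2 → IsSp r x →
          r = t ∧ x = α ∨ r = τ ∧ x = β ∨ r = t * τ ∧ x = γ := by
        intro r hr hro hspr
        rcases hVmem r hr with e | e | e | e <;> subst e
        · exact absurd rfl (ne_one_of_ord hro)
        · exact Or.inl ⟨rfl, F.sp_unique T F.t_ord hspr (F.sp_t hint)⟩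
        · exact Or.inr (Or.inl ⟨rfl, F.sp_unique T hτo hspr hspτ⟩)
        · exact Or.inr (Or.inr ⟨rfl, F.sp_unique T htτo hspr hspγ⟩)
      rcases key _ hmem ho hsp2 with ⟨e1, x1⟩ | ⟨e1, x1⟩ | ⟨e1, x1⟩ <;>
        rcases key u hu huo hsp with ⟨e2, x2⟩ | ⟨e2, x2⟩ | ⟨e2, x2⟩
      · rw [e1, e2]
      · exact absurd (x1.symm.trans x2) F.αβ
      · exact absurd (x1.symm.trans x2) F.αγ
      · exact absurd (x2.symm.trans x1) F.αβ
      · rw [e1, e2]
      · exact absurd (x1.symm.trans x2) F.βγ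
      · exact absurd (x2.symm.trans x1) F.αγ
      · exact absurd (x2.symm.trans x1) F.βγ
      · rw [e1, e2]
    have hcv : (l : G) * (v : G) * (l : G)⁻¹ = v := by
      rcases hVmem _ hvV with e | e | e | e
      · rw [e]; group
      · rw [e]
        exact hlv t (Subgroup.mem_inf.2 ⟨F.t_mem, htL⟩) F.t_ord α (F.sp_t hint) (Or.inl rfl)
      · rw [e]; exact hlv τ (Subgroup.mem_inf.2 ⟨hτ, hτL⟩) hτo β hspτ (Or.inr (Or.inl rfl))
      · rw [e]
        exact hlv _ (mul_mem (Subgroup.mem_inf.2 ⟨F.t_mem, htL⟩) (Subgroup.mem_inf.2 ⟨hτ, hτL⟩))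
          htτo γ hspγ (Or.inr (Or.inr rfl))
    exact Subtype.ext (mul_inv_eq_iff_eq_mul.1 hcv).symm
  have hn : HasNormalPComplement 2 L := Transfer.hasNormalPComplement_of_normalizer_le_centralizer Q hburn
  have hL2 : (Nat.card L).factorization 2 = 2 := by
    have h := Q.card_eq_multiplicity
    rw [hQeq, Nat.card_congr (Subgroup.subgroupOfEquivOfLe hVL).toEquiv, hVcard] at h
    exact (Nat.pow_right_injective le_rfl (h.symm.trans (show (4 : ℕ) = 2 ^ 2 from rfl)))
  have hnd : ¬ 2 ∣ Nat.card (pPrimeCore 2 L) := Constrained.pPrimeCore_not_dvd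
  set R : Subgroup G := (pPrimeCore 2 L).map L.subtype with hR
  have hRmem : ∀ y, y ∈ R ↔ (y • α = α ∧ y • β = β ∧ y • γ = γ) ∧ ¬ 2 ∣ orderOf y := by
    intro y
    constructor
    · rintro ⟨x, hx, rfl⟩
      refine ⟨mem_triStab.1 x.2, fun h => hnd ?_⟩
      rw [Subgroup.coe_subtype, Subgroup.orderOf_coe] at h
      exact h.trans (Subgroup.orderOf_dvd_natCard _ hx)
    · rintro ⟨h1, h2⟩
      exact ⟨⟨y, mem_triStab.2 h1⟩, DihedralBlock.mem_pPrimeCore hn (by
        rwa [← Subgroup.orderOf_coe]), rfl⟩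
  have hRodd : Odd (Nat.card R) := by
    rw [hR, Subgroup.card_map_of_injective L.subtype_injective]
    exact Nat.odd_iff.2 (Nat.two_dvd_ne_zero.1 hnd)
  have hLcard : Nat.card L = 4 * Nat.card R := by
    rw [hR, Subgroup.card_map_of_injective L.subtype_injective, mul_comm,
      ← (pPrimeCore 2 L).card_mul_index, DihedralBlock.index_pPrimeCore hn, hL2]
    rfl
  have hoddfix : ∀ {u y : G}, orderOf u = 2 → Commute y u → ¬ 2 ∣ orderOf y → ∀ {x : Ω}, u • x = x →
      y • x = x := fun hu hy hy2 _ hx => F.odd_fix T hO hfix hu hy hy2 hx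
  have hRinv : ∀ u ∈ V, ∀ x ∈ R, u * x * u⁻¹ ∈ R := by
    intro u hu x hx
    obtain ⟨h1, h2⟩ := (hRmem x).1 hx
    obtain ⟨hu1, hu2, hu3⟩ := mem_triStab.1 (hVL hu)
    refine (hRmem _).2 ⟨⟨?_, ?_, ?_⟩, by rwa [orderOf_conj_eq]⟩
    · rw [mul_smul, mul_smul, inv_smul_eq_iff.2 hu1.symm, h1.1, hu1]
    · rw [mul_smul, mul_smul, inv_smul_eq_iff.2 hu2.symm, h1.2.1, hu2]
    · rw [mul_smul, mul_smul, inv_smul_eq_iff.2 hu3.symm, h1.2.2, hu3]
  have hRt : R ⊓ Subgroup.centralizer ({t} : Set G) = O := by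
    ext y
    simp only [Subgroup.mem_inf, Subgroup.mem_centralizer_singleton_iff, hO, hRmem]
    exact ⟨fun h => ⟨h.2, h.1.2⟩, fun h => ⟨⟨⟨hoddfix F.t_ord h.1 h.2 F.fixed_t.1,
      hoddfix F.t_ord h.1 h.2 F.fixed_t.2.1, hoddfix F.t_ord h.1 h.2 F.fixed_t.2.2⟩, h.2⟩, h.1⟩⟩
  have hRu : ∀ u : G, orderOf u = 2 → u • α = α → u • β = β → u • γ = γ →
      Nat.card ↥(R ⊓ Subgroup.centralizer ({u} : Set G)) = Nat.card O := by
    intro u huo hu1 hu2 hu3
    obtain ⟨g, hg⟩ := isConj_iff.1 (T.conj t u F.t_ord huo)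
    rw [← card_comap_conj g (R ⊓ Subgroup.centralizer ({u} : Set G))]
    suffices e : (R ⊓ Subgroup.centralizer ({u} : Set G)).comap (MulAut.conj g).toMonoidHom = O by
      rw [e]
    ext y
    simp only [Subgroup.mem_comap, MulEquiv.coe_toMonoidHom, MulAut.conj_apply, Subgroup.mem_inf,
      Subgroup.mem_centralizer_singleton_iff, hRmem, hO, orderOf_conj_eq]
    have hiff : g * y * g⁻¹ * u = u * (g * y * g⁻¹) ↔ Commute y t := by
      rw [← hg]
      exact Commute.conj_iff g
    rw [hiff]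
    refine ⟨fun h => ⟨h.2, h.1.2⟩, fun h => ⟨⟨?_, h.2⟩, h.1⟩⟩
    have hc : Commute (g * y * g⁻¹) u := hg ▸ (Commute.conj_iff g).2 h.1
    have h2' : ¬ 2 ∣ orderOf (g * y * g⁻¹) := by rw [orderOf_conj_eq]; exact h.2
    exact ⟨hoddfix huo hc h2' hu1, hoddfix huo hc h2' hu2, hoddfix huo hc h2' hu3⟩
  have htτ : Commute t τ := (F.t_comm τ hτ).symm
  set o1 := Nat.card ↥(O ⊓ Subgroup.centralizer ({τ} : Set G)) with ho1def
  have hform1 : Nat.card R * o1 ^ 2 = Nat.card O ^ 3 := by
    have h := four_group_formula hRodd F.t_ord hτo htτ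
      (hRinv t (Subgroup.mem_inf.2 ⟨F.t_mem, htL⟩)) (hRinv τ (Subgroup.mem_inf.2 ⟨hτ, hτL⟩))
    rw [hRu τ hτo hτ3.1 hτ3.2.1 hτ3.2.2, hRt, ← htτ.eq,
      hRu (t * τ) htτo (by rw [mul_smul, hτ3.1, F.fixed_t.1])
        (by rw [mul_smul, hτ3.2.1, F.fixed_t.2.1]) (by rw [mul_smul, hτ3.2.2, F.fixed_t.2.2])] at h
    rw [h]; ring
  -- the four-group containing `w`
  have hspw : IsSp w α := by
    obtain ⟨x, hx⟩ := F.sp_exists T hint F.w_ord
    suffices x = α by rwa [this] at hx
    rcases (F.fixw x).1 hx.1 with e | e | e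
    · exact e
    · exfalso
      have h := hx.2 t F.t_mul_w_comm
      rcases (F.fixt x).1 h with e' | e' | e'
      exacts [F.δ_out.1 (e.symm.trans e'), F.δ_out.2.1 (e.symm.trans e'), F.δ_out.2.2 (e.symm.trans e')]
    · exfalso
      have h := hx.2 t F.t_mul_w_comm
      rw [e] at h
      have h' : t • δ = δ := MulAction.injective t h
      rcases (F.fixt δ).1 h' with e' | e' | e'
      exacts [F.δ_out.1 e', F.δ_out.2.1 e', F.δ_out.2.2 e']
  obtain ⟨g, hg⟩ := isConj_iff.1 (T.conj t w F.t_ord F.w_ord)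
  have hgα : g • α = α := by
    have h := (F.sp_t hint).conj g
    rw [hg] at h
    exact F.sp_unique T F.w_ord h hspw
  have hgt : ∀ x : Ω, t • x = x → w • g • x = g • x := fun x hx => by
    rw [← hg, mul_smul, inv_smul_smul, mul_smul, hx]
  have hginv : ∀ x : Ω, w • x = x → t • g⁻¹ • x = g⁻¹ • x := fun x hx => by
    rw [← hg, mul_smul, mul_smul] at hx
    rw [eq_inv_smul_iff]; exact hx
  have hgα' : g⁻¹ • α = α := inv_smul_eq_iff.2 hgα.symm
  have hpairw : ∀ y : G, y • α = α → y • δ = δ → y • (t • δ) = t • δ := by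
    intro y hyα hyδ
    set y' := g⁻¹ * y * g with hy'
    have h1 : y' • α = α := by rw [hy', mul_smul, mul_smul, hgα, hyα, hgα']
    have h2 : y' • (g⁻¹ • δ) = g⁻¹ • δ := by rw [hy', mul_smul, mul_smul, smul_inv_smul, hyδ]
    have hall : y' • β = β ∧ y' • γ = γ := by
      rcases (F.fixt _).1 (hginv δ ((F.fixw δ).2 (Or.inr (Or.inl rfl)))) with e | e | e
      · exact absurd (MulAction.injective g⁻¹ (e.trans hgα'.symm)) F.δ_out.1
      · rw [e] at h2; exact ⟨h2, hpair y' h1 h2⟩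
      · rw [e] at h2; exact ⟨hpairγ y' h1 h2, h2⟩
    have h3 : y' • (g⁻¹ • t • δ) = g⁻¹ • t • δ := by
      rcases (F.fixt _).1 (hginv _ ((F.fixw (t • δ)).2 (Or.inr (Or.inr rfl)))) with e | e | e <;>
        rw [e]
      exacts [h1, hall.1, hall.2]
    rw [hy', mul_smul, mul_smul, smul_inv_smul] at h3
    exact MulAction.injective g⁻¹ h3
  set Rw := R.comap (MulAut.conj g⁻¹).toMonoidHom with hRw
  have hRwcard : Nat.card Rw = Nat.card R := card_comap_conj _ _
  have hRwmem : ∀ y, y ∈ Rw ↔ (y • α = α ∧ y • δ = δ) ∧ ¬ 2 ∣ orderOf y := by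
    intro y
    rw [hRw, Subgroup.mem_comap, hRmem]
    simp only [MulEquiv.coe_toMonoidHom, MulAut.conj_apply, inv_inv]
    rw [show orderOf (g⁻¹ * y * g) = orderOf y by
      have := orderOf_conj_eq g⁻¹ y; rwa [inv_inv] at this]
    refine and_congr_left fun _ => ⟨fun h => ?_, fun h => ?_⟩
    · obtain ⟨hA, hB, hC⟩ := h
      have key : ∀ x : Ω, (g⁻¹ * y * g) • x = x → y • g • x = g • x := fun x hx => by
        rwa [mul_smul, mul_smul, inv_smul_eq_iff] at hx
      refine ⟨by have := key α hA; rwa [hgα] at this, ?_⟩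
      have hd' : g • (g⁻¹ • δ) = δ := smul_inv_smul g δ
      rcases (F.fixt _).1 (hginv δ ((F.fixw δ).2 (Or.inr (Or.inl rfl)))) with e | e | e <;>
        rw [e] at hd'
      · have := key α hA; rwa [hd'] at this
      · have := key β hB; rwa [hd'] at this
      · have := key γ hC; rwa [hd'] at this
    · have key : ∀ x : Ω, t • x = x → (g⁻¹ * y * g) • x = x := fun x hx => by
        rw [mul_smul, mul_smul, inv_smul_eq_iff]
        rcases (F.fixw _).1 (hgt x hx) with e | e | e <;> rw [e]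
        exacts [h.1, h.2, hpairw y h.1 h.2]
      exact ⟨key α F.fixed_t.1, key β F.fixed_t.2.1, key γ F.fixed_t.2.2⟩
  have hRwodd : Odd (Nat.card Rw) := hRwcard ▸ hRodd
  have htα := F.fixed_t.1
  have hwδ : w • δ = δ := (F.fixw δ).2 (Or.inr (Or.inl rfl))
  have htδ2 : t • t • δ = δ := by rw [← mul_smul, sq_one_of_ord F.t_ord, one_smul]
  have hRwt : ∀ x ∈ Rw, t * x * t⁻¹ ∈ Rw := by
    intro x hx
    obtain ⟨h1, h2⟩ := (hRwmem x).1 hx
    refine (hRwmem _).2 ⟨⟨?_, ?_⟩, by rwa [orderOf_conj_eq]⟩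
    · rw [mul_smul, mul_smul, inv_smul_eq_iff.2 htα.symm, h1.1, htα]
    · rw [mul_smul, mul_smul, inv_of_ord F.t_ord, hpairw x h1.1 h1.2, htδ2]
  have hRww : ∀ x ∈ Rw, w * x * w⁻¹ ∈ Rw := by
    intro x hx
    obtain ⟨h1, h2⟩ := (hRwmem x).1 hx
    refine (hRwmem _).2 ⟨⟨?_, ?_⟩, by rwa [orderOf_conj_eq]⟩
    · rw [mul_smul, mul_smul, inv_smul_eq_iff.2 (F.fixS w F.w_mem).symm, h1.1, F.fixS w F.w_mem]
    · rw [mul_smul, mul_smul, inv_smul_eq_iff.2 hwδ.symm, h1.2, hwδ]
  have hCw : Nat.card ↥(Rw ⊓ Subgroup.centralizer ({w} : Set G)) = Nat.card O := by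
    rw [← card_comap_conj g (Rw ⊓ Subgroup.centralizer ({w} : Set G))]
    suffices e : (Rw ⊓ Subgroup.centralizer ({w} : Set G)).comap (MulAut.conj g).toMonoidHom = O by
      rw [e]
    ext y
    simp only [Subgroup.mem_comap, MulEquiv.coe_toMonoidHom, MulAut.conj_apply, Subgroup.mem_inf,
      Subgroup.mem_centralizer_singleton_iff, hRwmem, hO, orderOf_conj_eq]
    have hiff : g * y * g⁻¹ * w = w * (g * y * g⁻¹) ↔ Commute y t := by
      rw [← hg]
      exact Commute.conj_iff g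
    rw [hiff]
    refine ⟨fun h => ⟨h.2, h.1.2⟩, fun h => ⟨⟨?_, h.2⟩, h.1⟩⟩
    have hc : Commute (g * y * g⁻¹) w := hg ▸ (Commute.conj_iff g).2 h.1
    have h2' : ¬ 2 ∣ orderOf (g * y * g⁻¹) := by rw [orderOf_conj_eq]; exact h.2
    exact ⟨hoddfix F.w_ord hc h2' (F.fixS w F.w_mem), hoddfix F.w_ord hc h2' hwδ⟩
  have hRwtEq : Rw ⊓ Subgroup.centralizer ({t} : Set G) = O ⊓ stabilizer G δ := by
    ext y
    simp only [Subgroup.mem_inf, Subgroup.mem_centralizer_singleton_iff, mem_stabilizer_iff,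
      hRwmem, hO]
    exact ⟨fun h => ⟨⟨h.2, h.1.2⟩, h.1.1.2⟩,
      fun h => ⟨⟨⟨hoddfix F.t_ord h.1.1 h.1.2 htα, h.2⟩, h.1.2⟩, h.1.1⟩⟩
  set d := Nat.card ↥(O ⊓ stabilizer G δ) with hddef
  set o2 := Nat.card ↥(O ⊓ Subgroup.centralizer ({w} : Set G)) with ho2def
  have hboth : Nat.card ↥(Rw ⊓ Subgroup.centralizer ({w} : Set G) ⊓
      Subgroup.centralizer ({t} : Set G)) = o2 := by
    suffices e : Rw ⊓ Subgroup.centralizer ({w} : Set G) ⊓ Subgroup.centralizer ({t} : Set G) =
        O ⊓ Subgroup.centralizer ({w} : Set G) by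
      rw [e]
    ext y
    simp only [Subgroup.mem_inf, Subgroup.mem_centralizer_singleton_iff, hRwmem, hO]
    exact ⟨fun h => ⟨⟨h.2, h.1.1.2⟩, h.1.2⟩, fun h => ⟨⟨⟨⟨hoddfix F.t_ord h.1.1 h.1.2 htα,
      hoddfix F.w_ord h.2 h.1.2 hwδ⟩, h.1.2⟩, h.2⟩, h.1.1⟩⟩
  have htwd : Nat.card ↥(Rw ⊓ Subgroup.centralizer ({t * w} : Set G)) = d := by
    -- `h` centralises `w` and carries `t` to `t * w`
    obtain ⟨h, hhw, hht⟩ : ∃ h : G, Commute h w ∧ h * t * h⁻¹ = t * w := by
      have hSw : ∀ x ∈ ((g • S : Sylow 2 G) : Subgroup G), Commute x w := by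
        intro x hx
        rw [Sylow.coe_subgroup_smul, Subgroup.mem_pointwise_smul_iff_inv_smul_mem] at hx
        have hx' : g⁻¹ * x * g ∈ P := by simpa [MulAut.smul_def] using hx
        have h1 := (Commute.conj_iff g).2 (F.t_comm _ hx')
        rwa [hg, show g * (g⁻¹ * x * g) * g⁻¹ = x by group] at h1
      have hQt : IsPGroup 2 (Subgroup.zpowers t) :=
        IsPGroup.of_card (n := 1) (by rw [Nat.card_zpowers, F.t_ord, pow_one])
      obtain ⟨c, hcw, hc⟩ := conj_into_sylow hSw hQt fun x hx => by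
        obtain ⟨i, rfl⟩ := Subgroup.mem_zpowers_iff.1 hx
        exact F.t_mul_w_comm.zpow_left i
      have hct := hc t (Subgroup.mem_zpowers t)
      rw [Sylow.coe_subgroup_smul, Subgroup.mem_pointwise_smul_iff_inv_smul_mem] at hct
      set r := g⁻¹ * (c * t * c⁻¹) * g with hr
      have hrS : r ∈ P := by simpa [MulAut.smul_def, hr, mul_assoc] using hct
      have hro : orderOf r = 2 := by
        rw [hr, show g⁻¹ * (c * t * c⁻¹) * g = g⁻¹ * (c * t * c⁻¹) * g⁻¹⁻¹ by rw [inv_inv],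
          orderOf_conj_eq, orderOf_conj_eq, F.t_ord]
      have hcwc : c * w * c⁻¹ = w := by rw [hcw.eq, mul_inv_cancel_right]
      have hrt : r ≠ t := by
        intro e
        have h1 : c * t * c⁻¹ = w := by
          calc c * t * c⁻¹ = g * r * g⁻¹ := by rw [hr]; group
            _ = w := by rw [e, hg]
        exact F.t_ne_w (mul_left_cancel (mul_right_cancel (h1.trans hcwc.symm)))
      have hσ := (F.refl_forms hd hz hrS hro hrt).2
      have hgσ : Commute (g * σ * g⁻¹) w := by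
        have h1 := (Commute.conj_iff g).2 (F.t_comm σ hd.x_mem)
        rwa [hg] at h1
      refine ⟨c⁻¹ * (g * σ * g⁻¹) * c, (hcw.inv_left.mul_left hgσ).mul_left hcw, ?_⟩
      calc c⁻¹ * (g * σ * g⁻¹) * c * t * (c⁻¹ * (g * σ * g⁻¹) * c)⁻¹
          = c⁻¹ * (g * (σ * r * σ⁻¹) * g⁻¹) * c := by rw [hr]; group
        _ = c⁻¹ * ((g * t * g⁻¹) * (c * t * c⁻¹)) * c := by rw [hσ, hr]; group
        _ = (c⁻¹ * w * c) * t := by rw [hg]; group
        _ = w * t := by rw [mul_assoc c⁻¹, ← hcw.eq, inv_mul_cancel_left]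
        _ = t * w := F.t_mul_w_comm.eq.symm
    have hhα : h • α = α := hspw.2 h hhw
    rw [← card_comap_conj h (Rw ⊓ Subgroup.centralizer ({t * w} : Set G)), hddef]
    suffices e : (Rw ⊓ Subgroup.centralizer ({t * w} : Set G)).comap (MulAut.conj h).toMonoidHom =
        O ⊓ stabilizer G δ by rw [e]
    ext y
    rw [← hRwtEq]
    simp only [Subgroup.mem_comap, MulEquiv.coe_toMonoidHom, MulAut.conj_apply, Subgroup.mem_inf,
      Subgroup.mem_centralizer_singleton_iff, hRwmem, orderOf_conj_eq]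
    have hiff : h * y * h⁻¹ * (t * w) = t * w * (h * y * h⁻¹) ↔ y * t = t * y := by
      rw [← hht]
      exact Commute.conj_iff h
    rw [hiff]
    refine and_congr_left fun _ => and_congr_left fun _ => ?_
    have hhδ : h • δ = δ ∨ h • δ = t • δ := by
      have h1 : w • h • δ = h • δ := by rw [← mul_smul, ← hhw.eq, mul_smul, hwδ]
      rcases (F.fixw _).1 h1 with e | e | e
      · exact absurd (MulAction.injective h (e.trans hhα.symm)) F.δ_out.1
      · exact Or.inl e
      · exact Or.inr e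
    have hA : (h * y * h⁻¹) • α = α ↔ y • α = α := by
      rw [mul_smul, mul_smul, inv_smul_eq_iff.2 hhα.symm, ← eq_inv_smul_iff,
        inv_smul_eq_iff.2 hhα.symm]
    constructor
    · rintro ⟨h1, h2⟩
      refine ⟨hA.1 h1, ?_⟩
      have h3 := hpairw _ h1 h2
      have h4 : (h * y * h⁻¹) • h • δ = h • δ := by
        rcases hhδ with e | e <;> rw [e] <;> assumption
      rw [mul_smul, inv_smul_smul, mul_smul] at h4
      exact MulAction.injective h h4
    · rintro ⟨h1, h2⟩
      refine ⟨hA.2 h1, ?_⟩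
      have h4 : (h * y * h⁻¹) • h • δ = h • δ := by rw [mul_smul, inv_smul_smul, mul_smul, h2]
      rcases hhδ with e | e
      · rwa [e] at h4
      · rw [e] at h4
        have hyt : (h * y * h⁻¹) • α = α := hA.2 h1
        -- the third point of `Fix w`
        have h5 : (h * y * h⁻¹) • h • (t • δ) = h • (t • δ) := by
          rw [mul_smul, inv_smul_smul, mul_smul, hpairw y h1 h2]
        have h6 : h • t • δ = δ := by
          have h1' : w • h • t • δ = h • t • δ := by
            rw [← mul_smul, ← hhw.eq, mul_smul, (F.fixw (t • δ)).2 (Or.inr (Or.inr rfl))]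
          rcases (F.fixw _).1 h1' with e' | e' | e'
          · exfalso
            exact F.δ_out.1 (MulAction.injective t
              ((MulAction.injective h (e'.trans hhα.symm)).trans htα.symm))
          · exact e'
          · exfalso
            have h7 : t • δ = δ := MulAction.injective h (e'.trans e.symm)
            rcases (F.fixt δ).1 h7 with e'' | e'' | e''
            exacts [F.δ_out.1 e'', F.δ_out.2.1 e'', F.δ_out.2.2 e'']
        rwa [h6] at h5
  have hform2 : Nat.card R * o2 ^ 2 = Nat.card O * d ^ 2 := by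
    have h := four_group_formula hRwodd F.w_ord F.t_ord F.t_mul_w_comm.symm hRww hRwt
    rw [hboth, hCw, hRwtEq, htwd, hRwcard] at h
    rw [h]; ring
  have hde : Nat.card O * o2 = d * o1 := by
    have h3 : (Nat.card O * o2) ^ 2 * Nat.card O = (d * o1) ^ 2 * Nat.card O := by
      calc (Nat.card O * o2) ^ 2 * Nat.card O = (Nat.card R * o1 ^ 2) * o2 ^ 2 := by rw [hform1]; ring
        _ = (Nat.card R * o2 ^ 2) * o1 ^ 2 := by ring
        _ = _ := by rw [hform2]; ring
    exact Nat.pow_left_injective two_ne_zero (Nat.eq_of_mul_eq_mul_right Nat.card_pos h3)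
  obtain ⟨e, he⟩ : d ∣ Nat.card O := Subgroup.card_dvd_of_le inf_le_left
  have ho1e : o1 = e * o2 := by
    refine Nat.eq_of_mul_eq_mul_left (show 0 < d from Nat.card_pos) ?_
    rw [← hde, he]; ring
  have ho1odd : Odd o1 := hodd.of_dvd_nat (Subgroup.card_dvd_of_le inf_le_left)
  have ho2odd : Odd o2 := hodd.of_dvd_nat (Subgroup.card_dvd_of_le inf_le_left)
  refine ⟨o1, o2, e, ho1odd, ho2odd, ho1e, ?_, F.card_cent_two hd hz hK hO hodd hcard F.w_mem
    F.w_ord F.t_ne_w.symm, ?_⟩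
  · have h1 := F.card_cent_two hd hz hK hO hodd hcard hτ hτo hτt
    have e1 : Subgroup.centralizer ({t, σ * w} : Set G) = Subgroup.centralizer ({t, τ} : Set G) := by
      rcases hτcase with rfl | rfl
      · rfl
      · ext x
        simp only [Subgroup.mem_centralizer_iff, Set.mem_insert_iff, Set.mem_singleton_iff,
          forall_eq_or_imp, forall_eq]
        constructor
        · rintro ⟨a1, a2⟩
          exact ⟨a1, Commute.mul_left (show Commute t x from a1) (show Commute (σ * w) x from a2)⟩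
        · rintro ⟨a1, a2⟩
          refine ⟨a1, ?_⟩
          have h3 := Commute.mul_left (show Commute t x from a1).inv_left
            (show Commute (t * (σ * w)) x from a2)
          rwa [inv_mul_cancel_left] at h3
    rw [e1, h1]
  · have e2 : Nat.card (stabilizer (stabilizer G α) β) = Nat.card L := by
      refine Nat.card_congr
        { toFun := fun g => ⟨g.1.1, mem_triStab.2 ⟨g.1.2, g.2, hpair _ g.1.2 g.2⟩⟩
          invFun := fun g => ⟨⟨g.1, (mem_triStab.1 g.2).1⟩, (mem_triStab.1 g.2).2.1⟩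
          left_inv := fun g => rfl
          right_inv := fun g => rfl }
    rw [e2, hLcard, mul_assoc, hform1]

end Frame

end CfsgLib.ItoThreeP
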