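import Cfsg.Agent.ItoThreeP.Small
import Cfsg.Agent.ItoThreeP.Imprimitive

/-!
# Simple groups of degree `3p` with `|N(P)| = 2p`
-/

set_option autoImplicit false
set_option linter.style.haveILetI false
set_option linter.unusedSectionVars false

namespace CfsgLib.ItoThreeP

open Cfsg CfsgLib MulAction

universe u v

theorem primitive {p : ℕ} [hp : Fact p.Prime] {G : Type u} [Group G] [Fintype G] [IsSimpleGroup G]
    {Ω : Type v} [Fintype Ω] [MulAction G Ω] [FaithfulSMul G Ω] [IsPretransitive G Ω]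
    (hp3 : 3 < p) (hG : ¬ IsMulCommutative G) (hΩ : Fintype.card Ω = 3 * p)
    (P : Sylow p G) (hN : Nat.card ↥(Subgroup.normalizer ((P : Subgroup G) : Set G)) = 2 * p)
    (hprim : IsPreprimitive G Ω) :
    p = 5 ∧ Nonempty (G ≃* ↥(alternatingGroup (Fin 6))) := by
  obtain ⟨a, -, H⟩ := exists_hyp (Ω := Ω) hp3 hG hΩ P hN
  obtain ⟨D⟩ := H.exists_data
  rcases H.cases D with ⟨-, hη, hx, hf⟩ | ⟨hε, hη, hf, -, hπ⟩ |
      ⟨hε, hη, hf, hx, φ, h1, h2, h3, hφ, hπ⟩
  · exact (H.not_small D hx hf hη hprim).elim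
  · exact (H.not_three_case D hf hη hε hπ).elim
  · exact H.two_case_result D hf hη hε hx φ h1 h2 h3 hφ hπ

end CfsgLib.ItoThreeP
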