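import Cfsg.Agent.ItoThreeP.Eight
import Cfsg.Agent.DihedralBlock.OneClass
import Cfsg.Agent.Chars.Brauer.Defect

/-!
# The section of the central involution of a dihedral Sylow subgroup of order eight
-/

set_option autoImplicit false
set_option linter.style.haveILetI false
set_option linter.unusedSectionVars false

namespace CfsgLib.ItoThreeP

open Cfsg CfsgLib MulAction CfsgLib.FusionTwo CfsgLib.DihedralBlock
open scoped ComplexConjugate

universe u v

variable {G : Type u} [Group G] [Fintype G] [IsSimpleGroup G]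
  {Ω : Type v} [Fintype Ω] [MulAction G Ω] [FaithfulSMul G Ω] [IsPretransitive G Ω]

namespace Frame

variable {S : Sylow 2 G} {α β γ δ : Ω} {t w : G} (F : Frame S α β γ δ t w)
include F

/-- A Sylow subgroup of order eight is dihedral. -/
theorem exists_dih (hK : (Nat.card G).factorization 2 = 3) :
    ∃ σ : G, IsDihGen (S : Subgroup G) 2 σ w ∧ σ ^ ((2 : ℤ) ^ (2 - 1)) = t := by
  classical
  haveI : Fact (Nat.Prime 2) := ⟨Nat.prime_two⟩
  set P := (S : Subgroup G) with hP
  have hcard : Nat.card P = 8 := by rw [hP, S.card_eq_multiplicity, hK]; norm_num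
  obtain ⟨e, heP, he⟩ : ∃ e ∈ P, ¬ Commute e w := by
    by_contra h
    push Not at h
    have hle : Nat.card P ≤ 4 := by
      rw [Nat.card_eq_fintype_card, Fintype.card_subtype]
      refine le_trans (Finset.card_le_card (t := {1, t, w, t * w}) fun g hg => ?_) ?_
      · have hgP := (Finset.mem_filter.1 hg).2
        simpa using F.centw g hgP (h g hgP)
      · exact le_trans (Finset.card_insert_le _ _) (Nat.succ_le_succ (le_trans (Finset.card_insert_le _ _)
          (Nat.succ_le_succ Finset.card_le_two)))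
    omega
  set A : Subgroup P := Subgroup.centralizer ({(⟨w, F.w_mem⟩ : P)} : Set P) with hA
  have hAmem : ∀ g : P, g ∈ A ↔ Commute (g : G) w := fun g => by
    rw [hA, Subgroup.mem_centralizer_singleton_iff]
    exact ⟨fun h => congrArg Subtype.val h, fun h => Subtype.ext h.eq⟩
  have hAcard : Nat.card A = 4 := by
    rw [Nat.card_eq_fintype_card, Fintype.card_subtype]
    have htw : Commute t w := F.t_mul_w_comm
    rw [show (Finset.univ.filter fun g : P => g ∈ A) = {1, ⟨t, F.t_mem⟩, ⟨w, F.w_mem⟩,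
        ⟨t * w, mul_mem F.t_mem F.w_mem⟩} by
      ext g
      simp only [Finset.mem_filter, Finset.mem_univ, true_and, hAmem, Finset.mem_insert,
        Finset.mem_singleton]
      constructor
      · intro h
        rcases F.centw g g.2 h with e | e | e | e
        · exact Or.inl (Subtype.ext e)
        · exact Or.inr (Or.inl (Subtype.ext e))
        · exact Or.inr (Or.inr (Or.inl (Subtype.ext e)))
        · exact Or.inr (Or.inr (Or.inr (Subtype.ext e)))
      · rintro (rfl | rfl | rfl | rfl)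
        exacts [Commute.one_left _, htw, Commute.refl _, htw.mul_left (Commute.refl _)]]
    rw [Finset.card_insert_of_notMem, Finset.card_insert_of_notMem, Finset.card_pair]
    · exact fun e => ne_one_of_ord F.t_ord (mul_eq_right.1 (congrArg Subtype.val e).symm)
    · simp only [Finset.mem_insert, Finset.mem_singleton, not_or, Subtype.mk.injEq]
      exact ⟨F.t_ne_w, fun e => ne_one_of_ord F.w_ord (mul_eq_left.1 e.symm)⟩
    · simp only [Finset.mem_insert, Finset.mem_singleton, not_or]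
      exact ⟨fun e => ne_one_of_ord F.t_ord (congrArg Subtype.val e).symm,
        fun e => ne_one_of_ord F.w_ord (congrArg Subtype.val e).symm,
        fun e => F.tw_ne_one (congrArg Subtype.val e).symm⟩
  have hAidx : A.index = 2 := by
    have := A.card_mul_index
    rw [hAcard, hcard] at this
    omega
  haveI := Subgroup.normal_of_index_eq_two hAidx
  have hew : e * w * e⁻¹ = t * w := by
    have h1 : (⟨e, heP⟩ : P) * ⟨w, F.w_mem⟩ * (⟨e, heP⟩ : P)⁻¹ ∈ A :=
      Subgroup.Normal.conj_mem inferInstance _ ((hAmem _).2 (Commute.refl _)) _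
    have h2 : Commute (e * w * e⁻¹) w := by simpa using (hAmem _).1 h1
    rcases F.centw _ (mul_mem (mul_mem heP F.w_mem) (inv_mem heP)) h2 with h | h | h | h
    · exact absurd (conj_eq_one_iff.1 h) (ne_one_of_ord F.w_ord)
    · exfalso
      have : w = e⁻¹ * t * e := by rw [← h]; group
      rw [mul_assoc, ← (F.t_comm e heP).eq, inv_mul_cancel_left] at this
      exact F.t_ne_w this.symm
    · exact absurd (mul_inv_eq_iff_eq_mul.1 h) he
    · exact h
  have hewt : e * w = t * w * e := by rw [← hew]; group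
  have het : Commute e t := F.t_comm e heP
  have hee : e * e = 1 ∨ e * e = t := by
    have h1 : Commute (e * e) w := by
      show e * e * w = w * (e * e)
      calc e * e * w = e * (t * w * e) := by rw [mul_assoc, hewt]
        _ = t * (e * w) * e := by rw [← mul_assoc, ← mul_assoc, het.eq, mul_assoc t e w]
        _ = t * t * w * (e * e) := by rw [hewt]; group
        _ = _ := by rw [sq_one_of_ord F.t_ord, one_mul]
    have h2 : Commute (e * e) e := (Commute.refl e).mul_left (Commute.refl e)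
    rcases F.centw _ (mul_mem heP heP) h1 with h | h | h | h
    · exact Or.inl h
    · exact Or.inr h
    · exact absurd (h ▸ h2).symm he
    · exfalso
      rw [h] at h2
      refine he ?_
      have h3 := het.inv_right.mul_right h2.symm
      rwa [inv_mul_cancel_left] at h3
  have hno : ∀ σ, σ * σ = t → w * σ * w = σ⁻¹ → σ ∈ P →
      IsDihGen P 2 σ w ∧ σ ^ ((2 : ℤ) ^ (2 - 1)) = t := by
    intro σ h1 h2 h3
    refine ⟨⟨by norm_num, by rw [hcard]; norm_num, h3, F.w_mem, ?_, F.w_ord,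
      by rw [inv_of_ord F.w_ord, h2], fun hw => ?_⟩, ?_⟩
    · refine orderOf_eq_prime_pow (p := 2) (n := 1) ?_ ?_
      · rw [pow_one, pow_two, h1]; exact ne_one_of_ord F.t_ord
      · rw [show (2 : ℕ) ^ (1 + 1) = 4 by norm_num, show (4 : ℕ) = 2 + 2 by norm_num, pow_add,
          pow_two, h1, sq_one_of_ord F.t_ord]
    · obtain ⟨j, hj⟩ := Subgroup.mem_zpowers_iff.1 hw
      have hc : Commute w σ := hj ▸ (Commute.refl σ).zpow_left j
      rw [hc.eq, mul_assoc, sq_one_of_ord F.w_ord, mul_one] at h2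
      have h4 : σ * σ = 1 := by nth_rewrite 2 [h2]; exact mul_inv_cancel σ
      exact ne_one_of_ord F.t_ord (h1 ▸ h4)
    · norm_num
      rw [pow_two, h1]
  rcases hee with h | h
  · have hei : e⁻¹ = e := inv_eq_of_mul_eq_one_left h
    refine ⟨e * w, hno _ ?_ ?_ (mul_mem heP F.w_mem)⟩
    · calc e * w * (e * w) = t * w * e * (e * w) := by nth_rewrite 1 [hewt]; rfl
        _ = t * w * (e * e) * w := by group
        _ = t * (w * w) := by rw [h]; group
        _ = t := by rw [sq_one_of_ord F.w_ord, mul_one]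
    · rw [mul_inv_rev, inv_of_ord F.w_ord, hei, mul_assoc, mul_assoc, sq_one_of_ord F.w_ord, mul_one]
  · refine ⟨e, hno e h ?_ heP⟩
    have h3 : e * t = e⁻¹ := by
      refine eq_inv_of_mul_eq_one_left ?_
      rw [mul_assoc, ← het.eq, ← mul_assoc, h, sq_one_of_ord F.t_ord]
    have h4 : w * e = t * (e * w) := by
      rw [hewt, ← mul_assoc, ← mul_assoc, sq_one_of_ord F.t_ord, one_mul]
    rw [h4, mul_assoc, mul_assoc, sq_one_of_ord F.w_ord, mul_one, ← het.eq, h3]

variable {σ : G} {M : Ideal AlgInt}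

/-- The odd part of the centraliser of `t`. -/
theorem exists_oddCore (hd : IsDihGen (S : Subgroup G) 2 σ w) (hz : σ ^ ((2 : ℤ) ^ (2 - 1)) = t) :
    ∃ O : Subgroup G, (∀ y, y ∈ O ↔ Commute y t ∧ ¬ 2 ∣ orderOf y) ∧ Odd (Nat.card O) ∧
      Nat.card (Subgroup.centralizer ({t} : Set G)) = 8 * Nat.card O := by
  haveI : Fact (Nat.Prime 2) := ⟨Nat.prime_two⟩
  set C := Subgroup.centralizer ({t} : Set G) with hC
  have hn : HasNormalPComplement 2 C := by rw [hC, ← hz]; exact npc_z hd
  have hf : (Nat.card C).factorization 2 = 3 := by rw [hC, ← hz]; exact factorization_z hd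
  have hnd : ¬ 2 ∣ Nat.card (pPrimeCore 2 C) := Constrained.pPrimeCore_not_dvd
  refine ⟨(pPrimeCore 2 C).map C.subtype, fun y => ⟨?_, ?_⟩, ?_, ?_⟩
  · rintro ⟨x, hx, rfl⟩
    refine ⟨Subgroup.mem_centralizer_singleton_iff.1 x.2, fun h => ?_⟩
    rw [Subgroup.coe_subtype, Subgroup.orderOf_coe] at h
    exact hnd (h.trans (Subgroup.orderOf_dvd_natCard _ hx))
  · rintro ⟨h1, h2⟩
    refine ⟨⟨y, Subgroup.mem_centralizer_singleton_iff.2 h1.eq⟩, mem_pPrimeCore hn ?_, rfl⟩
    rwa [← Subgroup.orderOf_coe]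
  · rw [Subgroup.card_map_of_injective C.subtype_injective]
    exact Nat.odd_iff.2 (Nat.two_dvd_ne_zero.1 hnd)
  · have h := (pPrimeCore 2 C).card_mul_index
    rw [index_pPrimeCore hn, hf] at h
    rw [Subgroup.card_map_of_injective C.subtype_injective, ← h]
    ring

open scoped Classical in
/-- The elements with involutory 2-part. -/
noncomputable def _root_.CfsgLib.ItoThreeP.secSet (G : Type u) [Group G] [Fintype G] : Finset G :=
  Finset.univ.filter fun g => 2 ∣ orderOf g ∧ ¬ 4 ∣ orderOf g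

theorem orderOf_mul_t {O : Subgroup G} (hO : ∀ y, y ∈ O ↔ Commute y t ∧ ¬ 2 ∣ orderOf y) {y : G}
    (hy : y ∈ O) : orderOf (t * y) = 2 * orderOf y := by
  obtain ⟨h1, h2⟩ := (hO y).1 hy
  rw [h1.symm.orderOf_mul_eq_mul_orderOf_of_coprime
    (by rw [F.t_ord]; exact Nat.prime_two.coprime_iff_not_dvd.2 h2), F.t_ord]

/-- A member of the block is constant on the section. -/
theorem apply_section (T : Three G Ω) (hd : IsDihGen (S : Subgroup G) 2 σ w)
    (hz : σ ^ ((2 : ℤ) ^ (2 - 1)) = t) (hM : IsPModular 2 M) {χ : IrrCharacter G}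
    (hχ : χ ∈ principalBlock M G) {g : G} (hg2 : 2 ∣ orderOf g) (hg4 : ¬ 4 ∣ orderOf g) :
    (χ : G → ℂ) g = (χ : G → ℂ) t := by
  obtain ⟨μ, -, hμ, hval⟩ := val_singular hd hM (fun s hs => hz.symm ▸ T.conj t s F.t_ord hs) hg2
  rw [hval χ (mem_B0.2 hχ), rotVal, hμ.2 hg4, rot_half hd, hz]

/-- Characters outside the block sum to zero over the section. -/
theorem sum_secSet (T : Three G Ω) (hd : IsDihGen (S : Subgroup G) 2 σ w)
    (hz : σ ^ ((2 : ℤ) ^ (2 - 1)) = t) (hM : IsPModular 2 M) {χ : IrrCharacter G}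
    (hχ : χ ∉ principalBlock M G) : ∑ g ∈ secSet G, (χ : G → ℂ) g = 0 := by
  classical
  have hone : ∀ s : G, orderOf s = 2 → IsConj (σ ^ ((2 : ℤ) ^ (2 - 1))) s := fun s hs =>
    hz.symm ▸ T.conj t s F.t_ord hs
  have hrot : ∀ ξ : IrrCharacter G, rotVal σ ξ (half 2) = (ξ : G → ℂ) t := fun ξ => by
    rw [rotVal, rot_half hd, hz]
  have hE : ∀ g : G, ∑ ξ ∈ B0 (G := G) M, (ξ : G → ℂ) t * (ξ : G → ℂ) g =
      if g ∈ secSet G then 8 else 0 := by
    intro g
    have hs : g ∈ secSet G ↔ 2 ∣ orderOf g ∧ ¬ 4 ∣ orderOf g := by simp [secSet]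
    by_cases hg : 2 ∣ orderOf g
    · obtain ⟨μ, hμ, hμh, hval⟩ := val_singular hd hM hone hg
      rw [Finset.sum_congr rfl (fun ξ (hξ : ξ ∈ B0 (G := G) M) =>
          show (ξ : G → ℂ) t * (ξ : G → ℂ) g = rotVal σ ξ (half 2) * rotVal σ ξ μ by
            rw [hrot ξ, hval ξ hξ]),
        gram hd hM (half_ne_zero hd) hμ, neg_half hd]
      by_cases h4 : μ = half 2
      · rw [if_pos h4, if_pos (hs.2 ⟨hg, hμh.1 h4⟩)]; norm_num
      · rw [if_neg h4, if_neg fun e => h4 (hμh.2 (hs.1 e).2)]; norm_num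
    · rw [if_neg fun e => hg (hs.1 e).1, Finset.sum_congr rfl (fun ξ (_ : ξ ∈ B0 (G := G) M) =>
        show (ξ : G → ℂ) t * (ξ : G → ℂ) g = rotVal σ ξ (half 2) * (ξ : G → ℂ) g by rw [hrot ξ])]
      exact sum_rotVal_regular hd hM (half_ne_zero hd) hg
  have h : ∑ g : G, (∑ ξ ∈ B0 (G := G) M, (ξ : G → ℂ) t * (ξ : G → ℂ) g) * conj ((χ : G → ℂ) g) = 0 := by
    simp only [Finset.sum_mul, mul_assoc]
    rw [Finset.sum_comm]
    refine Finset.sum_eq_zero fun ξ hξ => ?_
    rw [← Finset.mul_sum]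
    have h0 := Chars.classInner_of_ne (χ := ξ) (ψ := χ) fun e => hχ (e ▸ mem_B0.1 hξ)
    simp only [classInner] at h0
    rw [(mul_eq_zero.1 h0).resolve_left (inv_ne_zero Chars.natCard_ne_zero), mul_zero]
  simp only [hE, ite_mul, zero_mul, Finset.sum_ite_mem, Finset.univ_inter, ← Finset.mul_sum] at h
  have h2 := congrArg conj ((mul_eq_zero.1 h).resolve_left (by norm_num))
  simpa [map_sum] using h2

/-- The sum of a class function over the section. -/
theorem sum_secSet_eq (T : Three G Ω) {O : Subgroup G}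
    [Fintype O] (hO : ∀ y, y ∈ O ↔ Commute y t ∧ ¬ 2 ∣ orderOf y) {f : G → ℂ} (hf : IsClassFunction G f) :
    ∃ N : ℕ, 0 < N ∧
      ∑ g ∈ secSet G, f g = (N : ℂ) * ∑ y : O, f (t * (y : G)) := by
  classical
  haveI : Fact (Nat.Prime 2) := ⟨Nat.prime_two⟩
  let I : Finset G := Finset.univ.filter fun u => orderOf u = 2
  let R : G → Finset G := fun u => Finset.univ.filter fun y => Commute y u ∧ ¬ 2 ∣ orderOf y
  have hsum : ∑ g ∈ secSet G, f g = ∑ u ∈ I, ∑ y ∈ R u, f (u * y) := by
    rw [Finset.sum_sigma']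
    symm
    refine Finset.sum_bij (fun q _ => q.1 * q.2) (fun q hq => ?_) (fun q hq q' hq' e => ?_)
      (fun g hg => ?_) fun q _ => rfl
    · simp only [Finset.mem_sigma, I, R, Finset.mem_filter, Finset.mem_univ, true_and] at hq
      have ho := hq.2.1.symm.orderOf_mul_eq_mul_orderOf_of_coprime
        (by rw [hq.1]; exact Nat.prime_two.coprime_iff_not_dvd.2 hq.2.2)
      simp only [secSet, Finset.mem_filter, Finset.mem_univ, true_and, ho, hq.1]
      refine ⟨dvd_mul_right _ _, fun h4 => hq.2.2 ?_⟩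
      rw [show (4 : ℕ) = 2 * 2 from rfl] at h4
      exact Nat.dvd_of_mul_dvd_mul_left two_pos h4
    · simp only [Finset.mem_sigma, I, R, Finset.mem_filter, Finset.mem_univ, true_and] at hq hq'
      have key : ∀ q : (_ : G) × G, orderOf q.1 = 2 → Commute q.2 q.1 → ¬ 2 ∣ orderOf q.2 →
          ∀ k : ℕ, Odd k → orderOf q.2 ∣ k → (q.1 * q.2) ^ k = q.1 := by
        intro q h1 h2 h3 k hk hd
        obtain ⟨j, rfl⟩ := hk
        rw [h2.symm.mul_pow, orderOf_dvd_iff_pow_eq_one.1 hd, mul_one, pow_add, pow_mul, pow_two,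
          sq_one_of_ord h1, one_pow, one_mul, pow_one]
      have hk : Odd (orderOf q.2 * orderOf q'.2) :=
        (Nat.odd_iff.2 (Nat.two_dvd_ne_zero.1 hq.2.2)).mul (Nat.odd_iff.2 (Nat.two_dvd_ne_zero.1 hq'.2.2))
      have e1 := key q hq.1 hq.2.1 hq.2.2 _ hk (dvd_mul_right _ _)
      have e2 := key q' hq'.1 hq'.2.1 hq'.2.2 _ hk (dvd_mul_left _ _)
      rw [e, e2] at e1
      obtain ⟨a, b⟩ := q
      obtain ⟨a', b'⟩ := q'
      simp only at e e1
      subst e1
      rw [mul_left_cancel e]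
    · simp only [secSet, Finset.mem_filter, Finset.mem_univ, true_and] at hg
      obtain ⟨m, hm⟩ := hg.1
      have hm2 : ¬ 2 ∣ m := fun h => hg.2 (by
        rw [hm, show (4 : ℕ) = 2 * 2 from rfl]; exact Nat.mul_dvd_mul_left 2 h)
      obtain ⟨j, hj⟩ : Odd m := Nat.odd_iff.2 (Nat.two_dvd_ne_zero.1 hm2)
      have hgo : g ^ (2 * m) = 1 := hm ▸ pow_orderOf_eq_one g
      refine ⟨⟨g ^ m, g ^ (m + 1)⟩, ?_, ?_⟩
      · simp only [Finset.mem_sigma, I, R, Finset.mem_filter, Finset.mem_univ, true_and]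
        refine ⟨?_, (Commute.refl g).pow_pow _ _, fun h => hm2 (h.trans ?_)⟩
        · rw [orderOf_pow' _ (show m ≠ 0 by omega), hm, Nat.gcd_eq_right (dvd_mul_left m 2),
            Nat.mul_div_cancel _ (show 0 < m by omega)]
        · refine orderOf_dvd_of_pow_eq_one ?_
          rw [← pow_mul, show (m + 1) * m = 2 * m * (j + 1) by rw [hj]; ring, pow_mul, hgo, one_pow]
      · rw [← pow_add, show m + (m + 1) = 2 * m + 1 by ring, pow_succ, hgo, one_mul]
  refine ⟨I.card, Finset.card_pos.2 ⟨t, by simp [I, F.t_ord]⟩, ?_⟩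
  rw [hsum, ← nsmul_eq_mul, ← Finset.sum_const]
  refine Finset.sum_congr rfl fun u hu => ?_
  obtain ⟨c, rfl⟩ := isConj_iff.1 (T.conj t u F.t_ord (Finset.mem_filter.1 hu).2)
  have hOsum : ∑ y ∈ Finset.univ.filter (fun y => y ∈ O), f (t * y) = ∑ y : O, f (t * (y : G)) :=
    Finset.sum_subtype _ (fun y => by simp) _
  rw [← hOsum]
  refine Finset.sum_equiv (MulAut.conj c⁻¹).toEquiv (fun y => ?_) (fun y _ => ?_)
  · simp only [R, Finset.mem_filter, Finset.mem_univ, true_and, MulEquiv.toEquiv_eq_coe,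
      EquivLike.coe_coe, hO]
    rw [MulEquiv.orderOf_eq]
    have hc : MulAut.conj c⁻¹ (c * t * c⁻¹) = t := by simp [mul_assoc]
    constructor
    · rintro ⟨h1, h2⟩
      exact ⟨hc ▸ h1.map (MulAut.conj c⁻¹), h2⟩
    · rintro ⟨h1, h2⟩
      refine ⟨?_, h2⟩
      have h3 := h1.map (MulAut.conj c)
      simpa [mul_assoc] using h3
  · rw [← hf (c * t * c⁻¹ * y) c⁻¹]
    congr 1
    simp [mul_assoc]

/-- Dichotomy for a character. -/
theorem mem_or_sum_eq_zero (T : Three G Ω) (hd : IsDihGen (S : Subgroup G) 2 σ w)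
    (hz : σ ^ ((2 : ℤ) ^ (2 - 1)) = t) (hM : IsPModular 2 M) {O : Subgroup G} [Fintype O]
    (hO : ∀ y, y ∈ O ↔ Commute y t ∧ ¬ 2 ∣ orderOf y) (χ : IrrCharacter G) :
    χ ∈ principalBlock M G ∨ ∑ y : O, (χ : G → ℂ) (t * (y : G)) = 0 := by
  refine or_iff_not_imp_left.2 fun h => ?_
  obtain ⟨N, hN, hN2⟩ := F.sum_secSet_eq T hO (Chars.isClassFunction_coe χ)
  rw [F.sum_secSet T hd hz hM h] at hN2
  exact (mul_eq_zero.1 hN2.symm).resolve_left (Nat.cast_ne_zero.2 hN.ne')

/-- `π(ty)` is `0` or `3`. -/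
theorem fix_mul (T : Three G Ω) {y : G} (hy : Commute y t) (hy2 : ¬ 2 ∣ orderOf y) :
    (∀ x : Ω, t • x = x → y • x = x) ∧ Nat.card (fixedBy Ω (t * y)) = 3 ∨
      Nat.card (fixedBy Ω (t * y)) = 0 := by
  classical
  obtain ⟨k, hk⟩ : Odd (orderOf y) := Nat.odd_iff.2 (Nat.two_dvd_ne_zero.1 hy2)
  have hpres : ∀ x : Ω, t • x = x → t • y • x = y • x := fun x hx => by
    rw [← mul_smul, ← hy.eq, mul_smul, hx]
  have hpow : (t * y) ^ orderOf y = t := by
    rw [hy.symm.mul_pow, pow_orderOf_eq_one, mul_one, hk, pow_add, pow_mul, pow_two,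
      sq_one_of_ord F.t_ord, one_pow, one_mul, pow_one]
  by_cases hfix : ∀ x : Ω, t • x = x → y • x = x
  · refine Or.inl ⟨hfix, ?_⟩
    rw [← T.fix3 t F.t_ord]
    congr 2
    ext x
    simp only [mem_fixedBy]
    constructor
    · intro h
      have := smul_pow_eq h (orderOf y)
      rwa [hpow] at this
    · intro h
      rw [mul_smul, hfix x h, h]
  · refine Or.inr ?_
    haveI : IsEmpty (fixedBy Ω (t * y)) := ⟨fun ⟨x, hx⟩ => hfix ?_⟩
    · exact Nat.card_of_isEmpty
    have htx : t • x = x := by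
      have := smul_pow_eq (hx : (t * y) • x = x) (orderOf y)
      rwa [hpow] at this
    have hyx : y • x = x := by
      have h : t • y • x = x := by rw [← mul_smul]; exact hx
      rwa [hpres x htx] at h
    intro z hz
    by_contra hzne
    set z' := y • z with hz'
    have hz't : t • z' = z' := hpres z hz
    have hzx : z ≠ x := fun e => hzne (by rw [hz', e, hyx])
    have hz'x : z' ≠ x := fun e => hzx (MulAction.injective y (e.trans hyx.symm))
    have h3 := eq_of_three (s := fixedBy Ω t) (T.fix3 t F.t_ord) htx hz hz't hzx.symm hz'x.symm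
      (Ne.symm hzne) (hpres z' hz't)
    have hy2z : y • z' = z := by
      rcases h3 with h | h | h
      · exact absurd (MulAction.injective y (h.trans hyx.symm)) hz'x
      · exact h
      · exact absurd (MulAction.injective y (show y • z' = y • z from h)) hzne
    refine hzne ?_
    have he : (y ^ 2) ^ k • z = z := smul_pow_eq (by rw [pow_two, mul_smul, ← hz', hy2z]) k
    calc y • z = y • ((y ^ 2) ^ k • z) := by rw [he]
      _ = (y ^ orderOf y) • z := by rw [hk, pow_succ' y (2 * k), pow_mul, mul_smul]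
      _ = z := by rw [pow_orderOf_eq_one, one_smul]

/-- The sum of `π - 2` over the section is not zero. -/
theorem sum_fix_sub_two_ne_zero (T : Three G Ω) {O : Subgroup G} [Fintype O]
    (hO : ∀ y, y ∈ O ↔ Commute y t ∧ ¬ 2 ∣ orderOf y) (hodd : Odd (Nat.card O)) :
    ∑ y : O, ((Nat.card (fixedBy Ω (t * (y : G))) : ℂ) - 2) ≠ 0 := by
  classical
  intro h
  have h3 : ∀ y : O, ∃ j : ℕ, Nat.card (fixedBy Ω (t * (y : G))) = 3 * j := fun y => by
    obtain ⟨h1, h2⟩ := (hO y).1 y.2
    rcases F.fix_mul T h1 h2 with ⟨-, h'⟩ | h'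
    · exact ⟨1, by rw [h']⟩
    · exact ⟨0, by rw [h']⟩
  choose j hj using h3
  simp only [hj, Finset.sum_sub_distrib, Finset.sum_const, Finset.card_univ, nsmul_eq_mul] at h
  have h2 : ((3 * ∑ y : O, j y : ℕ) : ℂ) = ((2 * Fintype.card O : ℕ) : ℂ) := by
    push_cast [Finset.mul_sum] at h ⊢
    linear_combination h
  have h5 : 3 * ∑ y : O, j y = 2 * Fintype.card O := by exact_mod_cast h2
  -- the elements fixing the three points form a subgroup of index at most three
  set L : Subgroup O :=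
    (stabilizer G α ⊓ stabilizer G β ⊓ stabilizer G γ).subgroupOf O with hL
  have hjL : ∀ y : O, j y = if y ∈ L then 1 else 0 := by
    intro y
    have hj' := hj y
    obtain ⟨h1, h2⟩ := (hO y).1 y.2
    rcases F.fix_mul T h1 h2 with ⟨hall, h'⟩ | h' <;> rw [h'] at hj'
    · rw [if_pos]
      · omega
      · simp only [hL, Subgroup.mem_subgroupOf, Subgroup.mem_inf, mem_stabilizer_iff]
        exact ⟨⟨hall α F.fixed_t.1, hall β F.fixed_t.2.1⟩, hall γ F.fixed_t.2.2⟩
    · rw [if_neg]
      · omega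
      · intro hm
        simp only [hL, Subgroup.mem_subgroupOf, Subgroup.mem_inf, mem_stabilizer_iff] at hm
        have : Nonempty (fixedBy Ω (t * (y : G))) := ⟨⟨α, by
          rw [mem_fixedBy, mul_smul, hm.1.1, F.fixed_t.1]⟩⟩
        have := Nat.card_pos (α := fixedBy Ω (t * (y : G)))
        omega
  rw [Finset.sum_congr rfl fun y _ => hjL y, Finset.sum_boole, Nat.cast_id,
    ← Fintype.card_subtype, ← Nat.card_eq_fintype_card, ← Nat.card_eq_fintype_card,
    ← L.card_mul_index] at h5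
  have h6 : Nat.card L * 3 = Nat.card L * (2 * L.index) := by
    rw [mul_comm _ 3]; linarith
  have := Nat.eq_of_mul_eq_mul_left Nat.card_pos h6
  omega

/-- The column of `t` in the block has square norm eight. -/
theorem sum_sq (hd : IsDihGen (S : Subgroup G) 2 σ w) (hz : σ ^ ((2 : ℤ) ^ (2 - 1)) = t)
    (hM : IsPModular 2 M) : ∑ χ ∈ B0 (G := G) M, (χ : G → ℂ) t * (χ : G → ℂ) t = 8 := by
  have hrot : ∀ ξ : IrrCharacter G, rotVal σ ξ (half 2) = (ξ : G → ℂ) t := fun ξ => by
    rw [rotVal, rot_half hd, hz]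
  rw [Finset.sum_congr rfl (fun χ (_ : χ ∈ B0 (G := G) M) =>
      show (χ : G → ℂ) t * (χ : G → ℂ) t = rotVal σ χ (half 2) * rotVal σ χ (half 2) by
        rw [hrot χ]),
    gram hd hM (half_ne_zero hd) (half_ne_zero hd), neg_half hd]
  norm_num

end Frame

end CfsgLib.ItoThreeP
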