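import Cfsg.Agent.ItoThreeP.CaseThree
import Cfsg.Agent.S4705
import Cfsg.Agent.SL2.Sylow

/-!
# The case `f = p - 1` does not occur for primitive actions
-/

set_option autoImplicit false
set_option linter.style.haveILetI false
set_option linter.unusedSectionVars false

namespace CfsgLib.ItoThreeP

open Cfsg CfsgLib MulAction

universe u v

/-- A maximal subgroup of `SL(2, 2^k)` cannot have index three times that of a Borel subgroup. -/
theorem sl2_no_maximal {F : Type*} [Field F] [Fintype F] [CharP F 2]
    (K : Subgroup (Matrix.SpecialLinearGroup (Fin 2) F)) (hK : IsCoatom K)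
    (hidx : K.index = 3 * (Fintype.card F + 1)) (hodd : Odd K.index) : False := by
  haveI : Fact (Nat.Prime 2) := ⟨Nat.prime_two⟩
  obtain ⟨S⟩ := (inferInstance : Nonempty (Sylow 2 K))
  have hS : ¬ 2 ∣ ((S : Subgroup K).map K.subtype).index := by
    rw [Subgroup.index_map_subtype]
    intro h
    rcases Nat.prime_two.dvd_mul.1 h with h | h
    · exact S.not_dvd_index h
    · exact Nat.not_even_iff_odd.2 hodd (even_iff_two_dvd.2 h)
  set S' : Sylow 2 (Matrix.SpecialLinearGroup (Fin 2) F) :=
    (S.isPGroup'.map K.subtype).toSylow hS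
  have hS'K : (S' : Subgroup (Matrix.SpecialLinearGroup (Fin 2) F)) ≤ K :=
    Subgroup.map_subtype_le _
  have hle : K ≤ Subgroup.normalizer
      ((S' : Subgroup (Matrix.SpecialLinearGroup (Fin 2) F)) : Set (Matrix.SpecialLinearGroup (Fin 2) F)) := by
    intro k hk
    refine Sylow.smul_eq_iff_mem_normalizer.1 ?_
    by_contra hne
    refine hK.1 (top_le_iff.1 ?_)
    rw [← (SL2.sylow_pair hne).2]
    refine sup_le ?_ hS'K
    rw [Sylow.coe_subgroup_smul]
    rintro _ ⟨x, hx, rfl⟩
    exact K.mul_mem (K.mul_mem hk (hS'K hx)) (K.inv_mem hk)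
  have hN : (Subgroup.normalizer
      ((S' : Subgroup (Matrix.SpecialLinearGroup (Fin 2) F)) : Set (Matrix.SpecialLinearGroup (Fin 2) F))).index =
        Fintype.card F + 1 := by
    exact (S'.card_eq_index_normalizer).symm.trans (SL2.card_sylow_char 2)
  rcases eq_or_lt_of_le hle with h | h
  · rw [← h, hidx] at hN
    omega
  · rw [hK.2 _ h, Subgroup.index_top] at hN
    have := Fintype.card_pos (α := F)
    omega

variable {p : ℕ} [hp : Fact p.Prime] {G : Type u} [Group G] [Fintype G] [IsSimpleGroup G]
  {Ω : Type v} [Fintype Ω] [MulAction G Ω] [FaithfulSMul G Ω] [IsPretransitive G Ω] {a : G}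

/-- For `|Ω| = 15` an involution does not fix exactly one point. -/
theorem fix_ne_one_of_fifteen (hG : ¬ IsMulCommutative G) (hΩ : Fintype.card Ω = 15) {t : G}
    (hto : orderOf t = 2) : Nat.card (fixedBy Ω t) ≠ 1 := by
  classical
  intro h1
  set σ := MulAction.toPermHom G Ω t with hσ
  have hinj : Function.Injective (MulAction.toPermHom G Ω) := MulAction.toPerm_injective
  have hσo : orderOf σ = 2 := by rw [hσ, orderOf_injective _ hinj, hto]
  have hsgn : Equiv.Perm.sign σ = 1 := by
    let f : G →* ℤˣ := Equiv.Perm.sign.comp (MulAction.toPermHom G Ω)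
    have h : f.ker = ⊤ :=
      top_le_iff.1 (commutator_top hG ▸ Abelianization.commutator_subset_ker f)
    exact MonoidHom.mem_ker.1 (h ▸ Subgroup.mem_top t : t ∈ f.ker)
  haveI : Fact (Nat.Prime 2) := ⟨Nat.prime_two⟩
  obtain ⟨n, hn⟩ := Equiv.Perm.cycleType_prime_order (by rw [hσo]; exact Nat.prime_two)
  rw [hσo] at hn
  rw [Equiv.Perm.sign_of_cycleType, hn, Multiset.sum_replicate, Multiset.card_replicate,
    smul_eq_mul, neg_one_pow_eq_one_iff_even (by decide)] at hsgn
  have hsupp : σ.support.card = 2 * (n + 1) := by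
    rw [← Equiv.Perm.sum_cycleType, hn, Multiset.sum_replicate, smul_eq_mul, mul_comm]
  have hcompl : σ.supportᶜ.card = 1 := by
    rw [← h1, Nat.card_eq_fintype_card, ← Set.toFinset_card]
    congr 1
    ext x
    simp [hσ, Finset.mem_compl]
  rw [Finset.card_compl, hsupp, hΩ] at hcompl
  obtain ⟨c, hc⟩ := hsgn
  omega

theorem card_fix_perm_modEq {α : Type v} [Fintype α] [DecidableEq α] {q : ℕ} [Fact q.Prime]
    (σ : Equiv.Perm α) (h : σ ^ q = 1) :
    Fintype.card {x // σ x = x} ≡ Fintype.card α [MOD q] := by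
  have h' := Equiv.Perm.card_compl_support_modEq (σ := σ) (p := q) (n := 1) (by rw [pow_one]; exact h)
  rwa [show σ.supportᶜ.card = Fintype.card {x // σ x = x} by
    rw [Fintype.card_subtype]
    congr 1
    ext x
    simp] at h'

/-- An element of order seven does not commute with an involution fixing three of fifteen points. -/
theorem not_commute_seven (hΩ : Fintype.card Ω = 15) {t g : G} (hto : orderOf t = 2)
    (h3 : Nat.card (fixedBy Ω t) = 3) (hg : orderOf g = 7) (hc : Commute g t) : False := by
  classical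
  haveI : Fact (Nat.Prime 7) := ⟨by norm_num⟩
  haveI : Fact (Nat.Prime 2) := ⟨Nat.prime_two⟩
  have h3' : Fintype.card {x : Ω // t • x = x} = 3 := by
    rw [← h3, Nat.card_eq_fintype_card]
    exact Fintype.card_congr (Equiv.refl _)
  have hcomm : ∀ x : Ω, t • g • x = g • t • x := fun x => by rw [← mul_smul, ← mul_smul, hc.eq]
  have hmem : ∀ x, t • ((MulAction.toPermHom G Ω g) x) = (MulAction.toPermHom G Ω g) x ↔
      t • x = x := fun x => by
    simp only [MulAction.toPermHom_apply, MulAction.toPerm_apply]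
    rw [hcomm, smul_left_cancel_iff]
  have hσ : MulAction.toPermHom G Ω g ^ 7 = 1 := by
    rw [← map_pow, ← hg, pow_orderOf_eq_one, map_one]
  have hτ : MulAction.toPermHom G Ω t ^ 2 = 1 := by
    rw [← map_pow, ← hto, pow_orderOf_eq_one, map_one]
  -- `g` fixes the three fixed points of `t`
  set ρ := (MulAction.toPermHom G Ω g).subtypePerm (p := fun x : Ω => t • x = x) hmem with hρ
  have hsub : ∀ x : Ω, t • x = x → g • x = x := by
    have hmod := card_fix_perm_modEq (q := 7) ρ (by
      ext x
      rw [hρ, Equiv.Perm.subtypePerm_pow, Equiv.Perm.subtypePerm_apply]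
      simp only [hσ]
      rfl)
    rw [h3'] at hmod
    have hle : Fintype.card {y // ρ y = y} ≤ 3 := h3' ▸ Fintype.card_subtype_le _
    have h' : Fintype.card {y // ρ y = y} = 3 := by unfold Nat.ModEq at hmod; omega
    intro x hx
    by_contra hy
    have hlt := Fintype.card_subtype_lt (p := fun z => ρ z = z) (x := ⟨x, hx⟩)
      (fun e => hy (congrArg Subtype.val e))
    omega
  -- count the fixed points of `g`
  have hmem2 : ∀ x, g • ((MulAction.toPermHom G Ω t) x) = (MulAction.toPermHom G Ω t) x ↔
      g • x = x := fun x => by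
    simp only [MulAction.toPermHom_apply, MulAction.toPerm_apply]
    rw [← hcomm, smul_left_cancel_iff]
  set π := (MulAction.toPermHom G Ω t).subtypePerm (p := fun x : Ω => g • x = x) hmem2 with hπ
  have hmod := card_fix_perm_modEq (q := 2) π (by
    ext x
    rw [hπ, Equiv.Perm.subtypePerm_pow, Equiv.Perm.subtypePerm_apply]
    simp only [hτ]
    rfl)
  have hfix : Fintype.card {y // π y = y} = 3 := by
    rw [← h3']
    exact Fintype.card_congr
      { toFun := fun y => ⟨y.1.1, congrArg Subtype.val y.2⟩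
        invFun := fun y => ⟨⟨y.1, hsub _ y.2⟩, Subtype.ext y.2⟩
        left_inv := fun y => rfl
        right_inv := fun y => rfl }
  rw [hfix] at hmod
  have hmod7 := card_fix_perm_modEq (q := 7) (MulAction.toPermHom G Ω g) hσ
  have hcg : Fintype.card {x // (MulAction.toPermHom G Ω g) x = x} =
      Fintype.card {x : Ω // g • x = x} := Fintype.card_congr (Equiv.refl _)
  rw [hΩ, hcg] at hmod7
  have hlt : Fintype.card {x : Ω // g • x = x} ≠ 15 := by
    intro h
    have hall : ∀ x : Ω, g • x = x := by
      intro x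
      by_contra hx
      have := Fintype.card_subtype_lt (p := fun z : Ω => g • z = z) (x := x) hx
      omega
    have hg1 : g = 1 := FaithfulSMul.eq_of_smul_eq_smul (α := Ω) fun x => by rw [one_smul, hall x]
    rw [hg1, orderOf_one] at hg
    omega
  have hle : Fintype.card {x : Ω // g • x = x} ≤ 15 := hΩ ▸ Fintype.card_subtype_le _
  have hge : 3 ≤ Fintype.card {x : Ω // g • x = x} := by
    rw [← h3']
    exact Fintype.card_le_of_injective (fun y => ⟨y.1, hsub _ y.2⟩)
      fun y z e => Subtype.ext (congrArg Subtype.val e :)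
  unfold Nat.ModEq at hmod hmod7
  omega

namespace Hyp

variable (H : Hyp p G Ω a)
include H

theorem not_small_large (D : Data p G a) (hx : D.x = p - 2) (h5 : 5 < p)
    (hprim : IsPreprimitive G Ω) : False := by
  classical
  obtain ⟨α⟩ := H.nonempty_pts
  have hmax : IsCoatom (stabilizer G α) := by
    haveI : Nontrivial Ω := Fintype.one_lt_card_iff_nontrivial.1 (by
      rw [H.hΩ]; have := H.hp3; omega)
    exact MulAction.IsPreprimitive.isCoatom_stabilizer_of_isPreprimitive G α
  have hPc : Nat.card (H.sylow : Subgroup G) = p := by rw [H.coe_sylow, H.card_zpowers]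
  have hnn : ¬ (H.sylow : Subgroup G).Normal := by
    intro hn
    rcases hn.eq_bot_or_eq_top with h | h
    · rw [h, Subgroup.card_bot] at hPc
      exact hp.out.ne_one hPc.symm
    · refine H.nc ?_
      haveI := isCyclic_of_prime_card hPc
      rw [h] at this
      exact ⟨⟨fun x y => congrArg Subtype.val
        ((IsCyclic.commutative (α := (⊤ : Subgroup G))).is_comm.comm ⟨x, Subgroup.mem_top x⟩
          ⟨y, Subgroup.mem_top y⟩)⟩⟩
  have hfaith : ∀ g : G, (D.θ : G → ℂ) g = (D.θ : G → ℂ) 1 → g = 1 := fun g hg =>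
    eq_one_of_map_eq D.θ (fun h => D.one_notMem (h ▸ D.θ_mem)) hg
  obtain ⟨k, F, iF, iF', hpk, hF, ⟨e⟩⟩ := Cfsg.Agent.S4705.result p h5 H.sylow hPc hnn
    (D.θ : G → ℂ) (D.θ).2 hfaith (by rw [D.hx, hx])
  have hZ : Subgroup.center G = ⊥ := by
    rcases (inferInstance : (Subgroup.center G).Normal).eq_bot_or_eq_top with h | h
    · exact h
    · exact absurd ⟨⟨fun x y =>
        (Subgroup.mem_center_iff.1 (h ▸ Subgroup.mem_top y : y ∈ Subgroup.center G) x)⟩⟩ H.nc
  haveI : Unique (Subgroup.center G) := by
    haveI : Subsingleton (Subgroup.center G) := by rw [hZ]; infer_instance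
    exact uniqueOfSubsingleton 1
  let e' : G ≃* Matrix.SpecialLinearGroup (Fin 2) F := e.trans MulEquiv.prodUnique
  haveI : CharP F 2 := by
    obtain ⟨q, hq⟩ := CharP.exists F
    haveI := hq
    obtain ⟨n, hq', hn⟩ := FiniteField.card F q
    have h2 : q ∣ 2 ^ k := hF ▸ hn ▸ dvd_pow_self q n.pos.ne'
    rwa [← (Nat.prime_dvd_prime_iff_eq hq' Nat.prime_two).1 (hq'.dvd_of_dvd_pow h2)]
  set K := (stabilizer G α).map e'.toMonoidHom with hKdef
  have hK : IsCoatom K := (e'.mapSubgroup.isCoatom_iff _).2 hmax
  have hidx : K.index = 3 * p := by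
    rw [hKdef, show (stabilizer G α).map e'.toMonoidHom =
      (stabilizer G α).map (e' : G →* Matrix.SpecialLinearGroup (Fin 2) F) from rfl,
      Subgroup.index_map_equiv, index_stabilizer_of_transitive,
      Nat.card_eq_fintype_card, H.hΩ]
  refine sl2_no_maximal K hK ?_ ?_
  · rw [hidx, hF, hpk]
  · rw [hidx]; exact (by decide : Odd 3).mul H.odd

theorem not_small_five (D : Data p G a) (hf : D.f = p - 1) (hη : D.η = -1) (h5 : p = 5)
    (hprim : IsPreprimitive G Ω) : False := by
  classical
  subst h5
  haveI : Fact (Nat.Prime 2) := ⟨Nat.prime_two⟩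
  obtain ⟨t, hto, ht⟩ := H.exists_inverter
  have ht2 : t * t = 1 := by rw [← pow_two, ← hto, pow_orderOf_eq_one]
  have hΩ : Fintype.card Ω = 15 := by rw [H.hΩ]
  have h3 : Nat.card (fixedBy Ω t) = 3 :=
    (H.card_fix_inverter ht ht2).resolve_left (fix_ne_one_of_fifteen H.nc hΩ hto)
  obtain ⟨s, hs, -⟩ := exists_value_two D.ψ hto
  obtain ⟨hlo, hhi⟩ := H.abs_value_le D.ψ (-1) 0
    (fun b hb hb1 => by rw [D.valψ b hb hb1, hη]) (by rw [D.hf, hf]; norm_num) ht ht2 hs
  obtain rfl : s = 0 := by omega
  have hcnt := H.count_eq D hto ht hs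
  rw [hη, hf] at hcnt
  set c := Nat.card (Subgroup.centralizer ({t} : Set G)) with hcdef
  have heq : Nat.card G * 4 = c ^ 2 * 15 := by
    zify
    norm_num [-Nat.card_eq_fintype_card] at hcnt ⊢
    linarith
  set K := (Nat.card G).factorization 2 with hK
  have hK2 : K = 2 := by
    have h := H.factorization_count (by norm_num) (by norm_num) Nat.card_pos.ne'
      (H.centralizer_two D hto ht) rfl heq
    rw [factorization_two_eq 2 1 (show (4 : ℕ) = 2 ^ 2 * 1 by norm_num) rfl,
      Nat.factorization_eq_zero_of_not_dvd (show ¬ 2 ∣ 15 by norm_num)] at h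
    omega
  obtain ⟨h, hh⟩ : 4 ∣ c := by
    have h1 := H.centralizer_two D hto ht
    rw [← hK, hK2] at h1
    exact (Nat.prime_two.pow_dvd_iff_le_factorization Nat.card_pos.ne').2 h1.ge
  have hG : Nat.card G = 60 * h ^ 2 := by
    refine Nat.eq_of_mul_eq_mul_right (show 0 < 4 by norm_num) ?_
    rw [heq, hh]; ring
  have hhodd : Odd h := by
    rw [← Nat.not_even_iff_odd]
    rintro ⟨j, hj⟩
    have h16 : 2 ^ 4 ∣ Nat.card G := ⟨15 * j ^ 2, by rw [hG, hj]; ring⟩
    have := (Nat.prime_two.pow_dvd_iff_le_factorization Nat.card_pos.ne').1 h16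
    omega
  obtain ⟨α⟩ := H.nonempty_pts
  have hmax : IsCoatom (stabilizer G α) := by
    haveI : Nontrivial Ω := Fintype.one_lt_card_iff_nontrivial.1 (by omega)
    exact MulAction.IsPreprimitive.isCoatom_stabilizer_of_isPreprimitive G α
  have hidx : (stabilizer G α).index = 15 := by
    rw [index_stabilizer_of_transitive, Nat.card_eq_fintype_card, hΩ]
  have hdiv := SmallSimple.card_dvd_factorial_index H.nc (stabilizer G α) hmax.1
  rw [hidx, hG, show Nat.factorial 15 = 120 * 10897286400 by rfl,
    show 2 * (60 * h ^ 2) = 120 * h ^ 2 by ring] at hdiv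
  have hdiv' : h ^ 2 ∣ 10897286400 := Nat.dvd_of_mul_dvd_mul_left (by norm_num) hdiv
  -- seven does not divide the centralizer
  have h7 : ¬ 7 ∣ h := by
    intro h7
    haveI : Fact (Nat.Prime 7) := ⟨by norm_num⟩
    obtain ⟨⟨g, hgC⟩, hgo⟩ := exists_prime_orderOf_dvd_card'
      (G := Subgroup.centralizer ({t} : Set G)) 7 (by
        rw [← hcdef, hh]; exact h7.mul_left 4)
    rw [Subgroup.orderOf_mk] at hgo
    exact not_commute_seven hΩ hto h3 hgo (Subgroup.mem_centralizer_singleton_iff.1 hgC)
  have h5 : ¬ 5 ∣ h := fun h' => H.not_sq_dvd (by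
    obtain ⟨j, hj⟩ := h'
    exact ⟨60 * j ^ 2, by rw [hG, hj]; ring⟩)
  have hh9 : h = 1 ∨ h = 3 ∨ h = 9 := by
    have hle : ∀ q : ℕ, q.Prime → q ∣ h → q = 3 := by
      intro q hq hqo
      have h4' : q ^ 2 ∣ 10897286400 := (pow_dvd_pow_of_dvd hqo 2).trans hdiv'
      have hq13 : q ≤ 13 := by
        by_contra hgt
        have : q ∣ 2 ^ 8 * 3 ^ 5 * 5 ^ 2 * 7 ^ 2 * 11 * 13 :=
          (dvd_pow_self q two_ne_zero).trans h4'
        simp only [hq.dvd_mul] at this
        rcases this with ((((h | h) | h) | h) | h) | h <;>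
          first
          | (have := Nat.le_of_dvd (by norm_num) (hq.dvd_of_dvd_pow h); omega)
          | (have := Nat.le_of_dvd (by norm_num) h; omega)
      have := hq.two_le
      have hq2 : q ≠ 2 := fun e => Nat.not_even_iff_odd.2 hhodd (even_iff_two_dvd.2 (e ▸ hqo))
      have hq5 : q ≠ 5 := fun e => h5 (e ▸ hqo)
      have hq7 : q ≠ 7 := fun e => h7 (e ▸ hqo)
      interval_cases q <;> first
        | rfl
        | omega
        | (exfalso; norm_num at hq; done)
        | (exfalso; norm_num at h4'; done)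
    obtain ⟨j, rfl⟩ : ∃ j, h = 3 ^ j := ⟨_, Nat.eq_prime_pow_of_unique_prime_dvd hhodd.pos.ne'
      fun {q} hq hqo => hle q hq hqo⟩
    rcases Nat.lt_or_ge j 3 with hj | hj
    · interval_cases j <;> norm_num
    · exfalso
      have : (3 ^ 3) ^ 2 ∣ 10897286400 := (pow_dvd_pow_of_dvd (pow_dvd_pow 3 hj) 2).trans hdiv'
      norm_num at this
  rcases hh9 with rfl | rfl | rfl
  · -- order sixty: the point stabiliser is a maximal abelian Sylow subgroup
    obtain ⟨S⟩ := (inferInstance : Nonempty (Sylow 2 (stabilizer G α)))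
    have hst : Nat.card (stabilizer G α) = 2 ^ 2 := by
      have := H.card_stab α
      omega
    let V : Sylow 2 G := Sylow.ofCard (stabilizer G α) (by rw [hst, ← hK, hK2])
    have hVc : (V : Subgroup G) = stabilizer G α := Sylow.coe_ofCard _ _
    haveI : IsMulCommutative (V : Subgroup G) := by
      rw [hVc]
      exact IsPGroup.isMulCommutative_of_card_eq_prime_sq hst
    have hle : (V : Subgroup G) ≤ Subgroup.normalizer ((V : Subgroup G) : Set G) :=
      Subgroup.le_normalizer
    rcases eq_or_lt_of_le hle with hE | hE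
    · refine SmallSimple.not_normalizer_le_centralizer H.nc 2 (hto ▸ orderOf_dvd_natCard t) V ?_
      rw [← hE]
      exact Subgroup.le_centralizer _
    · have htop := hmax.2 _ (hVc ▸ hE : stabilizer G α < _)
      have hn : (stabilizer G α).Normal := Subgroup.normalizer_eq_top_iff.1 htop
      rcases hn.eq_bot_or_eq_top with h' | h'
      · rw [h', Subgroup.card_bot] at hst; omega
      · exact hmax.1 h'
  · -- order 540
    obtain ⟨P⟩ := (inferInstance : Nonempty (Sylow 5 G))
    have hmod := card_sylow_modEq_one 5 G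
    have hn : Nat.card (Sylow 5 G) * 10 = 540 := by
      rw [Sylow.card_eq_index_normalizer H.sylow]
      change (Subgroup.normalizer (Subgroup.zpowers a : Set G)).index * 10 = 540
      conv_rhs => rw [show 540 = Nat.card G by rw [hG]; norm_num]
      rw [← (Subgroup.normalizer (Subgroup.zpowers a : Set G)).card_mul_index, H.hN, mul_comm]
    unfold Nat.ModEq at hmod
    omega
  · -- order 4860
    haveI : Fact (Nat.Prime 3) := ⟨Nat.prime_three⟩
    obtain ⟨P⟩ := (inferInstance : Nonempty (Sylow 3 G))
    have hd : 3 ∣ Nat.card G := ⟨1620, by rw [hG]; norm_num⟩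
    have hPc : Nat.card (P : Subgroup G) = 3 ^ 5 := by
      rw [P.card_eq_multiplicity, hG]
      congr 1
      rw [show 60 * 9 ^ 2 = 3 ^ 5 * 20 by norm_num, Nat.factorization_mul (by norm_num) (by norm_num),
        Finsupp.add_apply, Nat.prime_three.factorization_pow, Finsupp.single_eq_same,
        Nat.factorization_eq_zero_of_not_dvd (show ¬ 3 ∣ 20 by norm_num)]
    set N := Subgroup.normalizer ((P : Subgroup G) : Set G) with hNdef
    have hNtop : N ≠ ⊤ := SmallSimple.normalizer_ne_top H.nc 3 hd P
    have hmod := card_sylow_modEq_one 3 G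
    rw [Sylow.card_eq_index_normalizer P] at hmod
    change N.index ≡ 1 [MOD 3] at hmod
    have hNi : N.index ∣ 20 := by
      have h1 : N.index ∣ (P : Subgroup G).index :=
        Subgroup.index_dvd_of_le Subgroup.le_normalizer
      have h2 := (P : Subgroup G).card_mul_index
      rw [hPc, hG] at h2
      rwa [show (P : Subgroup G).index = 20 by omega] at h1
    have hfac := SmallSimple.card_dvd_factorial_index H.nc N hNtop
    have hle : N.index ≤ 20 := Nat.le_of_dvd (by norm_num) hNi
    have h10 : N.index ≤ 10 := by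
      rcases Nat.lt_or_ge N.index 11 with h | h
      · omega
      · exfalso
        have : N.index = 20 := by
          obtain ⟨m, hm⟩ := hNi
          have : m < 2 := by nlinarith
          interval_cases m <;> omega
        rw [this] at hmod
        exact absurd hmod (by decide)
    have := hfac.trans (Nat.factorial_dvd_factorial h10)
    rw [hG, show Nat.factorial 10 = 3628800 by rfl] at this
    norm_num at this

theorem not_small (D : Data p G a) (hx : D.x = p - 2) (hf : D.f = p - 1) (hη : D.η = -1)
    (hprim : IsPreprimitive G Ω) : False := by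
  rcases Nat.lt_or_ge 5 p with h | h
  · exact H.not_small_large D hx h hprim
  · refine H.not_small_five D hf hη ?_ hprim
    have := H.hp3
    rcases (show p = 4 ∨ p = 5 by omega) with rfl | rfl
    · exact absurd hp.out (by norm_num)
    · rfl

end Hyp

end CfsgLib.ItoThreeP
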