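import Cfsg.Agent.ItoThreeP.Degrees
import Cfsg.Agent.Chars.Basic.Commutators

/-!
# The suborbits when `f = 2p - 1`
-/

set_option autoImplicit false
set_option linter.style.haveILetI false
set_option linter.unusedSectionVars false

namespace CfsgLib.ItoThreeP

open Cfsg CfsgLib MulAction
open scoped ComplexConjugate

universe u v

section General

variable {G : Type u} [Group G] [Fintype G] {Ω : Type v} [Fintype Ω] [MulAction G Ω]

/-- The character sum over the elements carrying `α` to `δ`. -/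
noncomputable def cosetSum (χ : G → ℂ) (α δ : Ω) : ℂ := by
  classical exact ∑ g ∈ Finset.univ.filter (fun g : G => g • α = δ), χ g

theorem cosetSum_smul {χ : G → ℂ} (hχ : IsClassFunction G χ) (α δ : Ω) {h : G} (hh : h • α = α) :
    cosetSum χ α (h • δ) = cosetSum χ α δ := by
  classical
  refine (Finset.sum_equiv (MulAut.conj h).toEquiv (fun g => ?_) (fun g _ => (hχ g h).symm)).symm
  have hh' : h⁻¹ • α = α := inv_smul_eq_iff.2 hh.symm
  simp only [Finset.mem_filter, Finset.mem_univ, true_and, MulEquiv.toEquiv_eq_coe,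
    EquivLike.coe_coe, MulAut.conj_apply, mul_smul, hh']
  exact ⟨fun e => by rw [e], fun e => MulAction.injective h e⟩

theorem sum_cosetSum (χ : G → ℂ) (α : Ω) : ∑ δ, cosetSum χ α δ = ∑ g, χ g := by
  classical
  exact Finset.sum_fiberwise _ _ _

theorem cosetSum_self [IsPretransitive G Ω] (χ : IrrCharacter G) (α : Ω) {c : ℕ}
    (hc : classInner (Chars.PermChar.fixChar G Ω) (χ : G → ℂ) = c) :
    cosetSum (χ : G → ℂ) α α = (Nat.card (stabilizer G α) * c : ℕ) := by
  classical
  have hconst : ∀ δ : Ω, cosetSum (fun g => conj ((χ : G → ℂ) g)) δ δ =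
      conj (cosetSum (χ : G → ℂ) α α) := by
    intro δ
    obtain ⟨h, rfl⟩ := MulAction.exists_smul_eq G α δ
    unfold cosetSum
    rw [map_sum]
    refine Finset.sum_equiv (MulAut.conj h⁻¹).toEquiv (fun g => ?_) (fun g _ => ?_)
    · simp only [Finset.mem_filter, Finset.mem_univ, true_and, MulEquiv.toEquiv_eq_coe,
        EquivLike.coe_coe, MulAut.conj_apply, inv_inv, mul_smul, inv_smul_eq_iff]
    · simp only [MulEquiv.toEquiv_eq_coe, EquivLike.coe_coe, MulAut.conj_apply]
      rw [Chars.isClassFunction_coe χ g h⁻¹]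
  have h1 : classInner (Chars.PermChar.fixChar G Ω) (χ : G → ℂ) =
      (Nat.card G : ℂ)⁻¹ * ∑ δ : Ω, cosetSum (fun g => conj ((χ : G → ℂ) g)) δ δ := by
    simp only [classInner, cosetSum, Finset.sum_filter]
    rw [Finset.sum_comm]
    congr 1
    refine Finset.sum_congr rfl fun g _ => ?_
    rw [← Finset.sum_filter, Finset.sum_const, nsmul_eq_mul]
    congr 1
    simp only [Chars.PermChar.fixChar]
    congr 1
    rw [Nat.card_eq_fintype_card, ← Set.toFinset_card]
    congr 1
    ext x
    simp [mem_fixedBy]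
  rw [hc, Finset.sum_congr rfl fun δ _ => hconst δ, Finset.sum_const, Finset.card_univ,
    nsmul_eq_mul] at h1
  have hstab : (Fintype.card Ω : ℂ) * Nat.card (stabilizer G α) = Nat.card G := by
    rw [← Nat.cast_mul, ← Subgroup.card_mul_index (stabilizer G α),
      index_stabilizer_of_transitive, Nat.card_eq_fintype_card (α := Ω), mul_comm]
  have hΩ0 : (Fintype.card Ω : ℂ) ≠ 0 := by
    rw [Nat.cast_ne_zero]; exact (Fintype.card_pos_iff.2 ⟨α⟩).ne'
  have h2 : conj (cosetSum (χ : G → ℂ) α α) = (Nat.card (stabilizer G α) * c : ℕ) := by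
    rw [← hstab] at h1
    have hst0 : (Nat.card (stabilizer G α) : ℂ) ≠ 0 := Nat.cast_ne_zero.2 Nat.card_pos.ne'
    field_simp at h1
    push_cast
    linear_combination -h1
  have h3 := congrArg conj h2
  rwa [Complex.conj_conj, Complex.conj_natCast] at h3

theorem sum_normSq_cosetSum (χ : IrrCharacter G) (α : Ω) :
    ∑ δ : Ω, cosetSum (χ : G → ℂ) α δ * conj (cosetSum (χ : G → ℂ) α δ) =
      (Nat.card G : ℂ) / (χ : G → ℂ) 1 * conj (cosetSum (χ : G → ℂ) α α) := by
  classical
  have hconj : ∀ x : G, conj ((χ : G → ℂ) x) = (χ : G → ℂ) x⁻¹ :=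
    fun x => Chars.conj_eq_map_inv (Chars.isCharacter_coe χ) x
  calc ∑ δ : Ω, cosetSum (χ : G → ℂ) α δ * conj (cosetSum (χ : G → ℂ) α δ)
      = ∑ g : G, (χ : G → ℂ) g * conj (cosetSum (χ : G → ℂ) α (g • α)) := by
        rw [← Finset.sum_fiberwise Finset.univ (fun g : G => g • α)]
        refine Finset.sum_congr rfl fun δ _ => ?_
        conv_lhs => arg 1; unfold cosetSum
        rw [Finset.sum_mul]
        exact Finset.sum_congr rfl fun g hg => by rw [(Finset.mem_filter.1 hg).2]
    _ = ∑ g : G, ∑ h ∈ Finset.univ.filter (fun h : G => h • α = α),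
          (χ : G → ℂ) g * (χ : G → ℂ) (g⁻¹ * h⁻¹) := by
        refine Finset.sum_congr rfl fun g _ => ?_
        unfold cosetSum
        rw [map_sum, Finset.mul_sum]
        refine Finset.sum_equiv (Equiv.mulLeft g⁻¹) (fun x => ?_) (fun x _ => ?_)
        · simp [mul_smul, inv_smul_eq_iff]
        · rw [hconj, Equiv.coe_mulLeft, mul_inv_rev, inv_inv,
            Chars.classFunction_mul_comm (Chars.isClassFunction_coe χ) g⁻¹ (x⁻¹ * g),
            mul_assoc, mul_inv_cancel, mul_one]
    _ = _ := by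
        unfold cosetSum
        rw [Finset.sum_comm, map_sum, Finset.mul_sum]
        refine Finset.sum_congr rfl fun h _ => ?_
        rw [Chars.sum_map_mul_map_inv_mul, hconj]
        ring

/-- A character that is no constituent has vanishing sums on the cosets of a point stabiliser. -/
theorem cosetSum_eq_zero [IsPretransitive G Ω] (χ : IrrCharacter G)
    (hc : classInner (Chars.PermChar.fixChar G Ω) (χ : G → ℂ) = 0) (α δ : Ω) :
    cosetSum (χ : G → ℂ) α δ = 0 := by
  have h := sum_normSq_cosetSum χ α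
  rw [cosetSum_self χ α (c := 0) (by simpa using hc), mul_zero, Nat.cast_zero, map_zero,
    mul_zero] at h
  simp only [Complex.mul_conj] at h
  have h0 := (Finset.sum_eq_zero_iff_of_nonneg
    fun δ (_ : δ ∈ (Finset.univ : Finset Ω)) => Complex.normSq_nonneg
      (cosetSum (χ : G → ℂ) α δ)).1 (by exact_mod_cast h) δ (Finset.mem_univ δ)
  exact Complex.normSq_eq_zero.1 h0

end General

variable {p : ℕ} [hp : Fact p.Prime] {G : Type u} [Group G] [Fintype G] [IsSimpleGroup G]
  {Ω : Type v} [Fintype Ω] [MulAction G Ω] [FaithfulSMul G Ω] [IsPretransitive G Ω] {a : G}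

namespace Hyp

variable (H : Hyp p G Ω a)
include H

/-- The lengths of the suborbits. -/
theorem suborbit_length (D : Data p G a) (hf : D.f = 2 * p - 1) (hη : D.η = -1) (hε : D.ε = -1)
    (φ : IrrCharacter G) (h1 : φ ≠ Chars.oneChar G) (h2 : φ ≠ D.ψ) (h3 : φ ∉ D.Y)
    (hπ : ∀ g : G, Chars.PermChar.fixChar G Ω g = 1 + (D.ψ : G → ℂ) g + (φ : G → ℂ) g)
    (α β : Ω) (hβ : β ≠ α) :
    ∃ b : ℤ, 2 * (p : ℤ) = 6 * b ^ 2 + 3 * b + 1 ∧
      (2 * (Nat.card (orbit (stabilizer G α) β) : ℤ) = (2 * b + 1) * (3 * b + 1) ∨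
        (Nat.card (orbit (stabilizer G α) β) : ℤ) = 2 * b * (3 * b + 1)) := by
  classical
  have hp3 := H.hp3
  set π := Chars.PermChar.fixChar G Ω with hπd
  have hinner : ∀ χ : IrrCharacter G, classInner π (χ : G → ℂ) =
      (if χ = Chars.oneChar G then 1 else 0) + (if χ = D.ψ then 1 else 0) +
        (if χ = φ then 1 else 0) := by
    intro χ
    have e : π = fun g => ((Chars.oneChar G : IrrCharacter G) : G → ℂ) g +
        (D.ψ : G → ℂ) g + (φ : G → ℂ) g := funext fun g => by rw [hπ g, Chars.oneChar_apply]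
    rw [e]
    have e2 : classInner (fun g => ((Chars.oneChar G : IrrCharacter G) : G → ℂ) g +
        (D.ψ : G → ℂ) g + (φ : G → ℂ) g) (χ : G → ℂ) =
        classInner ((Chars.oneChar G : IrrCharacter G) : G → ℂ) (χ : G → ℂ) +
          classInner (D.ψ : G → ℂ) (χ : G → ℂ) + classInner (φ : G → ℂ) (χ : G → ℂ) := by
      rw [← Chars.classInner_add_left, ← Chars.classInner_add_left]
      rfl
    rw [e2]
    simp only [Chars.classInner_irr, eq_comm (a := χ)]
  have hcψ : classInner π (D.ψ : G → ℂ) = ((1 : ℕ) : ℂ) := by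
    rw [hinner, if_neg D.ψ_ne, if_pos rfl, if_neg h2.symm]; simp
  have hcY : ∀ χ ∈ D.Y, classInner π (χ : G → ℂ) = 0 := fun χ hχ => by
    rw [hinner, if_neg fun e => D.one_notMem (by rwa [← e]),
      if_neg fun e => D.ψ_notMem (by rwa [← e]), if_neg fun e => h3 (by rwa [← e])]
    simp
  have hrank : (Nat.card (MulAction.orbitRel.Quotient (stabilizer G α) Ω) : ℂ) = 3 := by
    rw [← Chars.PermChar.classInner_fixChar_self]
    have e : ∀ g, π g = ((Chars.oneChar G : IrrCharacter G) : G → ℂ) g +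
        (D.ψ : G → ℂ) g + (φ : G → ℂ) g := fun g => by rw [hπ g, Chars.oneChar_apply]
    have hs := Chars.classInner_conj_symm π π
    have e2 : classInner π π = classInner ((Chars.oneChar G : IrrCharacter G) : G → ℂ) π +
          classInner (D.ψ : G → ℂ) π + classInner (φ : G → ℂ) π := by
      rw [← Chars.classInner_add_left, ← Chars.classInner_add_left]
      congr 1
      exact funext e
    rw [e2, ← Chars.classInner_conj_symm π, ← Chars.classInner_conj_symm π (D.ψ : G → ℂ),
      ← Chars.classInner_conj_symm π (φ : G → ℂ), hinner, hinner, hinner]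
    simp [D.ψ_ne, D.ψ_ne.symm, h1, h1.symm, h2, h2.symm]
    norm_num
  have hrank' : Nat.card (MulAction.orbitRel.Quotient (stabilizer G α) Ω) = 3 := by
    exact_mod_cast hrank
  set Hs := stabilizer G α with hHs
  set O : Finset Ω := Finset.univ.filter fun δ => δ ∈ orbit Hs β with hO
  have hk : Nat.card (orbit Hs β) = O.card := by
    rw [Nat.card_eq_fintype_card, hO, ← Set.toFinset_card]
    congr 1
    ext; simp
  have hαO : α ∉ O := fun h => by
    obtain ⟨⟨g, hg⟩, hgβ⟩ := (Finset.mem_filter.1 h).2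
    have h' : g • β = α := hgβ
    exact hβ (MulAction.injective g (h'.trans (mem_stabilizer_iff.1 hg).symm))
  set O' : Finset Ω := Finset.univ \ insert α O with hO'
  have hkk : O.card + O'.card + 1 = 3 * p := by
    have h := Finset.card_sdiff_add_card_eq_card (Finset.subset_univ (insert α O))
    rw [← hO', Finset.card_insert_of_notMem hαO, Finset.card_univ, H.hΩ] at h
    omega
  let q : Ω → MulAction.orbitRel.Quotient Hs Ω := fun x => Quotient.mk'' x
  have hq : ∀ x y, q x = q y ↔ x ∈ orbit Hs y := fun x y => Quotient.eq''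
  have hqα : ∀ x, q x = q α → x = α := by
    intro x hx
    obtain ⟨⟨g, hg⟩, rfl⟩ := (hq x α).1 hx
    exact mem_stabilizer_iff.1 hg
  have hone : ∀ δ ∈ O', ∀ δ' ∈ O', ∃ h : G, h • α = α ∧ h • δ' = δ := by
    intro δ hδ δ' hδ'
    simp only [hO', hO, Finset.mem_sdiff, Finset.mem_univ, true_and, Finset.mem_insert,
      Finset.mem_filter, not_or] at hδ hδ'
    haveI : Fintype (MulAction.orbitRel.Quotient Hs Ω) := Fintype.ofFinite _
    by_cases e : q δ = q δ'
    · obtain ⟨⟨g, hg⟩, hgδ⟩ := (hq δ δ').1 e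
      exact ⟨g, hg, hgδ⟩
    · exfalso
      have h4 : ({q α, q β, q δ, q δ'} : Finset _).card ≤ 3 := by
        rw [← hrank', Nat.card_eq_fintype_card]
        exact Finset.card_le_univ _
      rw [Finset.card_insert_of_notMem, Finset.card_insert_of_notMem, Finset.card_pair e] at h4
      · omega
      · simp only [Finset.mem_insert, Finset.mem_singleton, not_or]
        exact ⟨fun h => hδ.2 ((hq δ β).1 h.symm), fun h => hδ'.2 ((hq δ' β).1 h.symm)⟩
      · simp only [Finset.mem_insert, Finset.mem_singleton, not_or]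
        exact ⟨fun h => hβ (hqα β h.symm), fun h => hδ.1 (hqα δ h.symm),
          fun h => hδ'.1 (hqα δ' h.symm)⟩
  have hO'ne : O'.Nonempty := by
    haveI : Fintype (MulAction.orbitRel.Quotient Hs Ω) := Fintype.ofFinite _
    by_contra hne
    rw [Finset.not_nonempty_iff_eq_empty] at hne
    have h4 : (Finset.univ : Finset (MulAction.orbitRel.Quotient Hs Ω)) ⊆ {q α, q β} := by
      intro z _
      refine Quotient.inductionOn' z fun x => ?_
      have hx : x ∉ O' := by rw [hne]; simp
      simp only [hO', Finset.mem_sdiff, Finset.mem_univ, true_and, not_not, Finset.mem_insert, hO,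
        Finset.mem_filter] at hx
      simp only [Finset.mem_insert, Finset.mem_singleton]
      rcases hx with rfl | hx
      · exact Or.inl rfl
      · exact Or.inr ((hq x β).2 hx)
    have h5 := (Finset.card_le_card h4).trans Finset.card_le_two
    rw [Finset.card_univ, ← Nat.card_eq_fintype_card, hrank'] at h5
    omega
  -- the sums of `ψ`
  set F : Ω → ℂ := fun δ => cosetSum (D.ψ : G → ℂ) α δ with hF
  have hψcl := Chars.isClassFunction_coe D.ψ
  have hFα : F α = (Nat.card Hs : ℂ) := by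
    rw [hF]; show cosetSum _ α α = _
    rw [cosetSum_self D.ψ α hcψ, mul_one]
  have hFO : ∀ δ ∈ O, F δ = F β := by
    intro δ hδ
    obtain ⟨⟨g, hg⟩, rfl⟩ := (Finset.mem_filter.1 hδ).2
    exact cosetSum_smul hψcl α β hg
  obtain ⟨γ, hγ⟩ := hO'ne
  have hFO' : ∀ δ ∈ O', F δ = F γ := by
    intro δ hδ
    obtain ⟨g, hg, rfl⟩ := hone δ hδ γ hγ
    exact cosetSum_smul hψcl α γ hg
  -- the points moved inside the orbital by `a`
  set B := Finset.univ.filter fun g : G => g • α ∈ O with hB
  set T := Finset.univ.filter fun δ : Ω =>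
    ∃ x : G, x • α = δ ∧ x⁻¹ * a * x ∈ B with hT
  have hTx : ∀ x y : G, x • α = y • α → x⁻¹ * a * x ∈ B → y⁻¹ * a * y ∈ B := by
    intro x y e hxB
    simp only [hB, Finset.mem_filter, Finset.mem_univ, true_and, hO] at hxB ⊢
    have hh : y⁻¹ * x ∈ Hs := by
      rw [hHs, mem_stabilizer_iff, mul_smul, e, inv_smul_smul]
    have e2 : (y⁻¹ * a * y) • α = (y⁻¹ * x) • ((x⁻¹ * a * x) • α) := by
      simp only [mul_smul, smul_inv_smul, e]
    rw [e2]
    obtain ⟨g, hg⟩ := hxB
    show (y⁻¹ * x) • ((x⁻¹ * a * x) • α) ∈ orbit Hs β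
    exact ⟨⟨y⁻¹ * x, hh⟩ * g, (mul_smul _ _ _).trans (congrArg _ hg)⟩
  have hcount : ((Nat.card Hs * T.card : ℕ) : ℂ) =
      (Nat.card Hs : ℂ) * O.card - ∑ δ ∈ O, F δ := by
    have hA : (Finset.univ.filter fun x : G => x⁻¹ * a * x ∈ B).card = T.card * Nat.card Hs := by
      rw [Finset.card_eq_sum_card_fiberwise (f := fun x : G => x • α) (t := T)]
      · rw [Finset.sum_const_nat]
        intro δ hδ
        obtain ⟨x₀, rfl, hx₀⟩ := (Finset.mem_filter.1 hδ).2
        rw [Nat.card_eq_fintype_card, Fintype.card_subtype]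
        refine Finset.card_equiv (Equiv.mulLeft x₀⁻¹) fun x => ?_
        simp only [Finset.mem_filter, Finset.mem_univ, true_and, Equiv.coe_mulLeft, hHs,
          mem_stabilizer_iff, mul_smul, inv_smul_eq_iff]
        exact ⟨fun e => e.2, fun e => ⟨hTx x₀ x e.symm hx₀, e⟩⟩
      · intro x hx
        exact Finset.mem_filter.2 ⟨Finset.mem_univ _, x, rfl, (Finset.mem_filter.1 hx).2⟩
    have hone : ∀ g : G, ((Finset.univ.filter fun x : G => x⁻¹ * a * x = g).card : ℂ) =
        ∑ χ : IrrCharacter G, (χ : G → ℂ) g * conj ((χ : G → ℂ) a) := by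
      intro g
      have h := congrArg conj (Chars.sum_irr_mul_conj a g)
      rw [map_sum, apply_ite conj, Complex.conj_natCast, map_zero] at h
      simp only [map_mul, Complex.conj_conj] at h
      rw [Finset.sum_congr rfl fun χ _ => mul_comm _ _, h]
      by_cases hc : IsConj a g
      · rw [if_pos hc, ← card_conj_eq a hc]
        refine congrArg _ (Finset.card_bij (fun x _ => x) (fun x hx => ?_) (fun _ _ _ _ e => e)
          fun x hx => ⟨x, ?_, rfl⟩)
        · simp only [Finset.mem_filter, Finset.mem_univ, true_and] at hx ⊢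
          rw [← hx]; group
        · simp only [Finset.mem_filter, Finset.mem_univ, true_and] at hx ⊢
          rw [← hx]; group
      · rw [if_neg hc, Finset.filter_eq_empty_iff.2, Finset.card_empty, Nat.cast_zero]
        intro x _ hx
        exact hc (isConj_iff.2 ⟨x⁻¹, by rw [inv_inv]; exact hx⟩)
    have hfib : ∀ χ : G → ℂ, ∑ g ∈ B, χ g = ∑ δ ∈ O, cosetSum χ α δ := by
      intro χ
      unfold cosetSum
      rw [← Finset.sum_fiberwise_of_maps_to (s := B) (t := O) (g := fun g : G => g • α)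
        fun g hg => (Finset.mem_filter.1 hg).2]
      refine Finset.sum_congr rfl fun δ hδ => Finset.sum_congr ?_ fun _ _ => rfl
      ext g
      simp only [hB, Finset.mem_filter, Finset.mem_univ, true_and]
      exact ⟨fun e => e.2, fun e => ⟨e ▸ hδ, e⟩⟩
    have hBcard : (B.card : ℂ) = (Nat.card Hs : ℂ) * O.card := by
      have h : (B.card : ℂ) = ∑ g ∈ B, (1 : ℂ) := by simp
      rw [h, hfib, mul_comm, ← nsmul_eq_mul, ← Finset.sum_const]
      refine Finset.sum_congr rfl fun δ _ => ?_
      obtain ⟨x, rfl⟩ := MulAction.exists_smul_eq G α δ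
      unfold cosetSum
      rw [Finset.sum_const, nsmul_eq_mul, mul_one]
      refine congrArg _ ?_
      rw [Nat.card_eq_fintype_card, Fintype.card_subtype]
      refine Finset.card_equiv (Equiv.mulLeft x⁻¹) fun g => ?_
      simp [hHs, mem_stabilizer_iff, mul_smul, inv_smul_eq_iff]
    have h : ((T.card * Nat.card Hs : ℕ) : ℂ) =
        ∑ g ∈ B, ((Finset.univ.filter fun x : G => x⁻¹ * a * x = g).card : ℂ) := by
      rw [← hA, ← Nat.cast_sum, Finset.card_eq_sum_ones, Finset.sum_filter,
        ← Finset.sum_fiberwise Finset.univ (fun x : G => x⁻¹ * a * x)]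
      refine congrArg _ ?_
      rw [← Finset.sum_subset (Finset.subset_univ B) fun g _ hg => Finset.sum_eq_zero fun x hx => by
        rw [if_neg]; rw [(Finset.mem_filter.1 hx).2]; exact hg]
      refine Finset.sum_congr rfl fun g hg => ?_
      rw [Finset.card_eq_sum_ones]
      exact Finset.sum_congr rfl fun x hx => by rw [if_pos]; rw [(Finset.mem_filter.1 hx).2]; exact hg
    rw [mul_comm (Nat.card Hs), h]
    simp only [hone]
    rw [Finset.sum_comm,
      ← Finset.sum_subset (Finset.subset_univ (insert (Chars.oneChar G) (insert D.ψ D.Y)))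
      (fun χ _ hχ => by
        simp only [Finset.mem_insert, not_or] at hχ
        simp [D.vanish χ hχ.1 hχ.2.1 hχ.2.2 a (Subgroup.mem_zpowers a) H.ne_one]),
      Finset.sum_insert (by simp [D.ψ_ne.symm, D.one_notMem]), Finset.sum_insert D.ψ_notMem]
    simp only [← Finset.sum_mul, D.valψ a (Subgroup.mem_zpowers a) H.ne_one, hη,
      Chars.oneChar_apply, map_one, mul_one, Finset.sum_const, nsmul_eq_mul]
    have hY0 : ∑ χ ∈ D.Y, (∑ g ∈ B, (χ : G → ℂ) g) * conj ((χ : G → ℂ) a) = 0 := by
      refine Finset.sum_eq_zero fun χ hχ => ?_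
      rw [hfib, Finset.sum_eq_zero fun δ _ => cosetSum_eq_zero χ (hcY χ hχ) α δ, zero_mul]
    rw [hY0, hfib, hBcard]
    simp only [Int.cast_neg, Int.cast_one, map_neg, map_one, hF]
    ring
  have hpT : p ∣ T.card := by
    haveI : Fintype (Subgroup.zpowers a) := Fintype.ofFinite _
    have hinv : ∀ δ ∈ T, ∀ b ∈ Subgroup.zpowers a, b • δ ∈ T := by
      intro δ hδ b hb
      obtain ⟨x, rfl, hx⟩ := (Finset.mem_filter.1 hδ).2
      refine Finset.mem_filter.2 ⟨Finset.mem_univ _, b * x, mul_smul b x α, ?_⟩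
      have hc : Commute b a := by
        obtain ⟨j, rfl⟩ := Subgroup.mem_zpowers_iff.1 hb
        exact (Commute.refl a).zpow_left j
      rwa [show (b * x)⁻¹ * a * (b * x) = x⁻¹ * (b⁻¹ * (a * b)) * x by group, ← hc.eq,
        inv_mul_cancel_left]
    letI : MulAction (Subgroup.zpowers a) T :=
      { smul := fun b δ => ⟨(b : G) • (δ : Ω), hinv δ δ.2 b b.2⟩
        one_smul := fun δ => Subtype.ext (one_smul G (δ : Ω))
        mul_smul := fun b c δ => Subtype.ext (mul_smul (b : G) (c : G) (δ : Ω)) }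
    have hg : IsPGroup p (Subgroup.zpowers a) :=
      IsPGroup.of_card (n := 1) (by rw [H.card_zpowers, pow_one])
    have h := hg.card_modEq_card_fixedPoints T
    haveI : IsEmpty (fixedPoints (Subgroup.zpowers a) T) := ⟨fun x =>
      H.smul_ne_of_dvd (g := a) (by rw [H.ha]) (x.1 : Ω)
        (congrArg Subtype.val (x.2 ⟨a, Subgroup.mem_zpowers a⟩))⟩
    rw [Nat.card_of_isEmpty (α := fixedPoints (Subgroup.zpowers a) T),
      Nat.card_eq_fintype_card, Fintype.card_coe, Nat.modEq_zero_iff_dvd] at h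
    exact h
  obtain ⟨m, hm⟩ := hpT
  have hm3 : m ≤ 3 := by
    have h := Finset.card_le_univ T
    rw [hm, H.hΩ, mul_comm 3] at h
    exact Nat.le_of_mul_le_mul_left h hp.out.pos
  set h0 : ℂ := (Nat.card Hs : ℂ) with hh0
  have hh : h0 ≠ 0 := Nat.cast_ne_zero.2 Nat.card_pos.ne'
  obtain ⟨r, hr⟩ : ∃ r : ℤ, (r : ℤ) = (O.card : ℤ) - p * m := ⟨_, rfl⟩
  have hsum1 : (O.card : ℂ) * F β = h0 * (r : ℂ) := by
    rw [hm] at hcount
    rw [Finset.sum_congr rfl hFO, Finset.sum_const, nsmul_eq_mul] at hcount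
    push_cast at hcount
    rw [hr]
    push_cast
    linear_combination hcount
  have hpart : ∀ f : Ω → ℂ, ∑ δ, f δ = f α + ∑ δ ∈ O, f δ + ∑ δ ∈ O', f δ := by
    intro f
    rw [← Finset.sum_sdiff (Finset.subset_univ (insert α O)), Finset.sum_insert hαO, ← hO']
    ring
  have hsum2 : (O'.card : ℂ) * F γ = -h0 * (1 + (r : ℂ)) := by
    have h := sum_cosetSum (D.ψ : G → ℂ) α
    have h' : ∑ g : G, (D.ψ : G → ℂ) g = 0 := by
      have h0' := Chars.classInner_of_ne D.ψ_ne
      simp only [classInner, Chars.oneChar_apply, map_one, mul_one] at h0'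
      exact (mul_eq_zero.1 h0').resolve_left (inv_ne_zero Chars.natCard_ne_zero)
    rw [h', hpart, Finset.sum_congr rfl hFO, Finset.sum_congr rfl hFO', Finset.sum_const,
      Finset.sum_const, nsmul_eq_mul, nsmul_eq_mul] at h
    have hFα' : cosetSum (D.ψ : G → ℂ) α α = h0 := hFα
    rw [hFα'] at h
    linear_combination h - hsum1
  have hnorm := sum_normSq_cosetSum D.ψ α
  rw [hpart,
    Finset.sum_congr rfl (fun δ (hδ : δ ∈ O) =>
      show cosetSum (D.ψ : G → ℂ) α δ * conj (cosetSum (D.ψ : G → ℂ) α δ) = F β * conj (F β) by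
        rw [show cosetSum (D.ψ : G → ℂ) α δ = F β from hFO δ hδ]),
    Finset.sum_congr rfl (fun δ (hδ : δ ∈ O') =>
      show cosetSum (D.ψ : G → ℂ) α δ * conj (cosetSum (D.ψ : G → ℂ) α δ) = F γ * conj (F γ) by
        rw [show cosetSum (D.ψ : G → ℂ) α δ = F γ from hFO' δ hδ]),
    Finset.sum_const, Finset.sum_const, nsmul_eq_mul, nsmul_eq_mul,
    show cosetSum (D.ψ : G → ℂ) α α = h0 from hFα, ← Chars.coe_charDegree, D.hf,
    Complex.conj_natCast] at hnorm
  have hcardG : (Nat.card G : ℂ) = 3 * p * h0 := by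
    rw [hh0, ← H.card_stab α, hHs]; push_cast; ring
  rw [hcardG] at hnorm
  have hkpos : 0 < O.card := Finset.card_pos.2 ⟨β, Finset.mem_filter.2
    ⟨Finset.mem_univ _, mem_orbit_self β⟩⟩
  have hk'pos : 0 < O'.card := Finset.card_pos.2 ⟨γ, hγ⟩
  have hkC : (O.card : ℂ) ≠ 0 := Nat.cast_ne_zero.2 hkpos.ne'
  have hk'C : (O'.card : ℂ) ≠ 0 := Nat.cast_ne_zero.2 hk'pos.ne'
  have hFβ : F β = h0 * (r : ℂ) / (O.card : ℂ) := by
    rw [eq_div_iff hkC, mul_comm, hsum1]
  have hFγ : F γ = -h0 * (1 + (r : ℂ)) / (O'.card : ℂ) := by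
    rw [eq_div_iff hk'C, mul_comm, hsum2]
  rw [hFβ, hFγ] at hnorm
  simp only [map_div₀, map_mul, map_neg, map_add, map_one, map_intCast, Complex.conj_natCast, hh0]
    at hnorm
  have hfC : (D.f : ℂ) ≠ 0 := Nat.cast_ne_zero.2 (D.f_pos H).ne'
  have key : (D.f : ℤ) * ((O.card : ℤ) * O'.card + r ^ 2 * O'.card + (1 + r) ^ 2 * O.card) =
      3 * p * O.card * O'.card := by
    refine Int.cast_injective (α := ℂ) ?_
    push_cast
    rw [← hh0] at hnorm
    field_simp at hnorm
    linear_combination hnorm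
  have hfv : (D.f : ℤ) = 2 * p - 1 := by rw [hf]; omega
  have hk' : (O'.card : ℤ) = 3 * p - 1 - O.card := by omega
  have hOr : (O.card : ℤ) = r + p * m := by rw [hr]; ring
  rw [hk', hfv, hOr] at key
  have key2 : (p : ℤ) * (m ^ 2 - 3 * m) + m ^ 2 + 6 * r * m + 6 * r ^ 2 - 3 * r = 0 := by
    have hp2 : (p : ℤ) ^ 2 ≠ 0 := by positivity
    refine mul_left_cancel₀ hp2 ?_
    linear_combination key
  rw [hk]
  rcases (by omega : m = 0 ∨ m = 1 ∨ m = 2 ∨ m = 3) with rfl | rfl | rfl | rfl
  · exfalso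
    have h : r * (2 * r - 1) = 0 := by
      refine mul_left_cancel₀ (show (3 : ℤ) ≠ 0 by norm_num) ?_
      push_cast at key2
      linear_combination key2
    rcases mul_eq_zero.1 h with h | h <;> omega
  · refine ⟨r, by linear_combination -key2, Or.inl ?_⟩
    push_cast at hOr
    linear_combination 2 * hOr - key2
  · refine ⟨-1 - r, by linear_combination -key2, Or.inr ?_⟩
    push_cast at hOr
    linear_combination hOr - key2
  · exfalso
    have h : (r + 1) * (2 * r + 3) = 0 := by
      refine mul_left_cancel₀ (show (3 : ℤ) ≠ 0 by norm_num) ?_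
      push_cast at key2
      linear_combination key2
    rcases mul_eq_zero.1 h with h | h <;> omega

end Hyp

end CfsgLib.ItoThreeP
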