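import Cfsg.Agent.ItoThreeP.Suborbit
import Cfsg.Agent.S0112
import Cfsg.Agent.S0113
import Cfsg.Agent.FusionTwo.Dihedral

/-!
# The Sylow 2-subgroup when every involution fixes three points
-/

set_option autoImplicit false
set_option linter.style.haveILetI false
set_option linter.unusedSectionVars false

namespace CfsgLib.ItoThreeP

open Cfsg CfsgLib MulAction

universe u v

/-- The size of a group acting freely divides the number of points. -/
theorem free_dvd {S : Type u} [Group S] {X : Type v} [Finite X] [MulAction S X]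
    (h : ∀ (g : S) (x : X), g • x = x → g = 1) : Nat.card S ∣ Nat.card X := by
  haveI : Fintype (Quotient (MulAction.orbitRel S X)) := Fintype.ofFinite _
  rw [Nat.card_congr (MulAction.selfEquivSigmaOrbits S X), Nat.card_sigma]
  refine Finset.dvd_sum fun o _ => dvd_of_eq ?_
  refine Nat.card_congr (Equiv.ofBijective (fun g => ⟨g • o.out, mem_orbit _ g⟩) ⟨?_, ?_⟩)
  · intro g g' e
    have e' : g • o.out = g' • o.out := congrArg Subtype.val e
    exact (inv_mul_eq_one.1 (h (g⁻¹ * g') o.out (by rw [mul_smul, ← e', inv_smul_smul])))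
  · rintro ⟨x, g, rfl⟩
    exact ⟨g, rfl⟩

variable {G : Type u} [Group G] [Fintype G] [IsSimpleGroup G]
  {Ω : Type v} [Fintype Ω] [MulAction G Ω] [FaithfulSMul G Ω] [IsPretransitive G Ω]

/-- All involutions are conjugate and fix three points. -/
structure Three (G : Type u) [Group G] (Ω : Type v) [MulAction G Ω] : Prop where
  fix3 : ∀ s : G, orderOf s = 2 → Nat.card (fixedBy Ω s) = 3
  conj : ∀ s s' : G, orderOf s = 2 → orderOf s' = 2 → IsConj s s'

/-- A Sylow 2-subgroup fixing `α`, its central involution `t` fixing `α`, `β`, `γ`, and an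
involution `w` fixing `α`, `δ`, `t • δ` and swapping `β`, `γ`. -/
structure Frame (S : Sylow 2 G) (α β γ δ : Ω) (t w : G) : Prop where
  fixS : ∀ g ∈ (S : Subgroup G), g • α = α
  t_mem : t ∈ (S : Subgroup G)
  t_ord : orderOf t = 2
  t_comm : ∀ g ∈ (S : Subgroup G), Commute g t
  fixt : ∀ x : Ω, t • x = x ↔ x = α ∨ x = β ∨ x = γ
  αβ : α ≠ β
  αγ : α ≠ γ
  βγ : β ≠ γ
  perm : ∀ g ∈ (S : Subgroup G), g • β = β ∧ g • γ = γ ∨ g • β = γ ∧ g • γ = β
  semireg : ∀ g ∈ (S : Subgroup G), g • β = β → g ≠ 1 → ∀ x : Ω, g • x = x → x = α ∨ x = β ∨ x = γ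
  w_mem : w ∈ (S : Subgroup G)
  w_ord : orderOf w = 2
  w_swap : w • β = γ
  δ_out : δ ≠ α ∧ δ ≠ β ∧ δ ≠ γ
  fixw : ∀ x : Ω, w • x = x ↔ x = α ∨ x = δ ∨ x = t • δ
  centw : ∀ g ∈ (S : Subgroup G), Commute g w → g = 1 ∨ g = t ∨ g = w ∨ g = t * w

theorem sq_one_of_ord {x : G} (h : orderOf x = 2) : x * x = 1 := by
  rw [← pow_two, ← h, pow_orderOf_eq_one]

theorem ne_one_of_ord {x : G} (h : orderOf x = 2) : x ≠ 1 := fun e => by simp [e] at h

theorem inv_of_ord {x : G} (h : orderOf x = 2) : x⁻¹ = x :=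
  inv_eq_of_mul_eq_one_left (sq_one_of_ord h)

/-- An involution among the powers of a nontrivial 2-element. -/
theorem exists_involution_pow {S : Sylow 2 G} {g : G} (hg : g ∈ (S : Subgroup G)) (h1 : g ≠ 1) :
    ∃ n : ℕ, orderOf (g ^ n) = 2 := by
  haveI : Fact (Nat.Prime 2) := ⟨Nat.prime_two⟩
  obtain ⟨k, hk⟩ := IsPGroup.iff_orderOf.1 S.2 ⟨g, hg⟩
  rw [Subgroup.orderOf_mk] at hk
  obtain ⟨j, rfl⟩ : ∃ j, k = j + 1 := Nat.exists_eq_succ_of_ne_zero fun h => h1 (by
    rw [h, pow_zero] at hk; exact orderOf_eq_one_iff.1 hk)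
  refine ⟨2 ^ j, ?_⟩
  rw [orderOf_pow' _ (pow_ne_zero _ two_ne_zero), hk,
    Nat.gcd_eq_right (pow_dvd_pow 2 (Nat.le_succ j)), pow_succ,
    Nat.mul_div_cancel_left _ (pow_pos two_pos j)]

theorem smul_pow_eq {g : G} {x : Ω} (h : g • x = x) (n : ℕ) : (g ^ n) • x = x :=
  mem_stabilizer_iff.1 ((stabilizer G x).pow_mem h n)

theorem eq_of_three {x α β γ : Ω} {s : Set Ω} [Finite s] (hc : Nat.card s = 3) (h1 : α ∈ s)
    (h2 : β ∈ s) (h3 : γ ∈ s) (hab : α ≠ β) (hag : α ≠ γ) (hbg : β ≠ γ) (hx : x ∈ s) :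
    x = α ∨ x = β ∨ x = γ := by
  classical
  by_contra h
  push Not at h
  haveI := Fintype.ofFinite s
  have hs : ({x, α, β, γ} : Finset Ω) ⊆ s.toFinset := by
    intro y hy
    simp only [Finset.mem_insert, Finset.mem_singleton] at hy
    rcases hy with rfl | rfl | rfl | rfl <;> simpa
  have hle := Finset.card_le_card hs
  rw [Set.toFinset_card, ← Nat.card_eq_fintype_card, hc, Finset.card_insert_of_notMem (by simp [h]),
    Finset.card_insert_of_notMem (by simp [hab, hag]), Finset.card_pair hbg] at hle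
  omega

/-- Two commuting involutions with `t` central: existence of the frame. -/
theorem exists_frame (T : Three G Ω) (hodd : Odd (Fintype.card Ω)) {K : ℕ}
    (hK : (Nat.card G).factorization 2 = K) (hK1 : 1 ≤ K)
    (hnd : ¬ 2 ^ K ∣ Fintype.card Ω - 3) :
    ∃ (S : Sylow 2 G) (α β γ δ : Ω) (t w : G), Frame S α β γ δ t w := by
  classical
  haveI : Fact (Nat.Prime 2) := ⟨Nat.prime_two⟩
  obtain ⟨S⟩ := (inferInstance : Nonempty (Sylow 2 G))
  have hcard : Nat.card (S : Subgroup G) = 2 ^ K := by rw [S.card_eq_multiplicity, hK]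
  have hndΩ : ¬ 2 ∣ Nat.card Ω := by
    rw [Nat.card_eq_fintype_card]; exact fun h => Nat.not_even_iff_odd.2 hodd (even_iff_two_dvd.2 h)
  obtain ⟨α, hα⟩ := S.isPGroup'.nonempty_fixed_point_of_prime_not_dvd_card Ω hndΩ
  haveI : Nontrivial (S : Subgroup G) := by
    rw [← Finite.one_lt_card_iff_nontrivial, hcard]
    exact Nat.one_lt_two_pow (by omega)
  haveI := S.isPGroup'.center_nontrivial
  obtain ⟨⟨z, hz⟩, hz1⟩ := exists_ne (1 : Subgroup.center (S : Subgroup G))
  obtain ⟨n, hn⟩ := exists_involution_pow z.2 (fun e => hz1 (Subtype.ext (Subtype.ext e)))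
  set t : G := (z : G) ^ n with ht
  have htS : t ∈ (S : Subgroup G) := pow_mem z.2 n
  have htc : ∀ g ∈ (S : Subgroup G), Commute g t := fun g hg =>
    Commute.pow_right (show Commute g (z : G) from
      congrArg Subtype.val (Subgroup.mem_center_iff.1 hz ⟨g, hg⟩)) n
  have hfixS : ∀ g ∈ (S : Subgroup G), g • α = α := fun g hg => hα ⟨g, hg⟩
  obtain ⟨β, γ, hαβ, hαγ, hβγ, hF⟩ : ∃ β γ : Ω, α ≠ β ∧ α ≠ γ ∧ β ≠ γ ∧
      ∀ x : Ω, t • x = x ↔ x = α ∨ x = β ∨ x = γ := by
    have hc := T.fix3 t hn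
    rw [Nat.card_eq_fintype_card, ← Set.toFinset_card] at hc
    obtain ⟨x, y, z', hxy, hxz, hyz, he⟩ := Finset.card_eq_three.1 hc
    have hmem : ∀ q : Ω, t • q = q ↔ q = x ∨ q = y ∨ q = z' := fun q => by
      have := Finset.ext_iff.1 he q
      simpa [Set.mem_toFinset, mem_fixedBy] using this
    rcases (hmem α).1 (hfixS t htS) with rfl | rfl | rfl
    · exact ⟨y, z', hxy, hxz, hyz, hmem⟩
    · exact ⟨x, z', hxy.symm, hyz, hxz, fun q => (hmem q).trans ⟨fun h => by tauto, fun h => by tauto⟩⟩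
    · exact ⟨x, y, hxz.symm, hyz.symm, hxy, fun q => (hmem q).trans ⟨fun h => by tauto, fun h => by tauto⟩⟩
  have hpres : ∀ g ∈ (S : Subgroup G), ∀ q, q = β ∨ q = γ → g • q = β ∨ g • q = γ := by
    intro g hg q hq
    have hq' : t • q = q := (hF q).2 (Or.inr hq)
    have h2 : t • (g • q) = g • q := by rw [← mul_smul, ← (htc g hg).eq, mul_smul, hq']
    rcases (hF _).1 h2 with e | e | e
    · exfalso
      have : q = α := MulAction.injective g (e.trans (hfixS g hg).symm)
      rcases hq with rfl | rfl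
      · exact hαβ this.symm
      · exact hαγ this.symm
    · exact Or.inl e
    · exact Or.inr e
  have hperm : ∀ g ∈ (S : Subgroup G), g • β = β ∧ g • γ = γ ∨ g • β = γ ∧ g • γ = β := by
    intro g hg
    rcases hpres g hg β (Or.inl rfl) with h1 | h1 <;> rcases hpres g hg γ (Or.inr rfl) with h2 | h2
    · exact absurd (MulAction.injective g (h1.trans h2.symm)) hβγ
    · exact Or.inl ⟨h1, h2⟩
    · exact Or.inr ⟨h1, h2⟩
    · exact absurd (MulAction.injective g (h1.trans h2.symm)) hβγ
  have hsemi : ∀ g ∈ (S : Subgroup G), g • β = β → g ≠ 1 → ∀ x : Ω, g • x = x →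
      x = α ∨ x = β ∨ x = γ := by
    intro g hg hgβ hg1 x hx
    have hgγ : g • γ = γ := (hperm g hg).elim (fun h => h.2) fun h => absurd (hgβ.symm.trans h.1) hβγ
    obtain ⟨m, hm⟩ := exists_involution_pow hg hg1
    exact eq_of_three (s := fixedBy Ω (g ^ m)) (T.fix3 _ hm) (smul_pow_eq (hfixS g hg) m)
      (smul_pow_eq hgβ m) (smul_pow_eq hgγ m) hαβ hαγ hβγ (smul_pow_eq hx m)
  -- a point with a nontrivial stabiliser
  obtain ⟨δ, w, hwS, hw1, hwδ, hδ⟩ : ∃ (δ : Ω) (w : G), w ∈ (S : Subgroup G) ∧ w ≠ 1 ∧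
      w • δ = δ ∧ δ ≠ α ∧ δ ≠ β ∧ δ ≠ γ := by
    by_contra hno
    push Not at hno
    have hinv : ∀ g ∈ (S : Subgroup G), ∀ x, x ≠ α → x ≠ β → x ≠ γ →
        g • x ≠ α ∧ g • x ≠ β ∧ g • x ≠ γ := by
      intro g hg x h1 h2 h3
      refine ⟨fun e => h1 (MulAction.injective g (e.trans (hfixS g hg).symm)), fun e => ?_,
        fun e => ?_⟩ <;> rcases hperm g hg with ⟨a1, a2⟩ | ⟨a1, a2⟩
      · exact h2 (MulAction.injective g (e.trans a1.symm))
      · exact h3 (MulAction.injective g (e.trans a2.symm))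
      · exact h3 (MulAction.injective g (e.trans a2.symm))
      · exact h2 (MulAction.injective g (e.trans a1.symm))
    let X : Finset Ω := Finset.univ \ {α, β, γ}
    have hX : ∀ x, x ∈ X ↔ x ≠ α ∧ x ≠ β ∧ x ≠ γ := fun x => by simp [X]
    letI : MulAction (S : Subgroup G) X :=
      { smul := fun g x => ⟨(g : G) • (x : Ω), (hX _).2 (hinv g g.2 x ((hX _).1 x.2).1
          ((hX _).1 x.2).2.1 ((hX _).1 x.2).2.2)⟩
        one_smul := fun x => Subtype.ext (one_smul G (x : Ω))
        mul_smul := fun b c x => Subtype.ext (mul_smul (b : G) (c : G) (x : Ω)) }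
    have hd := free_dvd (S := (S : Subgroup G)) (X := X) fun g x e => by
      by_contra hg
      obtain ⟨h1, h2, h3⟩ := (hX _).1 x.2
      exact h3 (hno x g g.2 (fun e' => hg (Subtype.ext e')) (congrArg Subtype.val e) h1 h2)
    refine hnd ?_
    rw [← hcard]
    convert hd using 1
    rw [Nat.card_eq_fintype_card, Fintype.card_coe, Finset.card_sdiff_of_subset (Finset.subset_univ _),
      Finset.card_univ, Finset.card_insert_of_notMem (by simp [hαβ, hαγ]), Finset.card_pair hβγ]
  have hwβ : w • β = γ := by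
    rcases hperm w hwS with h | h
    · exfalso
      rcases hsemi w hwS h.1 hw1 δ hwδ with e | e | e
      · exact hδ.1 e
      · exact hδ.2.1 e
      · exact hδ.2.2 e
    · exact h.1
  have hfixδ : ∀ g ∈ (S : Subgroup G), g • δ = δ → g = 1 ∨ g = w := by
    intro g hg hgδ
    have key : ∀ v ∈ (S : Subgroup G), v • δ = δ → v • β = β → v = 1 := by
      intro v hv hvδ hvβ
      by_contra hv1
      rcases hsemi v hv hvβ hv1 δ hvδ with e | e | e
      · exact hδ.1 e
      · exact hδ.2.1 e
      · exact hδ.2.2 e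
    rcases hperm g hg with h | h
    · exact Or.inl (key g hg hgδ h.1)
    · refine Or.inr (inv_mul_eq_one.1 (key (w⁻¹ * g) (mul_mem (inv_mem hwS) hg) ?_ ?_)).symm
      · rw [mul_smul, hgδ, inv_smul_eq_iff, hwδ]
      · rw [mul_smul, h.1, inv_smul_eq_iff, hwβ]
  have hwo : orderOf w = 2 := by
    refine orderOf_eq_prime ?_ hw1
    rw [pow_two]
    rcases hfixδ (w * w) (mul_mem hwS hwS) (by rw [mul_smul, hwδ, hwδ]) with h | h
    · exact h
    · exact absurd (mul_eq_left.1 h) hw1
  have htδ : t • δ ≠ δ := fun e => by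
    rcases (hF δ).1 e with e | e | e
    · exact hδ.1 e
    · exact hδ.2.1 e
    · exact hδ.2.2 e
  have htδα : t • δ ≠ α := fun e => hδ.1 (MulAction.injective t (e.trans (hfixS t htS).symm))
  have hfw : ∀ x : Ω, w • x = x ↔ x = α ∨ x = δ ∨ x = t • δ := by
    have h3 : w • (t • δ) = t • δ := by rw [← mul_smul, (htc w hwS).eq, mul_smul, hwδ]
    intro x
    refine ⟨fun hx => eq_of_three (s := fixedBy Ω w) (T.fix3 w hwo) (hfixS w hwS) hwδ h3 hδ.1.symm
      htδα.symm htδ.symm hx, ?_⟩
    rintro (rfl | rfl | rfl)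
    · exact hfixS w hwS
    · exact hwδ
    · exact h3
  refine ⟨S, α, β, γ, δ, t, w, ⟨hfixS, htS, hn, htc, hF, hαβ, hαγ, hβγ, hperm, hsemi, hwS, hwo,
    hwβ, hδ, hfw, ?_⟩⟩
  intro g hg hgw
  have hgx : w • (g • δ) = g • δ := by rw [← mul_smul, ← hgw.eq, mul_smul, hwδ]
  rcases (hfw _).1 hgx with e | e | e
  · exact absurd (MulAction.injective g (e.trans (hfixS g hg).symm)) hδ.1
  · exact (hfixδ g hg e).elim Or.inl fun h => Or.inr (Or.inr (Or.inl h))
  · rcases hfixδ (t⁻¹ * g) (mul_mem (inv_mem htS) hg) (by rw [mul_smul, e, inv_smul_smul]) with h | h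
    · exact Or.inr (Or.inl (inv_mul_eq_one.1 h).symm)
    · exact Or.inr (Or.inr (Or.inr (by rw [← h, mul_inv_cancel_left])))

namespace Frame

variable {S : Sylow 2 G} {α β γ δ : Ω} {t w : G} (F : Frame S α β γ δ t w)
include F

theorem fixed_t : t • α = α ∧ t • β = β ∧ t • γ = γ :=
  ⟨(F.fixt α).2 (Or.inl rfl), (F.fixt β).2 (Or.inr (Or.inl rfl)), (F.fixt γ).2 (Or.inr (Or.inr rfl))⟩

theorem t_ne_w : t ≠ w := fun e => F.βγ (by rw [← F.w_swap, ← e, F.fixed_t.2.1])

theorem tw_swap : (t * w) • β = γ := by rw [mul_smul, F.w_swap, F.fixed_t.2.2]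

theorem tw_ne_one : t * w ≠ 1 := fun e => F.t_ne_w (by
  rw [← inv_of_ord F.w_ord]; exact eq_inv_of_mul_eq_one_left e)

theorem t_mul_w_comm : Commute t w := (F.t_comm w F.w_mem).symm

/-- Half of the Sylow subgroup acts freely outside the three points. -/
theorem half_dvd {K : ℕ} (hK : (Nat.card G).factorization 2 = K) :
    2 ^ K ∣ 2 * (Fintype.card Ω - 3) := by
  classical
  haveI : Fact (Nat.Prime 2) := ⟨Nat.prime_two⟩
  set B : Subgroup (S : Subgroup G) := stabilizer (S : Subgroup G) β with hB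
  have hidx : B.index = 2 := by
    rw [hB, MulAction.index_stabilizer]
    have h : orbit (S : Subgroup G) β = {β, γ} := by
      ext x
      constructor
      · rintro ⟨⟨g, hg⟩, rfl⟩
        rcases F.perm g hg with h | h
        · exact Or.inl h.1
        · exact Or.inr h.1
      · rintro (rfl | rfl)
        · exact mem_orbit_self _
        · exact ⟨⟨w, F.w_mem⟩, F.w_swap⟩
    rw [h, Set.ncard_pair F.βγ]
  have hc : Nat.card B * 2 = 2 ^ K := by
    calc Nat.card B * 2 = Nat.card B * B.index := by rw [hidx]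
      _ = _ := by rw [Subgroup.card_mul_index, S.card_eq_multiplicity, hK]
  let X : Finset Ω := Finset.univ \ {α, β, γ}
  have hX : ∀ x, x ∈ X ↔ x ≠ α ∧ x ≠ β ∧ x ≠ γ := fun x => by simp [X]
  have hinv : ∀ (g : B) (x : X), ((g : (S : Subgroup G)) : G) • (x : Ω) ∈ X := by
    intro g x
    have hgb : ((g : (S : Subgroup G)) : G) • β = β := g.2
    have hgc : ((g : (S : Subgroup G)) : G) • γ = γ :=
      (F.perm _ g.1.2).elim (fun h => h.2) fun h => absurd (hgb.symm.trans h.1) F.βγ
    obtain ⟨h1, h2, h3⟩ := (hX _).1 x.2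
    exact (hX _).2 ⟨fun e => h1 (MulAction.injective _ (e.trans (F.fixS _ g.1.2).symm)),
      fun e => h2 (MulAction.injective _ (e.trans hgb.symm)),
      fun e => h3 (MulAction.injective _ (e.trans hgc.symm))⟩
  letI : MulAction B X :=
    { smul := fun g x => ⟨_, hinv g x⟩
      one_smul := fun x => Subtype.ext (one_smul G (x : Ω))
      mul_smul := fun b c x => Subtype.ext (mul_smul ((b : (S : Subgroup G)) : G) _ (x : Ω)) }
  have hd := free_dvd (S := B) (X := X) fun g x e => by
    by_contra hg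
    obtain ⟨h1, h2, h3⟩ := (hX _).1 x.2
    rcases F.semireg _ g.1.2 g.2 (fun e' => hg (Subtype.ext (Subtype.ext e'))) x
      (congrArg Subtype.val e) with e1 | e1 | e1
    · exact h1 e1
    · exact h2 e1
    · exact h3 e1
  rw [Nat.card_eq_fintype_card (α := X), Fintype.card_coe,
    Finset.card_sdiff_of_subset (Finset.subset_univ _), Finset.card_univ,
    Finset.card_insert_of_notMem (by simp [F.αβ, F.αγ]), Finset.card_pair F.βγ] at hd
  rw [← hc, mul_comm]
  exact Nat.mul_dvd_mul_left 2 hd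

theorem card_ge_four : 4 ≤ Nat.card (S : Subgroup G) := by
  classical
  rw [Nat.card_eq_fintype_card, Fintype.card_subtype]
  refine le_trans ?_ (Finset.card_le_card (s := {1, t, w, t * w}) ?_)
  · rw [Finset.card_insert_of_notMem, Finset.card_insert_of_notMem, Finset.card_pair]
    · intro e
      exact ne_one_of_ord F.t_ord (mul_eq_right.1 e.symm)
    · simp only [Finset.mem_insert, Finset.mem_singleton, not_or]
      refine ⟨F.t_ne_w, fun e => ne_one_of_ord F.w_ord ?_⟩
      exact mul_eq_left.1 e.symm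
    · simp only [Finset.mem_insert, Finset.mem_singleton, not_or]
      exact ⟨(ne_one_of_ord F.t_ord).symm, (ne_one_of_ord F.w_ord).symm, F.tw_ne_one.symm⟩
  · intro x hx
    simp only [Finset.mem_insert, Finset.mem_singleton] at hx
    refine Finset.mem_filter.2 ⟨Finset.mem_univ _, ?_⟩
    rcases hx with rfl | rfl | rfl | rfl
    exacts [one_mem _, F.t_mem, F.w_mem, mul_mem F.t_mem F.w_mem]

/-- The elements of the Sylow subgroup centralising a noncentral involution fixing `β`. -/
theorem cent_noncentral {K : ℕ} (hK : (Nat.card G).factorization 2 = K) (hK3 : 3 ≤ K) {τ : G}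
    (hτ : τ ∈ (S : Subgroup G)) (hτo : orderOf τ = 2) (hτt : τ ≠ t) (hτβ : τ • β = β) :
    ∀ g ∈ (S : Subgroup G), Commute g τ → g = 1 ∨ g = t ∨ g = τ ∨ g = t * τ := by
  classical
  haveI : Fact (Nat.Prime 2) := ⟨Nat.prime_two⟩
  set P := (S : Subgroup G) with hP
  have hcardP : Nat.card P = 2 ^ K := by rw [hP, S.card_eq_multiplicity, hK]
  let w' : P := ⟨w, F.w_mem⟩
  let t' : P := ⟨t, F.t_mem⟩
  set A : Subgroup P := Subgroup.centralizer ({w'} : Set P) with hA
  have hAmem : ∀ g : P, g ∈ A ↔ g = 1 ∨ g = t' ∨ g = w' ∨ g = t' * w' := by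
    intro g
    rw [hA, Subgroup.mem_centralizer_singleton_iff]
    constructor
    · intro h
      rcases F.centw g g.2 (congrArg Subtype.val h) with e | e | e | e
      · exact Or.inl (Subtype.ext e)
      · exact Or.inr (Or.inl (Subtype.ext e))
      · exact Or.inr (Or.inr (Or.inl (Subtype.ext e)))
      · exact Or.inr (Or.inr (Or.inr (Subtype.ext e)))
    · have hc : t' * w' = w' * t' := Subtype.ext F.t_mul_w_comm.eq
      rintro (rfl | rfl | rfl | rfl)
      · simp
      · exact hc
      · rfl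
      · rw [mul_assoc, ← mul_assoc w' t' w', ← hc, mul_assoc]
  have hAcard : Nat.card A = 2 ^ 2 := by
    rw [Nat.card_eq_fintype_card, Fintype.card_subtype]
    rw [show (Finset.univ.filter fun g : P => g ∈ A) = {1, t', w', t' * w'} by
      ext g; simp [hAmem g]]
    rw [Finset.card_insert_of_notMem, Finset.card_insert_of_notMem, Finset.card_pair]
    · rfl
    · exact fun e => ne_one_of_ord F.t_ord (congrArg Subtype.val (mul_eq_right.1 e.symm))
    · simp only [Finset.mem_insert, Finset.mem_singleton, not_or]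
      exact ⟨fun e => F.t_ne_w (congrArg Subtype.val e),
        fun e => ne_one_of_ord F.w_ord (congrArg Subtype.val (mul_eq_left.1 e.symm))⟩
    · simp only [Finset.mem_insert, Finset.mem_singleton, not_or]
      exact ⟨fun e => ne_one_of_ord F.t_ord (congrArg Subtype.val e.symm),
        fun e => ne_one_of_ord F.w_ord (congrArg Subtype.val e.symm),
        fun e => F.tw_ne_one (congrArg Subtype.val e.symm)⟩
  have hAself : Subgroup.centralizer (A : Set P) = A := by
    refine le_antisymm (fun g hg => ?_) fun g hg => ?_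
    · rw [hA, Subgroup.mem_centralizer_singleton_iff]
      exact (hg w' ((hAmem w').2 (Or.inr (Or.inr (Or.inl rfl))))).symm
    · rw [Subgroup.mem_centralizer_iff]
      intro h hh
      have hc : t' * w' = w' * t' := Subtype.ext F.t_mul_w_comm.eq
      have hct : ∀ x : P, Commute x t' := fun x => Subtype.ext (F.t_comm x x.2).eq
      rcases (hAmem g).1 hg with rfl | rfl | rfl | rfl
      · simp
      · exact (hct h).eq
      · rw [hA] at hh
        exact Subgroup.mem_centralizer_singleton_iff.1 hh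
      · have h1 : Commute h w' := by
          rw [hA] at hh
          exact Subgroup.mem_centralizer_singleton_iff.1 hh
        exact ((hct h).mul_right h1).eq
  obtain ⟨C, hC, hCi⟩ := Cfsg.Agent.S0113.result K hK3 hcardP
    (Cfsg.Agent.S0112.result K hcardP A hAcard hAself)
  obtain ⟨c₀, hc₀⟩ := hC.exists_generator (α := C)
  haveI : IsMulCommutative C := IsCyclic.isMulCommutative
  haveI hCn : C.Normal := Subgroup.normal_of_index_eq_two hCi
  have hCcomm : ∀ x y : P, x ∈ C → y ∈ C → Commute x y := fun x y hx hy =>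
    congrArg Subtype.val (mul_comm' (⟨x, hx⟩ : C) ⟨y, hy⟩)
  -- the involution of `C`
  have hone : ∀ x y : P, x ∈ C → y ∈ C → orderOf x = 2 → orderOf y = 2 → x = y := by
    intro x y hx hy hxo hyo
    by_contra hne
    have hle := IsCyclic.card_orderOf_eq_totient (α := C) (d := 2) (by
      rw [← Nat.card_eq_fintype_card]
      exact hxo ▸ Subgroup.orderOf_dvd_natCard C hx)
    rw [Nat.totient_two] at hle
    have h2 : ({⟨x, hx⟩, ⟨y, hy⟩} : Finset C) ⊆ Finset.univ.filter fun z : C => orderOf z = 2 := by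
      intro z hz
      simp only [Finset.mem_insert, Finset.mem_singleton] at hz
      rcases hz with rfl | rfl <;> simp [Subgroup.orderOf_mk, hxo, hyo]
    have := Finset.card_le_card h2
    rw [hle, Finset.card_pair fun e => hne (congrArg Subtype.val e)] at this
    omega
  have ht'o : orderOf t' = 2 := by rw [← F.t_ord, ← Subgroup.orderOf_mk t F.t_mem]
  have hw'o : orderOf w' = 2 := by rw [← F.w_ord, ← Subgroup.orderOf_mk w F.w_mem]
  -- the central involution lies in `C`
  obtain ⟨z, hzC, hzo⟩ : ∃ z ∈ C, orderOf z = 2 := by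
    have h : 2 ∣ Nat.card C := by
      have := C.card_mul_index
      rw [hCi, hcardP, show K = (K - 2) + 2 by omega, pow_add] at this
      exact ⟨2 ^ (K - 2), by omega⟩
    obtain ⟨z, hz⟩ := exists_prime_orderOf_dvd_card' 2 h
    exact ⟨z, z.2, by rw [Subgroup.orderOf_coe, hz]⟩
  have hzc : ∀ g : P, Commute g z := by
    intro g
    have h1 : g * z * g⁻¹ ∈ C := hCn.conj_mem z hzC g
    have h2 : orderOf (g * z * g⁻¹) = 2 := by
      rw [show g * z * g⁻¹ = MulAut.conj g z by simp, MulEquiv.orderOf_eq, hzo]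
    have := hone _ _ h1 hzC h2 hzo
    exact mul_inv_eq_iff_eq_mul.1 this
  have hnonc : ∀ u : P, u = w' ∨ u = t' * w' → ∃ g : P, ¬ Commute g u := by
    intro u hu
    by_contra hno
    push Not at hno
    have hall : ∀ g : P, g ∈ A := by
      intro g
      rw [hA, Subgroup.mem_centralizer_singleton_iff]
      rcases hu with rfl | rfl
      · exact (hno g).eq
      · have h2 : Commute g t' := Subtype.ext (F.t_comm g g.2).eq
        have h3 := h2.inv_right.mul_right (hno g)
        rw [inv_mul_cancel_left] at h3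
        exact h3.eq
    have htop : A = ⊤ := eq_top_iff.2 fun g _ => hall g
    rw [htop, Subgroup.card_top, hcardP] at hAcard
    have := Nat.pow_right_injective le_rfl hAcard
    omega
  have hzt : z = t' := by
    have hzA : z ∈ A := by
      rw [hA, Subgroup.mem_centralizer_singleton_iff]; exact (hzc w').symm.eq
    rcases (hAmem z).1 hzA with e | e | e | e
    · rw [e, orderOf_one] at hzo; omega
    · exact e
    · obtain ⟨g, hg⟩ := hnonc z (Or.inl e)
      exact absurd (hzc g) hg
    · obtain ⟨g, hg⟩ := hnonc z (Or.inr e)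
      exact absurd (hzc g) hg
  subst hzt
  let τ' : P := ⟨τ, hτ⟩
  have hτ'o : orderOf τ' = 2 := by rw [← hτo, ← Subgroup.orderOf_mk τ hτ]
  have hτC : τ' ∉ C := fun h => hτt (congrArg Subtype.val (hone _ _ h hzC hτ'o ht'o))
  have hwC : w' ∉ C := fun h => F.t_ne_w (congrArg Subtype.val (hone _ _ h hzC hw'o ht'o)).symm
  have hin : ∀ x : P, x ∈ C → Commute x τ' → x = 1 ∨ x = t' := by
    intro x hx hxτ
    have hwτ : w' * τ' ∈ C := (Subgroup.mul_mem_iff_of_index_two hCi).2 (iff_of_false hwC hτC)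
    have h2 : Commute x w' := by
      have h3 := (hCcomm x (w' * τ') hx hwτ).mul_right hxτ.inv_right
      rwa [mul_inv_cancel_right] at h3
    have hxA : x ∈ A := by rw [hA, Subgroup.mem_centralizer_singleton_iff]; exact h2.eq
    rcases (hAmem x).1 hxA with e | e | e | e
    · exact Or.inl e
    · exact Or.inr e
    · exact absurd (e ▸ hx) hwC
    · refine absurd (e ▸ hx) fun h => hwC ?_
      have := mul_mem (inv_mem hzC) h
      rwa [inv_mul_cancel_left] at this
  intro g hg hgτ
  by_cases hgC : (⟨g, hg⟩ : P) ∈ C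
  · rcases hin _ hgC (Subtype.ext hgτ.eq) with e | e
    · exact Or.inl (congrArg Subtype.val e)
    · exact Or.inr (Or.inl (congrArg Subtype.val e))
  · have hm : (⟨g, hg⟩ : P) * τ' ∈ C :=
      (Subgroup.mul_mem_iff_of_index_two hCi).2 (iff_of_false hgC hτC)
    rcases hin _ hm ((Commute.mul_left (Subtype.ext hgτ.eq) (Commute.refl _))) with e | e
    · refine Or.inr (Or.inr (Or.inl ?_))
      have e' : g * τ = 1 := congrArg Subtype.val e
      rw [← inv_of_ord hτo]; exact eq_inv_of_mul_eq_one_left e'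
    · refine Or.inr (Or.inr (Or.inr ?_))
      have e' : g * τ = t := congrArg Subtype.val e
      rw [← e', mul_assoc, sq_one_of_ord hτo, mul_one]

end Frame

end CfsgLib.ItoThreeP
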